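import Groth.Agent.L05.StrictGalois.Frac
import Groth.Prelude.Def_Found
import Mathlib.RingTheory.ZariskisMainTheorem
import Mathlib.RingTheory.Polynomial.IsIntegral
import Mathlib.RingTheory.Polynomial.ScaleRoots
import Mathlib.RingTheory.IntegralClosure.IsIntegralClosure.Basic
import Mathlib.RingTheory.Unramified.LocalStructure
import Mathlib.RingTheory.LocalProperties.Reduced

/-!
# Integral elements in total rings of fractions of essentially étale algebras
-/

set_option autoImplicit false

open IsLocalRing Polynomial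
open scoped nonZeroDivisors

namespace Groth.L05.StrictGalois

universe u

/-- The integral closure of a reduced Nagata ring in a reduced finite algebra over its total ring of
fractions is finite. -/
theorem finite_integralClosure_of_finite (A : Type u) [CommRing A] [IsNoetherianRing A] [IsReduced A]
    (hN : CAlg.IsNagata A) (T : Type u) [CommRing T] [IsReduced T] [Algebra A T]
    [Algebra (FractionRing A) T] [IsScalarTower A (FractionRing A) T]
    [Module.Finite (FractionRing A) T] : Module.Finite A (integralClosure A T) := by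
  classical
  haveI := isArtinianRing_fractionRing_of_finite A (Ideal.finite_minimalPrimes_of_isNoetherianRing A ⊥)
  haveI : IsArtinianRing T := IsArtinianRing.of_finite (FractionRing A) T
  have key : ∀ M : MaximalSpectrum T, Module.Finite A (integralClosure A (T ⧸ M.asIdeal)) := by
    intro M
    haveI := M.isMaximal
    letI := Ideal.Quotient.field M.asIdeal
    let p : Ideal A := RingHom.ker (algebraMap A (T ⧸ M.asIdeal))
    haveI : p.IsPrime := RingHom.ker_isPrime _
    letI : Algebra (A ⧸ p) (T ⧸ M.asIdeal) := (RingHom.kerLift (algebraMap A (T ⧸ M.asIdeal))).toAlgebra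
    haveI : IsScalarTower A (A ⧸ p) (T ⧸ M.asIdeal) := .of_algebraMap_eq fun a => rfl
    haveI : FaithfulSMul (A ⧸ p) (T ⧸ M.asIdeal) :=
      (faithfulSMul_iff_algebraMap_injective _ _).2 (RingHom.kerLift_injective _)
    letI : Algebra (FractionRing (A ⧸ p)) (T ⧸ M.asIdeal) := FractionRing.liftAlgebra _ _
    haveI : FiniteDimensional (FractionRing (A ⧸ p)) (T ⧸ M.asIdeal) := by
      obtain ⟨G, hG⟩ := (inferInstance : Module.Finite (FractionRing A) (T ⧸ M.asIdeal)).fg_top
      refine ⟨⟨G, eq_top_iff.2 fun z hztop => ?_⟩⟩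
      clear hztop
      have hz : z ∈ Submodule.span (FractionRing A) (G : Set (T ⧸ M.asIdeal)) := by rw [hG]; trivial
      induction hz using Submodule.span_induction with
      | mem z hz => exact Submodule.subset_span hz
      | zero => exact zero_mem _
      | add z w _ _ hz hw => exact add_mem hz hw
      | smul l z _ hz =>
        obtain ⟨a, s, rfl⟩ := IsLocalization.exists_mk'_eq A⁰ l
        have hu : IsUnit (algebraMap A (T ⧸ M.asIdeal) s) := by
          rw [IsScalarTower.algebraMap_apply A (FractionRing A) (T ⧸ M.asIdeal)]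
          exact (IsLocalization.map_units (M := A⁰) (FractionRing A) s).map _
        have hs : (Ideal.Quotient.mk p (s : A)) ∈ (A ⧸ p)⁰ := mem_nonZeroDivisors_of_ne_zero fun h0 =>
          hu.ne_zero (Ideal.Quotient.eq_zero_iff_mem.1 h0)
        have heq : IsLocalization.mk' (FractionRing A) a s • z =
            IsLocalization.mk' (FractionRing (A ⧸ p)) (Ideal.Quotient.mk p a) ⟨_, hs⟩ • z := by
          refine hu.mul_left_cancel ?_
          rw [← Algebra.smul_def, ← Algebra.smul_def, ← smul_assoc (s : A), Algebra.smul_def (s : A),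
            mul_comm, IsLocalization.mk'_spec, IsScalarTower.algebraMap_smul,
            ← IsScalarTower.algebraMap_smul (A ⧸ p) (s : A) (_ • z), Ideal.Quotient.algebraMap_eq,
            ← smul_assoc, Algebra.smul_def (Ideal.Quotient.mk p (s : A)), mul_comm,
            IsLocalization.mk'_spec, IsScalarTower.algebraMap_smul, ← Ideal.Quotient.algebraMap_eq,
            IsScalarTower.algebraMap_smul]
        rw [heq]
        exact Submodule.smul_mem _ _ hz
    haveI : Module.Finite (A ⧸ p) (integralClosure (A ⧸ p) (T ⧸ M.asIdeal)) :=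
      hN.2 p (T ⧸ M.asIdeal) inferInstance
    haveI : Module.Finite A (integralClosure (A ⧸ p) (T ⧸ M.asIdeal)) := Module.Finite.trans (A ⧸ p) _
    let g : integralClosure A (T ⧸ M.asIdeal) →ₗ[A] integralClosure (A ⧸ p) (T ⧸ M.asIdeal) :=
      { toFun := fun z => ⟨z.1, z.2.tower_top⟩
        map_add' := fun x y => rfl
        map_smul' := fun c x => rfl }
    exact Module.Finite.of_injective g fun x y h => Subtype.ext (congrArg Subtype.val h :)
  let proj : ∀ M : MaximalSpectrum T, integralClosure A T →ₐ[A] integralClosure A (T ⧸ M.asIdeal) :=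
    fun M => ((Ideal.Quotient.mkₐ A M.asIdeal).comp (integralClosure A T).val).codRestrict _
      fun z => z.2.map (Ideal.Quotient.mkₐ A M.asIdeal)
  refine Module.Finite.of_injective (LinearMap.pi fun M => (proj M).toLinearMap)
    fun x y h => Subtype.ext ((IsArtinianRing.equivPi T).injective (funext fun M => ?_))
  exact congrArg Subtype.val (congrFun h M)

/-- Scaling a monic relation. -/
theorem isIntegral_mul_of_coeff {A E : Type u} [CommRing A] [CommRing E] [Algebra A E] (T : Type u)
    [CommRing T] [Algebra A T] [Algebra E T] [IsScalarTower A E T] {x : T} {p : E[X]} (hp : p.Monic)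
    (hx : aeval x p = 0) {s : E} (hc : ∀ i, i < p.natDegree → IsIntegral A (s * p.coeff i))
    (hs : IsIntegral A s) : IsIntegral A (algebraMap E T s * x) := by
  classical
  let C := integralClosure A E
  have hl : scaleRoots p s ∈ lifts (algebraMap C E) := by
    refine (lifts_iff_coeff_lifts _).2 fun i => ?_
    suffices h : IsIntegral A ((scaleRoots p s).coeff i) from ⟨⟨_, h⟩, rfl⟩
    rw [coeff_scaleRoots]
    rcases lt_trichotomy i p.natDegree with h | h | h
    · obtain ⟨k, hk⟩ := Nat.exists_eq_add_of_lt h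
      rw [show p.natDegree - i = k + 1 by omega, pow_succ, ← mul_assoc, mul_comm _ s, ← mul_assoc]
      exact (hc i h).mul (hs.pow k)
    · rw [h, Nat.sub_self, pow_zero, mul_one, hp.coeff_natDegree]
      exact isIntegral_one
    · rw [coeff_eq_zero_of_natDegree_lt h, zero_mul]
      exact isIntegral_zero
  obtain ⟨q, hq, -, hqm⟩ := lifts_and_natDegree_eq_and_monic hl ((monic_scaleRoots_iff s).2 hp)
  have : IsIntegral C (algebraMap E T s * x) := by
    refine ⟨q, hqm, ?_⟩
    rw [← aeval_def, ← aeval_map_algebraMap (A := E), hq]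
    exact scaleRoots_aeval_eq_zero hx
  exact isIntegral_trans (A := C) _ this

section EssEt

variable {A E : Type u} [CommRing A] [IsLocalRing A] [CommRing E] [IsLocalRing E] [Algebra A E]

/-- An essentially étale algebra consists of fractions of integral elements. -/
theorem exists_isUnit_isIntegral (hE : EGA4loc.IsEssentiallyEtale A E) (e : E) :
    ∃ s : E, IsUnit s ∧ IsIntegral A s ∧ IsIntegral A (s * e) := by
  obtain ⟨C, _, _, q, _, hCet, -, ⟨eq⟩⟩ := hE
  haveI : Algebra.QuasiFinite A C := inferInstance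
  obtain ⟨r, hr, hri, hpow⟩ := Algebra.zariskisMainProperty_iff.1
    (Algebra.ZariskisMainProperty.of_finiteType (R := A) q)
  let f : C →ₐ[A] E := eq.symm.toAlgHom.comp (IsScalarTower.toAlgHom A C _)
  have hunit : ∀ c : C, c ∉ q → IsUnit (f c) := fun c hc =>
    (IsLocalization.map_units (Localization.AtPrime q) (⟨c, hc⟩ : q.primeCompl)).map eq.symm
  obtain ⟨c, s, hcs⟩ := IsLocalization.exists_mk'_eq q.primeCompl (eq e)
  obtain ⟨m, hm⟩ := hpow c
  obtain ⟨n, hn⟩ := hpow s
  refine ⟨f (r ^ m * (r ^ n * s)), hunit _ ?_, (((hri.pow m).mul hn).map f), ?_⟩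
  · exact fun h => by
      rcases Ideal.IsPrime.mem_or_mem inferInstance h with h | h
      · exact hr (Ideal.IsPrime.mem_of_pow_mem inferInstance m h)
      · rcases Ideal.IsPrime.mem_or_mem inferInstance h with h | h
        · exact hr (Ideal.IsPrime.mem_of_pow_mem inferInstance n h)
        · exact s.2 h
  · have hse : f (s : C) * e = f c := by
      refine eq.injective ?_
      show eq (eq.symm (algebraMap C _ (s : C)) * e) = eq (eq.symm (algebraMap C _ c))
      rw [map_mul, eq.apply_symm_apply, eq.apply_symm_apply, ← hcs, mul_comm, IsLocalization.mk'_spec]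
    rw [map_mul, map_mul, mul_assoc, mul_assoc, hse, mul_left_comm, ← map_mul f (r ^ m) c]
    exact ((hri.pow n).map f).mul (hm.map f)

theorem exists_isUnit_isIntegral_finset (hE : EGA4loc.IsEssentiallyEtale A E) (F : Finset E) :
    ∃ s : E, IsUnit s ∧ IsIntegral A s ∧ ∀ e ∈ F, IsIntegral A (s * e) := by
  classical
  induction F using Finset.induction with
  | empty => exact ⟨1, isUnit_one, isIntegral_one, by simp⟩
  | insert a F _ ih =>
    obtain ⟨s, hs, hsi, hF⟩ := ih
    obtain ⟨t, ht, hti, hta⟩ := exists_isUnit_isIntegral hE a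
    refine ⟨s * t, hs.mul ht, hsi.mul hti, fun e he => ?_⟩
    rcases Finset.mem_insert.1 he with rfl | he
    · rw [mul_assoc]; exact hsi.mul hta
    · rw [mul_right_comm]; exact (hF e he).mul hti

/-- An element integral over `E` becomes integral over `A` after multiplication by an integral
unit of `E`. -/
theorem exists_isUnit_isIntegral_mul (hE : EGA4loc.IsEssentiallyEtale A E) {T : Type u} [CommRing T]
    [Algebra A T] [Algebra E T] [IsScalarTower A E T] {x : T} (hx : IsIntegral E x) :
    ∃ s : E, IsUnit s ∧ IsIntegral A s ∧ IsIntegral A (algebraMap E T s * x) := by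
  classical
  obtain ⟨p, hp, hroot⟩ := hx
  obtain ⟨s, hs, hsi, hF⟩ := exists_isUnit_isIntegral_finset hE ((Finset.range p.natDegree).image p.coeff)
  exact ⟨s, hs, hsi, isIntegral_mul_of_coeff T hp hroot
    (fun i hi => hF _ (Finset.mem_image_of_mem _ (Finset.mem_range.2 hi))) hsi⟩

end EssEt

/-- Key step: in a reduced Artinian algebra `T`, an element `x` of an Artinian subalgebra `L`
becomes integral after multiplication by an integral element of `L` outside a given prime, provided
it does so after multiplication by an integral element of `T` outside that prime. -/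
theorem exists_mul_isIntegral_notMem {A T : Type u} [CommRing A] [CommRing T] [IsReduced T]
    [IsArtinianRing T] [Algebra A T] (L D' E' : Subalgebra A T) [IsArtinianRing L]
    (hDL : D' ≤ L) (hDE : D' ≤ E') (hint : ∀ y ∈ L, IsIntegral A y → y ∈ D')
    (M : Ideal E') [M.IsPrime] {x u : T} (hx : x ∈ D') (hu : u ∈ E') (huM : (⟨u, hu⟩ : E') ∉ M)
    (hui : IsIntegral A u) (hux : IsIntegral A (u * x)) :
    ∃ (t : T) (ht : t ∈ D'), IsIntegral A t ∧ (⟨t, hDE ht⟩ : E') ∉ M ∧ IsIntegral A (t * x) := by
  classical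
  haveI : Fintype (MaximalSpectrum T) := Fintype.ofFinite _
  obtain ⟨Mt, hMt⟩ : ∃ Mt : MaximalSpectrum T, Mt.asIdeal.comap E'.val.toRingHom ≤ M := by
    have hle : (Finset.univ : Finset (MaximalSpectrum T)).inf
        (fun Mt => Mt.asIdeal.comap E'.val.toRingHom) ≤ M := fun z hz => by
      have : z = 0 := Subtype.ext ((IsArtinianRing.equivPi T).injective (funext fun Mt => by
        rw [show ((0 : E') : T) = 0 from rfl, map_zero]
        exact Ideal.Quotient.eq_zero_iff_mem.2
          ((Finset.inf_le (f := fun Mt : MaximalSpectrum T => Mt.asIdeal.comap E'.val.toRingHom)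
            (Finset.mem_univ Mt)) hz)))
      rw [this]
      exact M.zero_mem
    obtain ⟨Mt, -, h⟩ := (Ideal.IsPrime.inf_le' inferInstance).1 hle
    exact ⟨Mt, h⟩
  have hMt' : ∀ {z : T} (hz : z ∈ E'), z ∈ Mt.asIdeal → (⟨z, hz⟩ : E') ∈ M := fun hz h => hMt h
  haveI := Mt.isMaximal
  let P : Ideal L := Mt.asIdeal.comap L.val.toRingHom
  haveI : P.IsPrime := Ideal.IsPrime.comap _
  haveI : P.IsMaximal := IsArtinianRing.isMaximal_of_isPrime P
  haveI : IsReduced L := isReduced_of_injective L.val Subtype.val_injective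
  let P₀ : MaximalSpectrum L := ⟨P, inferInstance⟩
  let e : L := (IsArtinianRing.equivPi L).symm (Pi.single P₀ 1)
  have he : ∀ Q : MaximalSpectrum L, Ideal.Quotient.mk Q.asIdeal e = Pi.single (M := fun Q : MaximalSpectrum L => L ⧸ Q.asIdeal) P₀ 1 Q :=
    fun Q => congrFun ((IsArtinianRing.equivPi L).apply_symm_apply _) Q
  have heP : Ideal.Quotient.mk P e = 1 := by
    have := he P₀
    rwa [Pi.single_eq_same] at this
  have heQ : ∀ Q : MaximalSpectrum L, Q ≠ P₀ → Ideal.Quotient.mk Q.asIdeal e = 0 := fun Q hQ => by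
    rw [he Q, Pi.single_eq_of_ne hQ]
  have hzero : ∀ z : L, (∀ Q : MaximalSpectrum L, Ideal.Quotient.mk Q.asIdeal z = 0) → z = 0 :=
    fun z hz => (IsArtinianRing.equivPi L).injective (funext fun Q => by rw [map_zero]; exact hz Q)
  -- elements of `L` congruent to integral elements
  have hlift : ∀ c : L ⧸ P, IsIntegral A c → ∃ w : L, IsIntegral A w ∧ Ideal.Quotient.mk P w = c := by
    intro c hc
    obtain ⟨c₀, rfl⟩ := Ideal.Quotient.mk_surjective c
    obtain ⟨p, hp, hpc⟩ := hc
    refine ⟨e * c₀, ⟨X * p, monic_X.mul hp, hzero _ fun Q => ?_⟩, by rw [map_mul, heP, one_mul]⟩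
    rw [eval₂_mul, eval₂_X, map_mul, map_mul, hom_eval₂]
    by_cases hQ : Q = P₀
    · subst hQ
      rw [show Ideal.Quotient.mk P₀.asIdeal e = 1 from heP, one_mul, map_mul,
        show Ideal.Quotient.mk P₀.asIdeal e = 1 from heP, one_mul]
      exact mul_eq_zero_of_right _ hpc
    · rw [heQ Q hQ, zero_mul, zero_mul]
  -- the residue field of `L`
  letI := Ideal.Quotient.field P
  letI := Ideal.Quotient.field Mt.asIdeal
  letI : Algebra (L ⧸ P) (T ⧸ Mt.asIdeal) := (Ideal.quotientMap Mt.asIdeal L.val.toRingHom le_rfl).toAlgebra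
  haveI : IsScalarTower A (L ⧸ P) (T ⧸ Mt.asIdeal) := .of_algebraMap_eq fun a => rfl
  set ū : T ⧸ Mt.asIdeal := Ideal.Quotient.mk _ u with hudef
  have hūA : IsIntegral A ū := hui.map (Ideal.Quotient.mkₐ A Mt.asIdeal)
  have hūL : IsIntegral (L ⧸ P) ū := hūA.tower_top
  have hx' : x ∈ L := hDL hx
  set x₀ : L ⧸ P := Ideal.Quotient.mk P ⟨x, hx'⟩ with hx0
  obtain ⟨e', hei⟩ : ∃ e' : L, IsIntegral A e' ∧ Ideal.Quotient.mk P e' = 1 :=
    hlift 1 isIntegral_one
  have he'M : ∀ w : L, Ideal.Quotient.mk P w = 1 → ∀ hw : (w : T) ∈ E', (⟨(w : T), hw⟩ : E') ∉ M := by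
    intro w hw hwE hmem
    have : (w : T) - 1 ∈ Mt.asIdeal := (Ideal.Quotient.eq.1 (hw.trans (map_one _).symm) : w - 1 ∈ P)
    have := M.sub_mem hmem (hMt' (E'.sub_mem hwE E'.one_mem) this)
    refine (inferInstance : M.IsPrime).ne_top ((Ideal.eq_top_iff_one M).2 ?_)
    convert this using 1
    exact Subtype.ext (by simp)
  by_cases hx00 : x₀ = 0
  · have heint : IsIntegral A e := ⟨X * (X - Polynomial.C 1), monic_X.mul (monic_X_sub_C 1), by
      rw [eval₂_mul, eval₂_sub, eval₂_X, eval₂_C, map_one, mul_sub, mul_one, sub_eq_zero]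
      refine (IsArtinianRing.equivPi L).injective (funext fun Q => ?_)
      show Ideal.Quotient.mk Q.asIdeal (e * e) = Ideal.Quotient.mk Q.asIdeal e
      by_cases hQ : Q = P₀
      · subst hQ
        rw [map_mul, show Ideal.Quotient.mk P₀.asIdeal e = 1 from heP, one_mul]
      · rw [map_mul, heQ Q hQ, zero_mul]⟩
    refine ⟨e, hint _ e.2 (heint.map L.val), heint.map L.val, he'M e heP _, ?_⟩
    have : e * (⟨x, hx'⟩ : L) = 0 := hzero _ fun Q => by
      by_cases hQ : Q = P₀
      · subst hQ
        exact (map_mul _ _ _).trans (mul_eq_zero_of_right _ hx00)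
      · rw [map_mul, heQ Q hQ, zero_mul]
    rw [show (e : T) * x = 0 from congrArg Subtype.val this]
    exact isIntegral_zero
  -- minimal polynomial
  set f := minpoly (L ⧸ P) ū with hf
  have hfm : f.Monic := minpoly.monic hūL
  obtain ⟨p, hp, hpu⟩ := hūA
  have hdvd : f ∣ p.map (algebraMap A (L ⧸ P)) := minpoly.dvd _ _ (by rwa [aeval_map_algebraMap])
  have hcoeff : ∀ i, IsIntegral A (f.coeff i) := isIntegral_coeff_of_dvd p f hp hfm hdvd
  choose w hwi hw using fun i => hlift (f.coeff i) (hcoeff i)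
  have hwD : ∀ i, (w i : T) ∈ D' := fun i => hint _ (w i).2 ((hwi i).map L.val)
  obtain ⟨i, hi, hiM⟩ : ∃ i < f.natDegree, (⟨w i, hDE (hwD i)⟩ : E') ∉ M := by
    by_contra hall
    push Not at hall
    refine huM (Ideal.IsPrime.mem_of_pow_mem inferInstance f.natDegree ?_)
    let S : E' := ∑ i ∈ Finset.range f.natDegree, (⟨w i, hDE (hwD i)⟩ : E') * ⟨u, hu⟩ ^ i
    have hS : S ∈ M := Ideal.sum_mem _ fun i hi => M.mul_mem_right _ (hall i (Finset.mem_range.1 hi))
    have hz : (((⟨u, hu⟩ : E') ^ f.natDegree + S : E') : T) ∈ Mt.asIdeal := by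
      refine Ideal.Quotient.eq_zero_iff_mem.1 ?_
      have h0 := minpoly.aeval (L ⧸ P) ū
      rw [← hf, hfm.as_sum, map_add, map_sum, map_pow, aeval_X] at h0
      rw [← h0, Subalgebra.coe_add, map_add, Subalgebra.coe_pow, map_pow, AddSubmonoidClass.coe_finsetSum, map_sum]
      refine congrArg _ (Finset.sum_congr rfl fun i _ => ?_)
      rw [map_mul, aeval_C, map_pow, aeval_X, Subalgebra.coe_mul, map_mul, Subalgebra.coe_pow, map_pow, ← hw]
      rfl
    exact (Ideal.add_mem_iff_left M hS).1 (hMt' _ hz)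
  -- the scaled polynomial is the minimal polynomial of `u x`
  set q := scaleRoots f x₀ with hq
  have hqm : q.Monic := (monic_scaleRoots_iff _).2 hfm
  have hux' : IsIntegral A (algebraMap (L ⧸ P) (T ⧸ Mt.asIdeal) x₀ * ū) := by
    have := hux.map (Ideal.Quotient.mkₐ A Mt.asIdeal)
    rw [map_mul] at this
    rw [mul_comm]
    exact this
  set v := algebraMap (L ⧸ P) (T ⧸ Mt.asIdeal) x₀ * ū with hv
  have hqv : aeval v q = 0 := scaleRoots_aeval_eq_zero (minpoly.aeval _ _)
  have hqmin : q = minpoly (L ⧸ P) v := by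
    refine (eq_of_monic_of_dvd_of_natDegree_le (minpoly.monic hux'.tower_top) hqm
      (minpoly.dvd _ _ hqv) ?_)
    rw [hq, natDegree_scaleRoots]
    have h1 : aeval (algebraMap (L ⧸ P) (T ⧸ Mt.asIdeal) x₀⁻¹ * v)
        (scaleRoots (minpoly (L ⧸ P) v) x₀⁻¹) = 0 := scaleRoots_aeval_eq_zero (minpoly.aeval _ _)
    rw [hv, ← mul_assoc, ← map_mul, inv_mul_cancel₀ hx00, map_one, one_mul] at h1
    rw [← natDegree_scaleRoots (minpoly (L ⧸ P) v) x₀⁻¹]
    exact natDegree_le_of_dvd (minpoly.dvd _ _ h1)
      ((monic_scaleRoots_iff _).2 (minpoly.monic hux'.tower_top)).ne_zero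
  obtain ⟨p', hp', hp'v⟩ := hux'
  have hcx : IsIntegral A (f.coeff i * x₀ ^ (f.natDegree - i)) := by
    rw [← coeff_scaleRoots, ← hq]
    exact isIntegral_coeff_of_dvd p' q hp' hqm
      (hqmin ▸ minpoly.dvd _ _ (by rwa [aeval_map_algebraMap])) i
  obtain ⟨y, hy, hyx⟩ := hlift _ hcx
  set n := f.natDegree - i with hn
  have hez : ∀ z : L, Ideal.Quotient.mk P z = 0 → e * z = 0 := fun z hz => hzero _ fun Q => by
    by_cases hQ : Q = P₀
    · subst hQ
      exact (map_mul _ _ _).trans (mul_eq_zero_of_right _ hz)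
    · rw [map_mul, heQ Q hQ, zero_mul]
  have heint : IsIntegral A e := ⟨X * (X - Polynomial.C 1), monic_X.mul (monic_X_sub_C 1), by
    rw [eval₂_mul, eval₂_sub, eval₂_X, eval₂_C, map_one]
    exact hez _ (by rw [map_sub, heP, map_one, sub_self])⟩
  have hpow : IsIntegral A ((e * w i * (⟨x, hx'⟩ : L)) ^ n) := by
    have hn0 : n ≠ 0 := by omega
    obtain ⟨k, hk⟩ : ∃ k, n = k + 1 := Nat.exists_eq_succ_of_ne_zero hn0
    have : (e * w i * (⟨x, hx'⟩ : L)) ^ n = e ^ k * w i ^ k * (e * y) := by
      have h2 : e * (w i * (⟨x, hx'⟩ : L) ^ n - y) = 0 := hez _ (by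
        rw [map_sub, map_mul, map_pow, hw, ← hx0, hyx, sub_self])
      rw [mul_sub, sub_eq_zero] at h2
      rw [← h2, hk, mul_pow, mul_pow]
      ring
    rw [this]
    exact ((heint.pow k).mul ((hwi i).pow k)).mul (heint.mul hy)
  have hti : IsIntegral A (e * w i) := heint.mul (hwi i)
  refine ⟨(e * w i : L), hint _ (e * w i).2 (hti.map L.val), hti.map L.val, fun h => ?_, ?_⟩
  · have hmul : (⟨e, hDE (hint _ e.2 (heint.map L.val))⟩ : E') * ⟨w i, hDE (hwD i)⟩ ∈ M := h
    rcases Ideal.IsPrime.mem_or_mem inferInstance hmul with h | h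
    · exact he'M e heP _ h
    · exact hiM h
  · exact (IsIntegral.of_pow (show 0 < n by omega) hpow).map L.val

end Groth.L05.StrictGalois
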