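import Groth.Agent.L05.StrictGalois.Stage
import Groth.Agent.L05.Henselization.Noeth
import Mathlib.RingTheory.Invariant.Galois
import Mathlib.RingTheory.Flat.FaithfullyFlat.Algebra

/-!
# Intersections of subfields with quotients of a strict henselization
-/

set_option autoImplicit false

open IsLocalRing
open scoped Pointwise

namespace Groth.L05.StrictGalois

universe u

open Groth.L05.Henselization

noncomputable section

/-- Every element of the closure of the range of a ring hom is a quotient. -/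
theorem exists_div_of_mem_closure_range {E F : Type*} [CommRing E] [Field F] (φ : E →+* F) {z : F}
    (hz : z ∈ Subfield.closure (Set.range φ)) : ∃ e₁ e₂ : E, φ e₂ ≠ 0 ∧ φ e₁ / φ e₂ = z := by
  obtain ⟨y, hy, w, hw, rfl⟩ := Subfield.mem_closure_iff.1 hz
  rw [← RingHom.coe_range, Subring.closure_eq] at hy hw
  obtain ⟨e₁, rfl⟩ := hy
  obtain ⟨e₂, rfl⟩ := hw
  by_cases h : φ e₂ = 0
  · exact ⟨0, 1, by simp, by simp [h]⟩
  · exact ⟨e₁, e₂, h, rfl⟩

/-- If `Q` is extended from `E` and `E → S` is flat local, an element of `S ⧸ Q` lying in the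
fraction field of the image of `E` comes from `E`. -/
theorem exists_eq_of_mem_fractions {E S : Type u} [CommRing E] [IsLocalRing E] [CommRing S]
    [IsLocalRing S] (g : E →+* S) [IsLocalHom g] (hg : g.Flat) {Q : Ideal S} [Q.IsPrime]
    (hQ : (Q.comap g).map g = Q) {x : S}
    (hx : algebraMap (S ⧸ Q) (FractionRing (S ⧸ Q)) (Ideal.Quotient.mk Q x) ∈
      Subfield.closure
        (Set.range (((algebraMap (S ⧸ Q) (FractionRing (S ⧸ Q))).comp (Ideal.Quotient.mk Q)).comp g))) :
    ∃ e : E, Ideal.Quotient.mk Q (g e) = Ideal.Quotient.mk Q x := by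
  letI : Algebra E S := g.toAlgebra
  haveI : IsLocalHom (algebraMap E S) := (inferInstance : IsLocalHom g)
  haveI : Module.Flat E S := hg
  haveI : Module.FaithfullyFlat E S := Module.FaithfullyFlat.of_flat_of_isLocalHom
  obtain ⟨e₁, e₂, h2, h⟩ := exists_div_of_mem_closure_range _ hx
  simp only [RingHom.comp_apply] at h2 h
  rw [div_eq_iff h2, ← map_mul, ← map_mul] at h
  have hh := IsFractionRing.injective (S ⧸ Q) (FractionRing (S ⧸ Q)) h
  set J := Ideal.span {e₂} ⊔ Q.comap g
  have he1 : algebraMap E S e₁ ∈ J.map (algebraMap E S) := by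
    have hdiff : g e₁ - x * g e₂ ∈ Q := Ideal.Quotient.eq.1 hh
    rw [show algebraMap E S e₁ = x * g e₂ + (g e₁ - x * g e₂) by
      rw [RingHom.algebraMap_toAlgebra]; ring]
    refine Ideal.add_mem _ (Ideal.mul_mem_left _ _ ?_) ?_
    · exact Ideal.mem_map_of_mem g (Ideal.mem_sup_left (Ideal.mem_span_singleton_self _))
    · exact Ideal.map_mono (le_sup_right : Q.comap g ≤ J) (hQ.symm ▸ hdiff : g e₁ - x * g e₂ ∈ (Q.comap g).map g)
  have he1' : e₁ ∈ J := by
    rw [← Ideal.comap_map_eq_self_of_faithfullyFlat (B := S) J]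
    exact he1
  obtain ⟨u, hu, w, hw, rfl⟩ := Submodule.mem_sup.1 he1'
  obtain ⟨v, rfl⟩ := Ideal.mem_span_singleton'.1 hu
  refine ⟨v, ?_⟩
  have hw' : Ideal.Quotient.mk Q (g w) = 0 := Ideal.Quotient.eq_zero_iff_mem.2 hw
  have h2' : Ideal.Quotient.mk Q (g e₂) ≠ 0 := fun h0 => h2 (by rw [h0, map_zero])
  rw [map_add, map_mul, map_add, map_mul, hw', add_zero, map_mul] at hh
  exact mul_right_cancel₀ h2' hh

/-- The finite set of elements of `S` needed to generate `L` and `Q` from a stage. -/
theorem exists_stage_generators {A S : Type u} [CommRing A] [CommRing S] [Algebra A S]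
    [IsNoetherianRing S] (Q : Ideal S) [Q.IsPrime] (t : Finset (FractionRing (S ⧸ Q))) :
    ∃ fs : Finset S, ∀ {E : Type u} [CommRing E] [Algebra A E] (g : E →ₐ[A] S),
      (∀ x ∈ fs, x ∈ g.range) → (Q.comap g.toRingHom).map g.toRingHom = Q ∧
        Subfield.closure (Set.range (algebraMap A (FractionRing (S ⧸ Q))) ∪
            (t : Set (FractionRing (S ⧸ Q)))) ≤
          Subfield.closure (Set.range
            (((algebraMap (S ⧸ Q) (FractionRing (S ⧸ Q))).comp (Ideal.Quotient.mk Q)).comp g.toRingHom)) := by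
  classical
  obtain ⟨gs, hgs⟩ := IsNoetherian.noetherian Q
  have hdiv : ∀ z : FractionRing (S ⧸ Q), ∃ a b : S,
      algebraMap (S ⧸ Q) (FractionRing (S ⧸ Q)) (Ideal.Quotient.mk Q a) /
        algebraMap (S ⧸ Q) (FractionRing (S ⧸ Q)) (Ideal.Quotient.mk Q b) = z := by
    intro z
    obtain ⟨a, b, -, rfl⟩ := IsFractionRing.div_surjective (S ⧸ Q) z
    obtain ⟨a, rfl⟩ := Ideal.Quotient.mk_surjective a
    obtain ⟨b, rfl⟩ := Ideal.Quotient.mk_surjective b
    exact ⟨a, b, rfl⟩
  choose num den hnd using hdiv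
  refine ⟨gs ∪ t.image num ∪ t.image den, fun {E} _ _ g hg => ⟨?_, ?_⟩⟩
  · refine le_antisymm (Ideal.map_comap_le) (hgs.ge.trans (Submodule.span_le.2 fun x hx => ?_))
    obtain ⟨e, rfl⟩ := hg x (Finset.mem_union_left _ (Finset.mem_union_left _ hx))
    exact Ideal.mem_map_of_mem _ (show g e ∈ Q from hgs ▸ Submodule.subset_span hx)
  · refine Subfield.closure_le.2 (Set.union_subset ?_ fun z hz => ?_)
    · rintro _ ⟨a, rfl⟩
      refine Subfield.subset_closure ⟨algebraMap A E a, ?_⟩
      rw [IsScalarTower.algebraMap_apply A (S ⧸ Q) (FractionRing (S ⧸ Q))]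
      simp only [RingHom.comp_apply, AlgHom.toRingHom_eq_coe, RingHom.coe_coe, AlgHom.commutes]
      rfl
    · obtain ⟨e₁, he₁⟩ := hg (num z) (Finset.mem_union_left _ (Finset.mem_union_right _ (Finset.mem_image_of_mem _ hz)))
      obtain ⟨e₂, he₂⟩ := hg (den z) (Finset.mem_union_right _ (Finset.mem_image_of_mem _ hz))
      show z ∈ Subfield.closure _
      rw [← hnd z, ← he₁, ← he₂]
      exact Subfield.div_mem _ (Subfield.subset_closure ⟨e₁, rfl⟩) (Subfield.subset_closure ⟨e₂, rfl⟩)

section Main

variable (A S : Type u) [CommRing A] [HenselianLocalRing A] [IsNoetherianRing A] [CommRing S]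
  [IsLocalRing S] [Algebra A S] [IsLocalHom (algebraMap A S)] [hS : Hensel.IsStrictHenselization A S]

/-- The intersection of a finitely generated subfield with `S ⧸ Q` is finite and unramified. -/
theorem exists_inter (Q : Ideal S) [Q.IsPrime] (t : Finset (FractionRing (S ⧸ Q))) :
    ∃ D' : Subalgebra A (S ⧸ Q),
      (D' : Set (S ⧸ Q)) = (algebraMap (S ⧸ Q) (FractionRing (S ⧸ Q))) ⁻¹'
        (Subfield.closure (Set.range (algebraMap A (FractionRing (S ⧸ Q))) ∪
          (t : Set (FractionRing (S ⧸ Q)))) : Set (FractionRing (S ⧸ Q))) ∧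
      Module.Finite A D' ∧ Algebra.FormallyUnramified A D' ∧
      ∀ l ∈ Subfield.closure (Set.range (algebraMap A (FractionRing (S ⧸ Q))) ∪
          (t : Set (FractionRing (S ⧸ Q)))),
        ∃ a ∈ D', ∃ b ∈ D', algebraMap (S ⧸ Q) (FractionRing (S ⧸ Q)) b ≠ 0 ∧
          l * algebraMap (S ⧸ Q) (FractionRing (S ⧸ Q)) b =
            algebraMap (S ⧸ Q) (FractionRing (S ⧸ Q)) a := by
  classical
  haveI : IsNoetherianRing S := (isNoetherianRing_iff_strict A S).1 inferInstance
  obtain ⟨fs, hfs⟩ := exists_stage_generators (A := A) Q t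
  obtain ⟨E, _, _, _, _, g, hfin, het, hgal, hgloc, hflat, -, hmem⟩ := exists_galois_stage A S fs
  obtain ⟨hQmap, hLle⟩ := hfs g hmem
  set L : Subfield (FractionRing (S ⧸ Q)) :=
    Subfield.closure (Set.range (algebraMap A (FractionRing (S ⧸ Q))) ∪ (t : Set (FractionRing (S ⧸ Q))))
  have hAL : ∀ a : A, algebraMap A (FractionRing (S ⧸ Q)) a ∈ L := fun a =>
    Subfield.subset_closure (Or.inl ⟨a, rfl⟩)
  let πF : S →ₐ[A] FractionRing (S ⧸ Q) :=
    (IsScalarTower.toAlgHom A (S ⧸ Q) (FractionRing (S ⧸ Q))).comp (Ideal.Quotient.mkₐ A Q)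
  have hπF : ∀ x : S, πF x = algebraMap (S ⧸ Q) (FractionRing (S ⧸ Q)) (Ideal.Quotient.mk Q x) :=
    fun x => rfl
  let φ : E →ₐ[A] FractionRing (S ⧸ Q) := πF.comp g
  let q : Ideal E := Q.comap g.toRingHom
  let p : Ideal A := q.comap (algebraMap A E)
  haveI : q.LiesOver p := ⟨rfl⟩
  haveI : q.IsPrime := Ideal.IsPrime.comap _
  haveI : p.IsPrime := Ideal.IsPrime.comap _
  have hφ0 : ∀ e : E, φ e = 0 ↔ e ∈ q := fun e => by
    show algebraMap (S ⧸ Q) (FractionRing (S ⧸ Q)) (Ideal.Quotient.mk Q (g e)) = 0 ↔ _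
    rw [map_eq_zero_iff _ (IsFractionRing.injective (S ⧸ Q) (FractionRing (S ⧸ Q))),
      Ideal.Quotient.eq_zero_iff_mem]
    rfl
  -- the Galois group
  haveI := isInvariant A E
  haveI := finite_aut A E
  letI : Algebra (Localization.AtPrime p) (Localization.AtPrime q) :=
    Localization.AtPrime.algebraOfLiesOver p q
  letI : Algebra (A ⧸ p) q.ResidueField :=
    ((algebraMap (E ⧸ q) q.ResidueField).comp (algebraMap (A ⧸ p) (E ⧸ q))).toAlgebra
  haveI : IsScalarTower (A ⧸ p) (E ⧸ q) q.ResidueField := .of_algebraMap_eq' rfl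
  haveI : IsScalarTower (A ⧸ p) p.ResidueField q.ResidueField := .of_algebraMap_eq' (by
    ext
    simp [← IsScalarTower.algebraMap_apply, RingHom.algebraMap_toAlgebra])
  haveI : IsGalois p.ResidueField q.ResidueField :=
    { __ := Ideal.IsFractionRing.normal (E ≃ₐ[A] E) p q p.ResidueField q.ResidueField }
  haveI : FiniteDimensional p.ResidueField q.ResidueField :=
    Ideal.IsFractionRing.finite_of_isInvariant (E ≃ₐ[A] E) p q p.ResidueField q.ResidueField
  let ι : q.ResidueField →ₐ[A] FractionRing (S ⧸ Q) :=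
    Ideal.ResidueField.liftₐ q φ (fun e he => (hφ0 e).2 he)
      (fun e he => (Ne.isUnit (fun h0 => he ((hφ0 e).1 h0)) : IsUnit (φ e)))
  have hι : ∀ e : E, ι (algebraMap E q.ResidueField e) = φ e := fun e =>
    Ideal.ResidueField.liftₐ_algebraMap _ _ _ _ e
  have hκL : ∀ r : p.ResidueField, algebraMap p.ResidueField q.ResidueField r ∈ L.comap ι.toRingHom := by
    intro r
    obtain ⟨a, b, -, rfl⟩ := IsFractionRing.div_surjective (A ⧸ p) r
    obtain ⟨a, rfl⟩ := Ideal.Quotient.mk_surjective a
    obtain ⟨b, rfl⟩ := Ideal.Quotient.mk_surjective b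
    have h : ∀ a : A, ι (algebraMap p.ResidueField q.ResidueField
        (algebraMap (A ⧸ p) p.ResidueField (Ideal.Quotient.mk p a))) =
        algebraMap A (FractionRing (S ⧸ Q)) a := fun a => by
      rw [show algebraMap (A ⧸ p) p.ResidueField (Ideal.Quotient.mk p a) =
        algebraMap A p.ResidueField a from (IsScalarTower.algebraMap_apply A (A ⧸ p) p.ResidueField a).symm,
        ← IsScalarTower.algebraMap_apply, AlgHom.commutes]
    rw [Subfield.mem_comap, map_div₀, map_div₀]
    exact Subfield.div_mem _ (by show ι _ ∈ L; rw [h]; exact hAL a)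
      (by show ι _ ∈ L; rw [h]; exact hAL b)
  let LM : IntermediateField p.ResidueField q.ResidueField :=
    (L.comap ι.toRingHom).toIntermediateField hκL
  have hLM : ∀ e : E, algebraMap E q.ResidueField e ∈ LM ↔ φ e ∈ L := fun e => by
    show ι (algebraMap E q.ResidueField e) ∈ L ↔ _
    rw [hι]
  let ψ := IsFractionRing.stabilizerHom (E ≃ₐ[A] E) p q p.ResidueField q.ResidueField
  have hψ : ∀ (σ : MulAction.stabilizer (E ≃ₐ[A] E) q) (e : E),
      ψ σ (algebraMap E q.ResidueField e) = algebraMap E q.ResidueField ((σ : E ≃ₐ[A] E) e) := by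
    intro σ e
    rw [IsScalarTower.algebraMap_apply E (E ⧸ q) q.ResidueField,
      IsScalarTower.algebraMap_apply E (E ⧸ q) q.ResidueField, Ideal.Quotient.algebraMap_eq]
    exact IsFractionRing.stabilizerHom_apply_apply_mk _ p q p.ResidueField q.ResidueField σ e
  let H : Subgroup (E ≃ₐ[A] E) :=
    (LM.fixingSubgroup.comap ψ).map (MulAction.stabilizer (E ≃ₐ[A] E) q).subtype
  have hfixL : ∀ h ∈ H, ∀ e : E, φ e ∈ L → φ (h e) = φ e := by
    rintro _ ⟨σ, hσ, rfl⟩ e he
    have := (IntermediateField.mem_fixingSubgroup_iff _ _).1 hσ _ ((hLM e).2 he)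
    rw [hψ] at this
    rw [← hι, ← hι]
    exact congrArg ι this
  have hfixed : ∀ y : E, (∀ h ∈ H, φ (h y) = φ y) → φ y ∈ L := by
    intro y hy
    refine (hLM y).1 ?_
    rw [← IsGalois.fixedField_fixingSubgroup LM]
    intro f
    obtain ⟨σ, hσ⟩ := IsFractionRing.stabilizerHom_surjective (E ≃ₐ[A] E) p q p.ResidueField
      q.ResidueField f.1
    have hσ' : ψ σ = f.1 := hσ
    show f.1 (algebraMap E q.ResidueField y) = _
    rw [← hσ', hψ]
    refine ι.toRingHom.injective ?_
    show ι _ = ι _
    rw [hι, hι]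
    exact hy _ ⟨σ, by rw [SetLike.mem_coe, Subgroup.mem_comap, hσ']; exact f.2, rfl⟩
  letI : Fintype H := Fintype.ofFinite _
  obtain ⟨c, hc⟩ := exists_sum_eq_one A E H
  -- the subalgebra
  let D' : Subalgebra A (S ⧸ Q) :=
    { carrier := {x | algebraMap (S ⧸ Q) (FractionRing (S ⧸ Q)) x ∈ L}
      mul_mem' := fun hx hy => by
        simp only [Set.mem_setOf_eq, map_mul] at hx hy ⊢
        exact mul_mem hx hy
      add_mem' := fun hx hy => by
        simp only [Set.mem_setOf_eq, map_add] at hx hy ⊢
        exact add_mem hx hy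
      algebraMap_mem' := fun a => by
        show algebraMap (S ⧸ Q) (FractionRing (S ⧸ Q)) (algebraMap A (S ⧸ Q) a) ∈ L
        rw [← IsScalarTower.algebraMap_apply]
        exact hAL a }
  have hD : ∀ x : S ⧸ Q, x ∈ D' ↔ algebraMap (S ⧸ Q) (FractionRing (S ⧸ Q)) x ∈ L := fun x => Iff.rfl
  have himg : ∀ x ∈ D', ∃ e : E, Ideal.Quotient.mk Q (g e) = x := by
    intro x hx
    obtain ⟨x, rfl⟩ := Ideal.Quotient.mk_surjective x
    haveI : IsLocalHom g.toRingHom := hgloc
    exact exists_eq_of_mem_fractions g.toRingHom hflat hQmap (hLle hx)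
  haveI hDfin : Module.Finite A D' := by
    let R0 : Submodule A (S ⧸ Q) := LinearMap.range ((Ideal.Quotient.mkₐ A Q).comp g).toLinearMap
    haveI : Module.Finite A R0 := Module.Finite.range _
    have hle : Subalgebra.toSubmodule D' ≤ R0 := fun x hx => by
      obtain ⟨e, he⟩ := himg x hx
      exact ⟨e, he⟩
    exact Module.Finite.of_injective (Submodule.inclusion hle) (Submodule.inclusion_injective hle)
  refine ⟨D', rfl, hDfin, ?_, fun l hl => ?_⟩
  · haveI : IsLocalRing D' := Groth.L05.isLocalRing_of_finite_domain (A := A) D'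
    haveI : Algebra.IsIntegral A D' := Algebra.IsIntegral.of_finite A D'
    haveI hDloc : IsLocalHom (algebraMap A D') := by
      refine ((IsLocalRing.local_hom_TFAE (algebraMap A D')).out 0 2 rfl rfl).mpr ?_
      haveI : ((maximalIdeal D').comap (algebraMap A D')).IsMaximal :=
        Ideal.isMaximal_comap_of_isIntegral_of_isMaximal _
      rw [Ideal.map_le_iff_le_comap]
      exact (IsLocalRing.eq_maximalIdeal inferInstance).ge
    let χ : D' →ₐ[A] ResidueField S :=
      (Ideal.Quotient.liftₐ Q (IsScalarTower.toAlgHom A S (ResidueField S))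
        fun x hx => (residue_eq_zero_iff x).2 (IsLocalRing.le_maximalIdeal (Ideal.IsPrime.ne_top ‹_›) hx)).comp
        D'.val
    have hχker : RingHom.ker χ = maximalIdeal D' := by
      haveI : (RingHom.ker χ).IsPrime := RingHom.ker_isPrime _
      haveI : ((RingHom.ker χ).comap (algebraMap A D')).IsMaximal := by
        rw [show (RingHom.ker χ).comap (algebraMap A D') = maximalIdeal A from Ideal.ext fun a => by
          rw [Ideal.mem_comap, RingHom.mem_ker, AlgHom.commutes,
            IsScalarTower.algebraMap_apply A S (ResidueField S), ResidueField.algebraMap_eq,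
            residue_eq_zero_iff, mem_maximalIdeal, mem_maximalIdeal, mem_nonunits_iff,
            mem_nonunits_iff, isUnit_map_iff]]
        infer_instance
      exact IsLocalRing.eq_maximalIdeal
        (Ideal.isMaximal_of_isIntegral_of_isMaximal_comap (R := A) (RingHom.ker χ) inferInstance)
    haveI : Algebra.IsSeparable (ResidueField A) (ResidueField S) := hS.isSepClosure.separable
    haveI : Algebra.IsSeparable (ResidueField A) (ResidueField D') := by
      let χ' : ResidueField D' →+* ResidueField S :=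
        Ideal.Quotient.lift (maximalIdeal D') χ.toRingHom fun x hx => (hχker.ge hx : x ∈ RingHom.ker χ)
      refine Algebra.IsSeparable.of_algHom (ResidueField A) (ResidueField S)
        ({ χ' with
          commutes' := fun a => ?_ } : ResidueField D' →ₐ[ResidueField A] ResidueField S)
      obtain ⟨a, rfl⟩ := residue_surjective a
      show χ' (residue D' (algebraMap A D' a)) = _
      show χ (algebraMap A D' a) = _
      rw [AlgHom.commutes]
      rfl
    refine Algebra.FormallyUnramified.of_map_maximalIdeal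
      (le_antisymm ?_ fun x hx => ?_)
    · exact ((IsLocalRing.local_hom_TFAE (algebraMap A D')).out 0 2 rfl rfl).mp hDloc
    · let T : E → D' := fun y => ⟨Ideal.Quotient.mk Q (g (∑ h : H, (h : E ≃ₐ[A] E) y)), by
        refine hfixed _ fun k hk => ?_
        congr 1
        rw [map_sum]
        exact Fintype.sum_equiv (Equiv.mulLeft (⟨k, hk⟩ : H)) _ _ fun h' => rfl⟩
      obtain ⟨e, he⟩ := himg x.1 x.2
      have hres : residue S (g e) = 0 := by
        rw [← show χ x = 0 from (hχker.ge hx : x ∈ RingHom.ker χ)]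
        show residue S (g e) = Ideal.Quotient.lift Q (residue S) (fun y hy => (residue_eq_zero_iff y).2
          (IsLocalRing.le_maximalIdeal (Ideal.IsPrime.ne_top ‹Q.IsPrime›) hy)) x.1
        rw [← he]
        rfl
      have heE : e ∈ (maximalIdeal A).map (algebraMap A E) := by
        rw [Algebra.FormallyUnramified.map_maximalIdeal, mem_maximalIdeal, mem_nonunits_iff]
        exact fun hu => (residue_ne_zero_iff_isUnit _).2 (hu.map g) hres
      have key : ∀ z ∈ (maximalIdeal A).map (algebraMap A E), ∀ d : E,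
          T (d * z) ∈ (maximalIdeal A).map (algebraMap A D') := by
        intro z hz
        induction hz using Submodule.span_induction with
        | mem z h =>
          intro d
          obtain ⟨b, hb, rfl⟩ := h
          have : T (d * algebraMap A E b) = algebraMap A D' b * T d := by
            apply Subtype.ext
            simp only [T, map_mul, AlgEquiv.commutes, ← Finset.sum_mul, AlgHom.commutes, MulMemClass.coe_mul]
            rw [mul_comm]
            rfl
          rw [this]
          exact Ideal.mul_mem_right _ _ (Ideal.mem_map_of_mem _ hb)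
        | zero =>
          intro d
          have : T (d * 0) = 0 := by apply Subtype.ext; simp [T]
          rw [this]
          exact zero_mem _
        | add z w _ _ hz hw =>
          intro d
          have : T (d * (z + w)) = T (d * z) + T (d * w) := by
            apply Subtype.ext
            simp only [T, mul_add, map_add, Finset.sum_add_distrib, AddMemClass.coe_add]
          rw [this]
          exact add_mem (hz d) (hw d)
        | smul a z _ hz =>
          intro d
          rw [smul_eq_mul, ← mul_assoc]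
          exact hz _
      have hxT : T (c * e) = x := by
        apply Subtype.ext
        refine IsFractionRing.injective (S ⧸ Q) (FractionRing (S ⧸ Q)) ?_
        have hxe : φ e ∈ L := by
          show algebraMap (S ⧸ Q) (FractionRing (S ⧸ Q)) (Ideal.Quotient.mk Q (g e)) ∈ L
          rw [he]
          exact x.2
        show φ (∑ h : H, (h : E ≃ₐ[A] E) (c * e)) = _
        simp only [map_sum, map_mul]
        rw [Finset.sum_congr rfl fun (h : H) _ => by rw [hfixL _ h.2 e hxe], ← Finset.sum_mul,
          ← map_sum, hc, map_one, one_mul]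
        show algebraMap (S ⧸ Q) (FractionRing (S ⧸ Q)) (Ideal.Quotient.mk Q (g e)) = _
        rw [he]
      rw [← hxT]
      exact key e heE c
  · obtain ⟨e₁, e₂, h2, rfl⟩ := exists_div_of_mem_closure_range _ (hLle hl)
    haveI : Algebra.IsIntegral A E := Algebra.IsIntegral.of_finite A E
    haveI : Algebra.IsIntegral (A ⧸ p) (E ⧸ q) := inferInstance
    haveI : FaithfulSMul (A ⧸ p) (E ⧸ q) :=
      (faithfulSMul_iff_algebraMap_injective _ _).2 Ideal.algebraMap_quotient_injective
    have hq2 : Ideal.Quotient.mk q e₂ ≠ 0 := fun h0 =>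
      h2 ((hφ0 e₂).2 (Ideal.Quotient.eq_zero_iff_mem.1 h0))
    obtain ⟨v, a, ha, hva⟩ := (Algebra.IsAlgebraic.isAlgebraic (R := A ⧸ p)
      (Ideal.Quotient.mk q e₂)).exists_smul_eq_mul (1 : E ⧸ q)
      (mem_nonZeroDivisors_of_ne_zero hq2)
    obtain ⟨a, rfl⟩ := Ideal.Quotient.mk_surjective a
    obtain ⟨v, rfl⟩ := Ideal.Quotient.mk_surjective v
    have hva' : algebraMap A (FractionRing (S ⧸ Q)) a = φ e₂ * φ v := by
      rw [← AlgHom.commutes φ, ← map_mul, ← sub_eq_zero, ← map_sub, hφ0, ← Ideal.Quotient.eq_zero_iff_mem,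
        map_sub, map_mul, ← hva, Algebra.smul_def, mul_one, sub_eq_zero]
      rfl
    have hb0 : algebraMap A (FractionRing (S ⧸ Q)) a ≠ 0 := fun h0 => by
      refine ha (Ideal.Quotient.eq_zero_iff_mem.2 ?_)
      rw [← AlgHom.commutes φ, hφ0] at h0
      exact h0
    have hb' : algebraMap (S ⧸ Q) (FractionRing (S ⧸ Q)) (algebraMap A (S ⧸ Q) a) =
        algebraMap A (FractionRing (S ⧸ Q)) a := (IsScalarTower.algebraMap_apply _ _ _ _).symm
    have heq : φ e₁ / φ e₂ * algebraMap A (FractionRing (S ⧸ Q)) a = φ (e₁ * v) := by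
      rw [hva', map_mul, ← mul_assoc, div_mul_cancel₀ _ (show φ e₂ ≠ 0 from h2)]
    refine ⟨Ideal.Quotient.mk Q (g (e₁ * v)), ?_, algebraMap A (S ⧸ Q) a, D'.algebraMap_mem a,
      by rw [hb']; exact hb0, by rw [hb']; exact heq⟩
    rw [hD]
    show φ (e₁ * v) ∈ L
    rw [← heq]
    exact mul_mem hl (hAL a)

end Main

end

end Groth.L05.StrictGalois
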