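import Mathlib.RingTheory.Localization.FractionRing
import Mathlib.RingTheory.Ideal.MinimalPrime.Localization
import Mathlib.RingTheory.Ideal.MinimalPrime.Noetherian
import Mathlib.RingTheory.IntegralClosure.Algebra.Basic
import Mathlib.RingTheory.LocalRing.ResidueField.Ideal

/-!
# Maps from the total ring of fractions of a reduced ring at a minimal prime
-/

set_option autoImplicit false

namespace Groth.L05.StrictGalois

open scoped nonZeroDivisors
open Polynomial

universe u v

noncomputable section

variable {D : Type u} [CommRing D] {K : Type v} [Field K] (f : D →+* K)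

/-- The extension of `f` to the total ring of fractions when its kernel is a minimal prime. -/
def theta (hf : RingHom.ker f ∈ minimalPrimes D) : FractionRing D →+* K :=
  IsLocalization.lift (M := D⁰) (g := f) fun s => Ne.isUnit fun h0 =>
    Set.disjoint_left.1 (Ideal.disjoint_nonZeroDivisors_of_mem_minimalPrimes hf)
      (show (s : D) ∈ (RingHom.ker f : Set D) from h0) s.2

theorem theta_algebraMap (hf : RingHom.ker f ∈ minimalPrimes D) (d : D) :
    theta f hf (algebraMap D (FractionRing D) d) = f d :=
  IsLocalization.lift_eq _ d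

theorem theta_mk'_eq_zero (hf : RingHom.ker f ∈ minimalPrimes D) (a : D) (s : D⁰) :
    theta f hf (IsLocalization.mk' (FractionRing D) a s) = 0 ↔ f a = 0 := by
  rw [theta, IsLocalization.lift_mk', Units.mul_inv_eq_iff_eq_mul, mul_comm, mul_zero]

variable [IsReduced D]

theorem eq_zero_of_forall_mem_minimalPrimes {x : D} (h : ∀ P ∈ minimalPrimes D, x ∈ P) : x = 0 := by
  have : x ∈ (⊥ : Ideal D).radical := by
    rw [← Ideal.sInf_minimalPrimes]
    exact Submodule.mem_sInf.2 h
  obtain ⟨n, hn⟩ := this
  exact IsReduced.eq_zero x ⟨n, hn⟩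

/-- An element of the total ring of fractions vanishing at every minimal prime is zero. -/
theorem eq_zero_of_forall_theta {z : FractionRing D}
    (h : ∀ (P : Ideal D) [P.IsPrime] (hP : RingHom.ker (algebraMap D P.ResidueField) ∈ minimalPrimes D),
      theta (algebraMap D P.ResidueField) hP z = 0) : z = 0 := by
  obtain ⟨a, s, rfl⟩ := IsLocalization.exists_mk'_eq D⁰ z
  have : a = 0 := eq_zero_of_forall_mem_minimalPrimes fun P hP => by
    haveI : P.IsPrime := hP.isPrime
    have hk : RingHom.ker (algebraMap D P.ResidueField) = P :=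
      Ideal.ext fun x => Ideal.algebraMap_residueField_eq_zero
    rw [← hk]
    exact (theta_mk'_eq_zero _ (hk.symm ▸ hP) a s).1 (h P (hk.symm ▸ hP))
  rw [this, IsLocalization.mk'_zero]

/-- Integral elements of the fraction field at a minimal prime lift to the normalization. -/
theorem exists_isIntegral_theta_eq (hfin : (minimalPrimes D).Finite) (hf : RingHom.ker f ∈ minimalPrimes D) {a b : D} (hb : f b ≠ 0)
    {p : D[X]} (hp : p.Monic) (hroot : p.eval₂ f (f a / f b) = 0) :
    ∃ z : FractionRing D, IsIntegral D z ∧ theta f hf z = f a / f b := by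
  classical
  haveI hprime : (RingHom.ker f).IsPrime := RingHom.ker_isPrime f
  let others := (hfin.toFinset.erase (RingHom.ker f))
  have hmem : ∀ {P : Ideal D}, P ∈ others ↔ P ≠ RingHom.ker f ∧ P ∈ minimalPrimes D := fun {P} => by
    simp [others]
  obtain ⟨u, hu, huP⟩ : ∃ u ∈ others.inf id, f u ≠ 0 := by
    by_contra hall
    push Not at hall
    obtain ⟨P, hP, hle⟩ := (Ideal.IsPrime.inf_le' hprime).1 (fun x hx => hall x hx : others.inf id ≤ RingHom.ker f)
    exact (hmem.1 hP).1 (le_antisymm hle (hf.2 ⟨(hmem.1 hP).2.isPrime, bot_le⟩ hle))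
  obtain ⟨v, hvP, hv⟩ : ∃ v ∈ RingHom.ker f, ∀ P ∈ others, v ∉ P := by
    by_contra hall
    push Not at hall
    have hsub : (RingHom.ker f : Set D) ⊆ ⋃ P ∈ (↑others : Set (Ideal D)), (P : Set D) := fun x hx => by
      obtain ⟨P, hP, hxP⟩ := hall x hx
      exact Set.mem_iUnion₂.2 ⟨P, hP, hxP⟩
    obtain ⟨P, hP, hle⟩ := (Ideal.subset_union_prime (f := id) ⊤ ⊤
      (fun P hP _ _ => (hmem.1 hP).2.isPrime)).1 hsub
    exact (hmem.1 hP).1 (le_antisymm ((hmem.1 hP).2.2 ⟨hprime, bot_le⟩ hle) hle)
  have hden : ∀ P ∈ minimalPrimes D, b * u + v ∉ P := by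
    intro P hP h
    haveI := hP.isPrime
    by_cases heq : P = RingHom.ker f
    · subst heq
      rw [RingHom.mem_ker, map_add, RingHom.mem_ker.1 hvP, add_zero, map_mul] at h
      exact mul_ne_zero hb huP h
    · have hPo : P ∈ others := hmem.2 ⟨heq, hP⟩
      refine hv P hPo ?_
      have hbu : b * u ∈ P := Ideal.mul_mem_left _ _ (Finset.inf_le (f := id) hPo hu)
      exact (Ideal.add_mem_iff_right P hbu).1 h
  have hnzd : b * u + v ∈ D⁰ := by
    rw [mem_nonZeroDivisors_iff_right]
    intro x hx
    refine eq_zero_of_forall_mem_minimalPrimes fun P hP => ?_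
    exact (hP.isPrime.mem_or_mem (hx.symm ▸ P.zero_mem : x * (b * u + v) ∈ P)).resolve_right (hden P hP)
  set z : FractionRing D := IsLocalization.mk' (FractionRing D) (a * u) ⟨_, hnzd⟩
  have hz : theta f hf z = f a / f b := by
    rw [theta, IsLocalization.lift_mk', Units.mul_inv_eq_iff_eq_mul, IsUnit.coe_liftRight]
    show f (a * u) = f a / f b * f (b * u + v)
    rw [map_add, RingHom.mem_ker.1 hvP, add_zero, map_mul, map_mul, ← mul_assoc, div_mul_cancel₀ _ hb]
  refine ⟨z, ⟨X * p, monic_X.mul hp, ?_⟩, hz⟩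
  rw [eval₂_mul, eval₂_X]
  obtain ⟨w, t, hw⟩ := IsLocalization.exists_mk'_eq D⁰ (z * p.eval₂ (algebraMap D (FractionRing D)) z)
  rw [← hw]
  have : w = 0 := eq_zero_of_forall_mem_minimalPrimes fun P hP => by
    haveI := hP.isPrime
    by_cases heq : P = RingHom.ker f
    · subst heq
      rw [RingHom.mem_ker, ← theta_mk'_eq_zero f hf w t, hw, map_mul, hom_eval₂,
        show (theta f hf).comp (algebraMap D (FractionRing D)) = f from
          RingHom.ext (theta_algebraMap f hf), hz, hroot, mul_zero]
    · have hk : RingHom.ker (algebraMap D P.ResidueField) = P :=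
        Ideal.ext fun x => Ideal.algebraMap_residueField_eq_zero
      have hP' : RingHom.ker (algebraMap D P.ResidueField) ∈ minimalPrimes D := hk.symm ▸ hP
      have h0 : theta (algebraMap D P.ResidueField) hP' z = 0 := by
        rw [theta_mk'_eq_zero, Ideal.algebraMap_residueField_eq_zero]
        exact Ideal.mul_mem_left _ _ (Finset.inf_le (f := id) (hmem.2 ⟨heq, hP⟩) hu)
      rw [← Ideal.algebraMap_residueField_eq_zero (I := P), ← theta_mk'_eq_zero _ hP' w t, hw,
        map_mul, h0, zero_mul]
  rw [this, IsLocalization.mk'_zero]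

end

end Groth.L05.StrictGalois
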