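import Groth.Agent.L05.StrictGalois.Trace
import Groth.Agent.L05.StrictGalois.Theta
import Groth.Agent.L05.StrictGalois.Inter
import Groth.Agent.L05.EtaPt.FlatUnram
import Groth.Agent.L05.Henselization.Fibres
import Mathlib.RingTheory.Ideal.GoingDown
import Mathlib.FieldTheory.PurelyInseparable.PerfectClosure
import Mathlib.RingTheory.LocalRing.Module

/-!
# Finite intermediate rings of a strict henselization and their branches
-/

set_option autoImplicit false

open IsLocalRing
open scoped Pointwise nonZeroDivisors

namespace Groth.L05.StrictGalois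

universe u

open Groth.L05.Henselization
open Polynomial

noncomputable section

theorem comap_mem_minimalPrimes_of_flat {R T : Type u} [CommRing R] [CommRing T] [Algebra R T]
    [Module.Flat R T] {Q : Ideal T} (hQ : Q ∈ minimalPrimes T) :
    Q.comap (algebraMap R T) ∈ minimalPrimes R := by
  haveI := hQ.isPrime
  haveI : Algebra.HasGoingDown R T := Algebra.HasGoingDown.of_flat
  refine ⟨⟨Ideal.IsPrime.comap _, bot_le⟩, fun p hp hle => ?_⟩
  haveI := hp.1
  haveI : Q.LiesOver (Q.comap (algebraMap R T)) := ⟨rfl⟩
  obtain ⟨Q', hQ', hQ'p, hlies⟩ := Ideal.exists_ideal_le_liesOver_of_le (R := R) (S := T) (p := p) (q := Q.comap (algebraMap R T)) (Q := Q) hle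
  have : Q' = Q := le_antisymm hQ' (hQ.2 ⟨hQ'p, bot_le⟩ hQ')
  rw [hlies.over, this]

section Fix

variable {A E D : Type u} [CommRing A] [HenselianLocalRing A] [CommRing E] [IsLocalRing E]
  [Algebra A E] [IsLocalHom (algebraMap A E)] [Module.Finite A E] [Algebra.Etale A E]
  [CommRing D] [Algebra A D] (j : D →ₐ[A] E)

/-- The residues of the image of `D`, as a subalgebra. -/
def resSub : Subalgebra (ResidueField A) (ResidueField E) where
  carrier := Set.range fun d => residue E (j d)
  mul_mem' := by rintro _ _ ⟨a, rfl⟩ ⟨b, rfl⟩; exact ⟨a * b, by simp⟩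
  add_mem' := by rintro _ _ ⟨a, rfl⟩ ⟨b, rfl⟩; exact ⟨a + b, by simp⟩
  algebraMap_mem' a := by
    obtain ⟨a, rfl⟩ := residue_surjective a
    exact ⟨algebraMap A D a, by simp only [AlgHom.commutes]; rfl⟩

/-- The residue field of the image of `D`. -/
def kD : IntermediateField (ResidueField A) (ResidueField E) :=
  (resSub j).toIntermediateField fun x hx => by
    haveI : FiniteDimensional (ResidueField A) (ResidueField E) :=
      Module.Finite.of_restrictScalars_finite A _ _
    exact (resSub j).inv_mem_of_algebraic (x := ⟨x, hx⟩) (Algebra.IsAlgebraic.isAlgebraic x)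

theorem mem_kD {x : ResidueField E} : x ∈ kD j ↔ ∃ d, residue E (j d) = x := Iff.rfl

/-- The automorphisms fixing the residue field of `D`. -/
def GD : Subgroup (E ≃ₐ[A] E) := (kD j).fixingSubgroup.comap (residueAutHom A E)

theorem mem_GD {σ : E ≃ₐ[A] E} : σ ∈ GD j ↔ ∀ d, residue E (σ (j d)) = residue E (j d) := by
  rw [GD, Subgroup.mem_comap, IntermediateField.mem_fixingSubgroup_iff]
  constructor
  · exact fun h d => h _ ⟨d, rfl⟩
  · rintro h _ ⟨d, rfl⟩
    exact h d

variable [IsGalois (ResidueField A) (ResidueField E)]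

theorem mem_kD_of_fixed {r : ResidueField E} (h : ∀ σ ∈ GD j, residueAutHom A E σ r = r) :
    r ∈ kD j := by
  haveI : FiniteDimensional (ResidueField A) (ResidueField E) :=
    Module.Finite.of_restrictScalars_finite A _ _
  rw [← IsGalois.fixedField_fixingSubgroup (kD j)]
  intro f
  obtain ⟨σ, hσ⟩ := exists_lift_aut A E f.1
  have heq : residueAutHom A E σ = f.1 := AlgEquiv.ext fun x => by
    obtain ⟨x, rfl⟩ := residue_surjective x
    exact hσ x
  show f.1 r = r
  rw [← heq]
  exact h σ (by rw [GD, Subgroup.mem_comap, heq]; exact f.2)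

theorem range_eq_fixedSub [IsNoetherianRing A] (hfix : ∀ σ ∈ GD j, ∀ d, σ (j d) = j d) :
    LinearMap.range j.toLinearMap = fixedSub A E (GD j) := by
  haveI := finite_aut A E
  letI : Fintype (GD j) := Fintype.ofFinite _
  have hle : LinearMap.range j.toLinearMap ≤ fixedSub A E (GD j) := by
    rintro _ ⟨d, rfl⟩ σ hσ
    exact hfix σ hσ d
  refine le_antisymm hle (fixedSub_le _ hle fun x hx => ?_)
  obtain ⟨d, hd⟩ := (mem_kD j).1 (mem_kD_of_fixed j (r := residue E x) fun σ hσ => by
    rw [residueAutHom_residue, hx σ hσ])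
  exact ⟨j d, ⟨d, rfl⟩, hd.symm⟩

/-- A prime stabilized by `GD` is extended from `D`. -/
theorem eq_map_comap_of_fixed [IsNoetherianRing A] (hfix : ∀ σ ∈ GD j, ∀ d, σ (j d) = j d)
    (q : Ideal E) (hq : ∀ σ ∈ GD j, σ • q = q) :
    q = (q.comap j.toRingHom).map j.toRingHom := by
  classical
  haveI := finite_aut A E
  letI : Fintype (GD j) := Fintype.ofFinite _
  refine le_antisymm (fun z hz => ?_) Ideal.map_comap_le
  obtain ⟨s, hs⟩ := exists_delta (A := A) (E := E)
  have hsum : ∑ i ∈ s, i.1 * ∑ h : GD j, (h : E ≃ₐ[A] E) (i.2 * z) = z := by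
    simp only [Finset.mul_sum, map_mul, ← mul_assoc]
    rw [Finset.sum_comm]
    simp only [← Finset.sum_mul]
    rw [Finset.sum_eq_single (1 : GD j)]
    · rw [Subgroup.coe_one, (hs 1).1 rfl, one_mul]
      rfl
    · intro h _ hh
      rw [(hs _).2 fun hc => hh (Subtype.ext hc), zero_mul]
    · exact fun hh => absurd (Finset.mem_univ _) hh
  rw [← hsum]
  refine Ideal.sum_mem _ fun i _ => Ideal.mul_mem_left _ _ ?_
  obtain ⟨d, hd⟩ : ∑ h : GD j, (h : E ≃ₐ[A] E) (i.2 * z) ∈ LinearMap.range j.toLinearMap := by
    rw [range_eq_fixedSub j hfix]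
    exact sum_mem_fixedSub _ _
  have hd' : j d = ∑ h : GD j, (h : E ≃ₐ[A] E) (i.2 * z) := hd
  rw [← hd']
  refine Ideal.mem_map_of_mem j.toRingHom (show j d ∈ q from ?_)
  rw [hd']
  refine Ideal.sum_mem _ fun h _ => ?_
  have := Ideal.smul_mem_pointwise_smul (h : E ≃ₐ[A] E) _ q (Ideal.mul_mem_left q i.2 hz)
  rwa [hq _ h.2] at this

/-- Purely inseparable residue fields of the normalization of `D` force `GD` to fix `D` modulo each
minimal prime of `E`. -/
theorem fix_mod_minimalPrime [IsNoetherianRing A] [IsReduced D] [Module.Finite A D]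
    (hpi : ∀ M : Ideal (integralClosure D (FractionRing D)), M.IsMaximal →
      ∃ q : ℕ, ExpChar ((integralClosure D (FractionRing D)) ⧸ M) q ∧
        ∀ z, ∃ (n : ℕ) (d : D), z ^ q ^ n - algebraMap D (integralClosure D (FractionRing D)) d ∈ M)
    {Q : Ideal E} (hQ : Q ∈ minimalPrimes E) {σ : E ≃ₐ[A] E} (hσ : σ ∈ GD j) :
    σ • Q = Q ∧ ∀ d, σ (j d) - j d ∈ Q := by
  classical
  haveI := hQ.isPrime
  haveI := finite_aut A E
  haveI : IsNoetherianRing D := isNoetherian_of_tower A inferInstance
  haveI : Algebra.IsIntegral A D := Algebra.IsIntegral.of_finite A D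
  haveI : Algebra.IsIntegral A E := Algebra.IsIntegral.of_finite A E
  haveI : FiniteDimensional (ResidueField A) (ResidueField E) :=
    Module.Finite.of_restrictScalars_finite A _ _
  let H : Subgroup (E ≃ₐ[A] E) :=
    { carrier := {τ | τ • Q = Q ∧ ∀ d, τ (j d) - j d ∈ Q}
      one_mem' := ⟨one_smul _ _, fun d => by simp⟩
      mul_mem' := by
        rintro a b ⟨ha, ha'⟩ ⟨hb, hb'⟩
        refine ⟨by rw [mul_smul, hb, ha], fun d => ?_⟩
        have h1 : a (b (j d) - j d) ∈ Q := by
          have := Ideal.smul_mem_pointwise_smul a _ Q (hb' d)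
          rwa [ha] at this
        rw [show (a * b) (j d) - j d = a (b (j d) - j d) + (a (j d) - j d) by
          rw [map_sub]; show a (b (j d)) - _ = _; ring]
        exact Ideal.add_mem _ h1 (ha' d)
      inv_mem' := by
        rintro a ⟨ha, ha'⟩
        have hinv : a⁻¹ • Q = Q := inv_smul_eq_iff.2 ha.symm
        refine ⟨hinv, fun d => ?_⟩
        have h1 := Ideal.smul_mem_pointwise_smul a⁻¹ _ Q (ha' d)
        rw [hinv, AlgEquiv.smul_def, map_sub] at h1
        rw [← neg_mem_iff, neg_sub]
        simpa [AlgEquiv.aut_inv] using h1 }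
  letI : Fintype H := Fintype.ofFinite _
  obtain ⟨c, hc⟩ := exists_sum_eq_one A E H
  let f : D →+* Q.ResidueField := (algebraMap E Q.ResidueField).comp j.toRingHom
  have hkerf : RingHom.ker f ∈ minimalPrimes D := by
    haveI : (RingHom.ker f).IsPrime := RingHom.ker_isPrime f
    have hk : (RingHom.ker f).comap (algebraMap A D) = Q.comap (algebraMap A E) := Ideal.ext fun a => by
      show algebraMap E Q.ResidueField (j (algebraMap A D a)) = 0 ↔ _
      rw [AlgHom.commutes, Ideal.algebraMap_residueField_eq_zero]
      rfl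
    refine ⟨⟨inferInstance, bot_le⟩, fun P hP hle => ?_⟩
    haveI := hP.1
    by_contra hcon
    have hlt := Ideal.IsIntegral.comap_lt_comap (R := A) (lt_of_le_not_ge hle hcon)
    rw [hk] at hlt
    exact hlt.not_ge ((comap_mem_minimalPrimes_of_flat hQ).2 ⟨Ideal.IsPrime.comap _, bot_le⟩ hlt.le)
  have hfield : IntermediateField.fixedField (H.map (residueAutHom A E)) ≤ kD j := by
    intro r hr
    obtain ⟨y₀, rfl⟩ := residue_surjective r
    set y := ∑ h : H, (h : E ≃ₐ[A] E) (c * y₀) with hy
    have hres : residue E y = residue E y₀ := by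
      have hc' : (1 : ResidueField E) = ∑ h : H, residue E ((h : E ≃ₐ[A] E) c) := by
        rw [← map_sum, hc, map_one]
      rw [hy, map_sum, Finset.sum_congr rfl fun (h : H) _ => show residue E ((h : E ≃ₐ[A] E) (c * y₀)) =
          residue E ((h : E ≃ₐ[A] E) c) * residue E y₀ by
        rw [map_mul, map_mul, ← residueAutHom_residue (h : E ≃ₐ[A] E) y₀,
          show residueAutHom A E h (residue E y₀) = residue E y₀ from hr ⟨residueAutHom A E h, h, h.2, rfl⟩], ← Finset.sum_mul, ← hc', one_mul]
    have hmem := mem_closure_of_fixed Q (Set.range j) y fun τ hτ hd => by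
      rw [sum_mem_fixedSub H (c * y₀) τ ⟨hτ, fun d => hd _ ⟨d, rfl⟩⟩, sub_self]
      exact Q.zero_mem
    obtain ⟨a, b, hb, hab⟩ := exists_div_of_mem_closure_range f (Subfield.closure_le.2 (by
      rintro x (⟨a, rfl⟩ | ⟨e, ⟨d, rfl⟩, rfl⟩)
      · refine Subfield.subset_closure ⟨algebraMap A D a, ?_⟩
        show algebraMap E Q.ResidueField (j (algebraMap A D a)) = _
        rw [AlgHom.commutes, ← IsScalarTower.algebraMap_apply]
      · exact Subfield.subset_closure ⟨d, rfl⟩) hmem)
    obtain ⟨p, hp, hpy⟩ := Algebra.IsIntegral.isIntegral (R := A) y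
    obtain ⟨z, hz, hzθ⟩ := exists_isIntegral_theta_eq f (minimalPrimes.finite_of_isNoetherianRing D) hkerf hb (p := p.map (algebraMap A D))
      (hp.map _) (by
        rw [hab, eval₂_map, show f.comp (algebraMap A D) = (algebraMap E Q.ResidueField).comp (algebraMap A E) from
          RingHom.ext fun a => congrArg (algebraMap E Q.ResidueField) (j.commutes a),
          ← hom_eval₂, hpy, map_zero])
    let N := integralClosure D (FractionRing D)
    let N1 := integralClosure E Q.ResidueField
    have hint : ∀ w : N, IsIntegral E (theta f hkerf w.1) := fun w => by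
      obtain ⟨p, hp, hpw⟩ := w.2
      refine ⟨p.map j.toRingHom, hp.map _, ?_⟩
      rw [eval₂_map, show (algebraMap E Q.ResidueField).comp j.toRingHom =
        (theta f hkerf).comp (algebraMap D (FractionRing D)) from
          (RingHom.ext (theta_algebraMap f hkerf)).symm, ← hom_eval₂, hpw, map_zero]
    let ν : N →+* N1 := RingHom.codRestrict ((theta f hkerf).comp N.val.toRingHom) N1 hint
    have hνD : ∀ d : D, ν (algebraMap D N d) = algebraMap E N1 (j d) := fun d =>
      Subtype.ext (theta_algebraMap f hkerf d)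
    obtain ⟨M1, hM1⟩ := Ideal.exists_maximal N1
    haveI : Algebra.IsIntegral E N1 := inferInstance
    have hM1E : M1.comap (algebraMap E N1) = maximalIdeal E :=
      IsLocalRing.eq_maximalIdeal (Ideal.isMaximal_comap_of_isIntegral_of_isMaximal M1)
    let M : Ideal N := M1.comap ν
    haveI : M.IsPrime := Ideal.IsPrime.comap _
    haveI hMmax : M.IsMaximal := by
      refine Ideal.isMaximal_of_isIntegral_of_isMaximal_comap (R := D) M ?_
      haveI hP : ((maximalIdeal E).comap j.toRingHom).IsMaximal := by
        haveI : ((maximalIdeal E).comap j.toRingHom).IsPrime := Ideal.IsPrime.comap _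
        refine Ideal.isMaximal_of_isIntegral_of_isMaximal_comap (R := A) _ ?_
        rw [Ideal.comap_comap, AlgHom.toRingHom_eq_coe, j.comp_algebraMap]
        exact Ideal.isMaximal_comap_of_isIntegral_of_isMaximal _
      have : M.comap (algebraMap D N) = (maximalIdeal E).comap j.toRingHom := Ideal.ext fun d => by
        show ν (algebraMap D N d) ∈ M1 ↔ j d ∈ maximalIdeal E
        rw [hνD, ← hM1E]
        rfl
      rw [this]
      exact hP
    obtain ⟨q, hq, hqz⟩ := hpi M hMmax
    obtain ⟨n, d, hnd⟩ := hqz ⟨z, hz⟩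
    have hνz : ν ⟨z, hz⟩ = algebraMap E N1 y := Subtype.ext (show theta f hkerf z = _ by
      rw [hzθ, hab]; rfl)
    have hkey : y ^ q ^ n - j d ∈ maximalIdeal E := by
      rw [← hM1E, Ideal.mem_comap, map_sub, map_pow, ← hνz, ← hνD, ← map_pow, ← map_sub]
      exact hnd
    have hr' : residue E y₀ ^ q ^ n ∈ kD j := (mem_kD j).2 ⟨d, by
      rw [← hres, ← map_pow, ← sub_eq_zero, ← map_sub, residue_eq_zero_iff, ← neg_mem_iff, neg_sub]
      exact hkey⟩
    haveI : ExpChar (kD j) q := by
      let up : (N ⧸ M) →+* N1 ⧸ M1 := Ideal.quotientMap M1 ν le_rfl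
      haveI : Nontrivial (N1 ⧸ M1) := Ideal.Quotient.nontrivial_iff.2 hM1.ne_top
      letI : Field (N ⧸ M) := Ideal.Quotient.field M
      letI : Field (N1 ⧸ M1) := Ideal.Quotient.field M1
      haveI : ExpChar (N1 ⧸ M1) q := expChar_of_injective_ringHom up.injective q
      have up1 : ResidueField E →+* N1 ⧸ M1 := Ideal.quotientMap M1 (algebraMap E N1) hM1E.ge
      haveI : ExpChar (ResidueField E) q := up1.expChar up1.injective q
      exact (algebraMap (kD j) (ResidueField E)).expChar (algebraMap (kD j) (ResidueField E)).injective q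
    have hsep : IsSeparable (kD j) (residue E y₀) :=
      IsSeparable.tower_top (kD j) (Algebra.IsSeparable.isSeparable (ResidueField A) (residue E y₀))
    have hadj := IntermediateField.adjoin_simple_eq_adjoin_pow_expChar_pow_of_isSeparable (kD j)
      (ResidueField E) hsep q n
    have hbot : IntermediateField.adjoin (kD j) {residue E y₀ ^ q ^ n} = ⊥ :=
      IntermediateField.adjoin_simple_eq_bot_iff.2 (IntermediateField.mem_bot.2 ⟨⟨_, hr'⟩, rfl⟩)
    rw [hbot, IntermediateField.adjoin_simple_eq_bot_iff, IntermediateField.mem_bot] at hadj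
    obtain ⟨w, hw⟩ := hadj
    rw [← hw]
    exact w.2
  have hle := IntermediateField.fixingSubgroup_antitone hfield
  rw [IntermediateField.fixingSubgroup_fixedField] at hle
  obtain ⟨τ, hτ, hτσ⟩ := hle (show residueAutHom A E σ ∈ (kD j).fixingSubgroup from hσ)
  rw [residueAut_injective A E hτσ] at hτ
  exact hτ

end Fix

section Main

variable (A S : Type u) [CommRing A] [HenselianLocalRing A] [IsNoetherianRing A] [IsReduced A]
  [CommRing S] [IsLocalRing S] [Algebra A S] [IsLocalHom (algebraMap A S)]
  [hS : Hensel.IsStrictHenselization A S]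

include hS in
theorem isReduced_strict : IsReduced S := by
  haveI := flat_of_isStrictHenselization A S
  haveI : Module.FaithfullyFlat A S := faithfullyFlat_of_flat_local
  exact (isReduced_iff_of_isIndEtale A S (isIndEtale_of_isStrictHenselization A S)).1 inferInstance

variable (D : Subalgebra A S) [Module.Finite A D]

/-- A stage containing `D` and a given finite set. -/
theorem exists_stage_containing (fs : Finset S) :
    ∃ (E : Type u) (_ : CommRing E) (_ : IsLocalRing E) (_ : Algebra A E)
      (_ : IsLocalHom (algebraMap A E)) (g : E →ₐ[A] S) (j : D →ₐ[A] E),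
      Module.Finite A E ∧ Algebra.Etale A E ∧ IsGalois (ResidueField A) (ResidueField E) ∧
      IsLocalHom g.toRingHom ∧ g.toRingHom.Flat ∧ Function.Injective g ∧
      (∀ x ∈ fs, x ∈ g.range) ∧ g.comp j = D.val := by
  classical
  obtain ⟨gs, hgs⟩ := (Module.Finite.fg_top : (⊤ : Submodule A D).FG)
  obtain ⟨E, i1, i2, i3, i4, g, h1, h2, h3, h4, h5, h6, hmem⟩ :=
    exists_galois_stage A S (fs ∪ gs.image Subtype.val)
  have hD : D ≤ g.range := by
    intro x hx
    have : (⟨x, hx⟩ : D) ∈ Submodule.span A (gs : Set D) := hgs ▸ Submodule.mem_top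
    have hle : Submodule.span A (gs : Set D) ≤ (Subalgebra.toSubmodule g.range).comap D.val.toLinearMap :=
      Submodule.span_le.2 fun d hd => hmem d.1 (Finset.mem_union_right _ (Finset.mem_image_of_mem _ hd))
    exact hle this
  refine ⟨E, i1, i2, i3, i4, g, (AlgEquiv.ofInjective g h6).symm.toAlgHom.comp (Subalgebra.inclusion hD),
    h1, h2, h3, h4, h5, h6, fun x hx => hmem x (Finset.mem_union_left _ hx), AlgHom.ext fun d => ?_⟩
  exact congrArg Subtype.val ((AlgEquiv.ofInjective g h6).apply_symm_apply (Subalgebra.inclusion hD d))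

/-- Purely inseparable residue extensions in the normalization force `D` to be étale with extended
minimal primes. -/
theorem etale_and_extended
    (hpi : ∀ M : Ideal (integralClosure D (FractionRing D)), M.IsMaximal →
      ∃ q : ℕ, ExpChar ((integralClosure D (FractionRing D)) ⧸ M) q ∧
        ∀ z, ∃ (n : ℕ) (d : D), z ^ q ^ n - algebraMap D (integralClosure D (FractionRing D)) d ∈ M) :
    Algebra.Etale A D ∧
      ∀ Q ∈ minimalPrimes S, Q = Ideal.map (algebraMap D S) (Q.comap (algebraMap D S)) := by
  classical
  haveI := isReduced_strict A S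
  haveI : IsReduced D := isReduced_of_injective D.val Subtype.val_injective
  haveI : IsNoetherianRing S := (isNoetherianRing_iff_strict A S).1 inferInstance
  have hgen : ∀ Q : Ideal S, ∃ gs : Finset S, Ideal.span (gs : Set S) = Q :=
    fun Q => IsNoetherian.noetherian Q
  choose gens hgens using hgen
  obtain ⟨E, _, _, _, _, g, j, _, _, _, hgloc, hflat, hinj, hmem, hgj⟩ :=
    exists_stage_containing A S D ((minimalPrimes.finite_of_isNoetherianRing S).toFinset.biUnion gens)
  haveI : IsReduced E := isReduced_of_injective g hinj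
  haveI := finite_aut A E
  letI : Fintype (GD j) := Fintype.ofFinite _
  have hfixQ := fun (Q : Ideal E) (hQ : Q ∈ minimalPrimes E) (σ : E ≃ₐ[A] E) (hσ : σ ∈ GD j) =>
    fix_mod_minimalPrime j hpi hQ hσ
  haveI : IsNoetherianRing E := isNoetherian_of_tower A inferInstance
  have hfix : ∀ σ ∈ GD j, ∀ d, σ (j d) = j d := fun σ hσ d => by
    refine sub_eq_zero.1 (eq_zero_of_forall_mem_minimalPrimes fun P hP => ?_)
    exact (hfixQ P hP σ hσ).2 d
  have hjinj : Function.Injective j := fun a b h => Subtype.ext (by
    have := congrArg g h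
    rwa [← AlgHom.comp_apply, ← AlgHom.comp_apply, hgj] at this)
  have hrange := range_eq_fixedSub j hfix
  obtain ⟨c, hc⟩ := exists_sum_eq_one A E (GD j)
  haveI : Module.Free A E := Module.free_of_flat_of_isLocalRing
  let er : D ≃ₗ[A] fixedSub A E (GD j) :=
    (LinearEquiv.ofInjective j.toLinearMap hjinj).trans (LinearEquiv.ofEq _ _ hrange)
  let tr : E →ₗ[A] fixedSub A E (GD j) :=
    { toFun := fun y => ⟨∑ h : GD j, (h : E ≃ₐ[A] E) (c * y), sum_mem_fixedSub _ _⟩
      map_add' := fun a b => Subtype.ext (by simp [mul_add, Finset.sum_add_distrib])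
      map_smul' := fun r a => Subtype.ext (by simp [Finset.smul_sum, mul_smul_comm]) }
  haveI : Module.Flat A D := by
    refine Module.Flat.of_retract (M := E) j.toLinearMap (er.symm.toLinearMap.comp tr)
      (LinearMap.ext fun d => ?_)
    have : tr (j d) = er d := Subtype.ext (eq_sum_mul (GD j) hc (fun σ hσ => hfix σ hσ d))
    show er.symm (tr (j d)) = d
    rw [this, LinearEquiv.symm_apply_apply]
  haveI hDloc : IsLocalRing D := by
    letI : Algebra D E := j.toRingHom.toAlgebra
    haveI : IsScalarTower A D E := .of_algebraMap_eq fun a => (j.commutes a).symm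
    haveI : Algebra.IsIntegral A E := Algebra.IsIntegral.of_finite A E
    haveI : Algebra.IsIntegral D E := Algebra.IsIntegral.tower_top A
    refine IsLocalRing.of_unique_max_ideal ⟨(maximalIdeal E).comap (algebraMap D E),
      Ideal.isMaximal_comap_of_isIntegral_of_isMaximal _, fun P hP => ?_⟩
    haveI := hP
    obtain ⟨P', hP', hP'c⟩ := Ideal.exists_ideal_over_maximal_of_isIntegral (S := E) P
      (fun x hx => by
        rw [RingHom.mem_ker] at hx
        rw [hjinj (hx.trans (map_zero j).symm)]
        exact P.zero_mem)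
    rw [← hP'c, IsLocalRing.eq_maximalIdeal hP']
  haveI : Algebra.IsIntegral A D := Algebra.IsIntegral.of_finite A D
  haveI : IsLocalHom (algebraMap A D) := by
    refine ((IsLocalRing.local_hom_TFAE (algebraMap A D)).out 0 2 rfl rfl).mpr ?_
    rw [Ideal.map_le_iff_le_comap]
    exact (IsLocalRing.eq_maximalIdeal (Ideal.isMaximal_comap_of_isIntegral_of_isMaximal _)).ge
  haveI hjloc : IsLocalHom j.toRingHom := by
    refine ⟨fun d hd => by_contra fun hn => ?_⟩
    letI : Algebra D E := j.toRingHom.toAlgebra
    haveI : IsScalarTower A D E := .of_algebraMap_eq fun a => (j.commutes a).symm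
    haveI : Algebra.IsIntegral A E := Algebra.IsIntegral.of_finite A E
    haveI : Algebra.IsIntegral D E := Algebra.IsIntegral.tower_top A
    have hc := IsLocalRing.eq_maximalIdeal
      (Ideal.isMaximal_comap_of_isIntegral_of_isMaximal (R := D) (maximalIdeal E))
    have : d ∈ (maximalIdeal E).comap (algebraMap D E) := hc.symm ▸ hn
    exact (mem_nonunits_iff.1 this) hd
  haveI : Algebra.IsSeparable (ResidueField A) (ResidueField D) :=
    Algebra.IsSeparable.of_algHom (ResidueField A) (ResidueField E)
      ({ ResidueField.map j.toRingHom with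
        commutes' := fun a => by
          obtain ⟨a, rfl⟩ := residue_surjective a
          show residue E (j (algebraMap A D a)) = _
          rw [AlgHom.commutes]
          rfl } : ResidueField D →ₐ[ResidueField A] ResidueField E)
  haveI : Algebra.FormallyUnramified A D := by
    refine Algebra.FormallyUnramified.of_map_maximalIdeal (le_antisymm
      (((IsLocalRing.local_hom_TFAE (algebraMap A D)).out 0 2 rfl rfl).mp inferInstance) fun d hd => ?_)
    have hjd : j d ∈ (maximalIdeal A).map (algebraMap A E) := by
      rw [Algebra.FormallyUnramified.map_maximalIdeal]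
      exact fun hu => hd (hjloc.map_nonunit d hu)
    have h1 := mem_smul_fixedSub (GD j) (fun σ hσ => hfix σ hσ d) hjd
    rw [← hrange, ← Submodule.map_top, ← Submodule.map_smul''] at h1
    obtain ⟨d', hd', heq⟩ := h1
    rw [hjinj (show j d' = j d from heq)] at hd'
    rw [Ideal.smul_top_eq_map] at hd'
    exact hd'
  refine ⟨Groth.L05.EtaPt.etale_of_flat_of_formallyUnramified
    (minimalPrimes.finite_of_isNoetherianRing A), fun Q hQ => ?_⟩
  haveI := hQ.isPrime
  letI : Algebra E S := g.toRingHom.toAlgebra
  haveI : Module.Flat E S := hflat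
  have hq : Q.comap g.toRingHom ∈ minimalPrimes E := comap_mem_minimalPrimes_of_flat hQ
  have hQq : (Q.comap g.toRingHom).map g.toRingHom = Q := by
    refine le_antisymm Ideal.map_comap_le ((hgens Q).ge.trans (Ideal.span_le.2 fun y hy => ?_))
    obtain ⟨e, rfl⟩ := hmem y (Finset.mem_biUnion.2 ⟨Q, (Set.Finite.mem_toFinset _).2 hQ, hy⟩)
    exact Ideal.mem_map_of_mem g.toRingHom (show g e ∈ Q from hgens Q ▸ Ideal.subset_span hy)
  have hext := eq_map_comap_of_fixed j hfix _ fun σ hσ => (hfixQ _ hq σ hσ).1
  have hgj' : g.toRingHom.comp j.toRingHom = algebraMap D S := RingHom.ext fun d => DFunLike.congr_fun hgj d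
  conv_lhs => rw [← hQq, hext]
  rw [Ideal.map_map, Ideal.comap_comap, hgj']

/-- If `D` is étale with extended minimal primes, separable residue elements of the normalization
come from `D`. -/
theorem mem_range_of_separable [Algebra.Etale A D]
    (hext : ∀ Q ∈ minimalPrimes S, Q = Ideal.map (algebraMap D S) (Q.comap (algebraMap D S)))
    (M : Ideal (integralClosure D (FractionRing D))) [M.IsMaximal] (x : M.ResidueField)
    (k₀ : Subfield M.ResidueField)
    (hk₀ : k₀ = Subfield.closure (Set.range ((algebraMap (integralClosure D (FractionRing D)) M.ResidueField).comp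
      (algebraMap D (integralClosure D (FractionRing D))))))
    (hx : IsSeparable k₀ x) : x ∈ k₀ := by
  classical
  haveI := isReduced_strict A S
  haveI := hS.henselian
  haveI : IsReduced D := isReduced_of_injective D.val Subtype.val_injective
  haveI : IsNoetherianRing D := isNoetherian_of_tower A inferInstance
  haveI : IsSepClosed (ResidueField S) := hS.isSepClosure.sep_closed
  haveI : Algebra.IsIntegral A D := Algebra.IsIntegral.of_finite A D
  let N := integralClosure D (FractionRing D)
  let ρ : D →+* M.ResidueField := (algebraMap N M.ResidueField).comp (algebraMap D N)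
  haveI : IsLocalRing D := by
    -- `D` sits in a finite étale stage
    obtain ⟨E, _, _, _, _, g, j, _, _, _, -, -, -, -, hgj⟩ := exists_stage_containing A S D ∅
    have hjinj : Function.Injective j := fun a b h => Subtype.ext (by
      have := congrArg g h
      rwa [← AlgHom.comp_apply, ← AlgHom.comp_apply, hgj] at this)
    letI : Algebra D E := j.toRingHom.toAlgebra
    haveI : IsScalarTower A D E := .of_algebraMap_eq fun a => (j.commutes a).symm
    haveI : Algebra.IsIntegral A E := Algebra.IsIntegral.of_finite A E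
    haveI : Algebra.IsIntegral D E := Algebra.IsIntegral.tower_top A
    refine IsLocalRing.of_unique_max_ideal ⟨(maximalIdeal E).comap (algebraMap D E),
      Ideal.isMaximal_comap_of_isIntegral_of_isMaximal _, fun P hP => ?_⟩
    haveI := hP
    obtain ⟨P', hP', hP'c⟩ := Ideal.exists_ideal_over_maximal_of_isIntegral (S := E) P
      (fun x hx => by
        rw [RingHom.mem_ker] at hx
        rw [hjinj (hx.trans (map_zero j).symm)]
        exact P.zero_mem)
    rw [← hP'c, IsLocalRing.eq_maximalIdeal hP']
  have hker : ∀ d : D, ρ d = 0 ↔ d ∈ maximalIdeal D := fun d => by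
    haveI : (M.comap (algebraMap D N)).IsMaximal := Ideal.isMaximal_comap_of_isIntegral_of_isMaximal M
    rw [← IsLocalRing.eq_maximalIdeal (I := M.comap (algebraMap D N)) inferInstance, Ideal.mem_comap]
    exact Ideal.algebraMap_residueField_eq_zero
  have hρk : ∀ d, ρ d ∈ k₀ := fun d => hk₀ ▸ Subfield.subset_closure ⟨d, rfl⟩
  let e : ResidueField D →+* k₀ :=
    Ideal.Quotient.lift (maximalIdeal D) (RingHom.codRestrict ρ k₀ hρk)
      fun d hd => Subtype.ext ((hker d).2 hd)
  have he : Function.Bijective e := by
    refine ⟨e.injective, fun w => ?_⟩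
    have hw : (w : M.ResidueField) ∈ Subfield.closure (Set.range ρ) := by
      have := w.2
      simp only [hk₀] at this
      exact this
    obtain ⟨a, b, hb, hab⟩ := exists_div_of_mem_closure_range ρ hw
    have hbu : IsUnit b := by
      by_contra hbn
      exact hb ((hker b).2 hbn)
    obtain ⟨b, rfl⟩ := hbu
    refine ⟨residue D (a * ↑b⁻¹), Subtype.ext ?_⟩
    show ρ (a * ↑b⁻¹) = _
    rw [← hab, eq_div_iff hb, ← map_mul, mul_assoc, Units.inv_mul, mul_one]
  let ee : ResidueField D ≃+* k₀ := RingEquiv.ofBijective e he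
  have hee : ∀ d, (ee (residue D d) : M.ResidueField) = ρ d := fun d => rfl
  haveI hvloc : IsLocalHom (D.val.toRingHom) := by
    refine ⟨fun d hd => by_contra fun hn => ?_⟩
    have hdm : d ∈ (maximalIdeal D) := hn
    have hmap : Ideal.map (algebraMap A D) (maximalIdeal A) = maximalIdeal D := by
      haveI : IsLocalHom (algebraMap A D) := by
        refine ((IsLocalRing.local_hom_TFAE (algebraMap A D)).out 0 2 rfl rfl).mpr ?_
        rw [Ideal.map_le_iff_le_comap]
        exact (IsLocalRing.eq_maximalIdeal (Ideal.isMaximal_comap_of_isIntegral_of_isMaximal _)).ge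
      exact Algebra.FormallyUnramified.map_maximalIdeal
    rw [← hmap] at hdm
    have : D.val d ∈ (maximalIdeal A).map (algebraMap A S) := by
      rw [← AlgHom.comp_algebraMap D.val, ← Ideal.map_map]
      exact Ideal.mem_map_of_mem _ hdm
    exact (((IsLocalRing.local_hom_TFAE (algebraMap A S)).out 0 2 rfl rfl).mp inferInstance this) hd
  let χ : ResidueField D →+* ResidueField S := ResidueField.map D.val.toRingHom
  set m0 := minpoly k₀ x
  have hm0 : m0.Monic := minpoly.monic hx.isIntegral
  let P0 : (ResidueField S)[X] := (m0.map ee.symm.toRingHom).map χ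
  have hsplit : P0.Splits :=
    IsSepClosed.splits_codomain (f := χ) _ (Polynomial.Separable.map hx)
  have hlift : ∀ r : ResidueField S, ∃ s : S, residue S s = r := residue_surjective
  choose lift hlift using hlift
  -- minimal prime under `M`
  have hP : ∃ (P : Ideal D) (_ : P.IsPrime) (hPm : RingHom.ker (algebraMap D P.ResidueField) ∈ minimalPrimes D),
      RingHom.ker ((theta (algebraMap D P.ResidueField) hPm).comp N.val.toRingHom) ≤ M := by
    by_contra hall
    push Not at hall
    let ms := (minimalPrimes.finite_of_isNoetherianRing D).toFinset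
    let I : {P // P ∈ ms} → Ideal N := fun P =>
      haveI : P.1.IsPrime := ((Set.Finite.mem_toFinset _).1 P.2).isPrime
      have hPm : RingHom.ker (algebraMap D P.1.ResidueField) ∈ minimalPrimes D := by
        rw [show RingHom.ker (algebraMap D P.1.ResidueField) = P.1 from
          Ideal.ext fun x => Ideal.algebraMap_residueField_eq_zero]
        exact (Set.Finite.mem_toFinset _).1 P.2
      RingHom.ker ((theta (algebraMap D P.1.ResidueField) hPm).comp N.val.toRingHom)
    have hbot : Finset.univ.inf I ≤ M := fun z hz => by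
      have : z = 0 := Subtype.ext (eq_zero_of_forall_theta fun P _ hPm => by
        have hPms : P ∈ ms := (Set.Finite.mem_toFinset _).2 (by
          rwa [show RingHom.ker (algebraMap D P.ResidueField) = P from
            Ideal.ext fun x => Ideal.algebraMap_residueField_eq_zero] at hPm)
        exact (Finset.inf_le (f := I) (Finset.mem_univ ⟨P, hPms⟩) hz : z ∈ I ⟨P, hPms⟩))
      rw [this]
      exact M.zero_mem
    obtain ⟨P, -, hle⟩ := (Ideal.IsPrime.inf_le' (inferInstance : M.IsPrime)).1 hbot
    haveI : P.1.IsPrime := ((Set.Finite.mem_toFinset _).1 P.2).isPrime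
    exact hall P.1 inferInstance _ hle
  obtain ⟨P, _, hPm, hPM⟩ := hP
  have hPeq : RingHom.ker (algebraMap D P.ResidueField) = P :=
    Ideal.ext fun x => Ideal.algebraMap_residueField_eq_zero
  obtain ⟨Qs, hQs, hQsP⟩ := Ideal.exists_minimalPrimes_comap_eq (I := (⊥ : Ideal S))
    (algebraMap D S) P (by
      rw [Ideal.comap_bot_of_injective _ (Subtype.val_injective : Function.Injective (algebraMap D S))]
      exact hPeq ▸ hPm)
  haveI := hQs.isPrime
  obtain ⟨E, _, _, _, _, g, j, _, _, _, hgloc, hflat, hinj, hmem, hgj⟩ :=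
    exists_stage_containing A S D (P0.roots.toFinset.image lift)
  haveI : Algebra.IsIntegral A E := Algebra.IsIntegral.of_finite A E
  have hgj' : g.toRingHom.comp j.toRingHom = algebraMap D S := RingHom.ext fun d => DFunLike.congr_fun hgj d
  set q := Qs.comap g.toRingHom with hqdef
  haveI : q.IsPrime := Ideal.IsPrime.comap _
  have hqP : q.comap j.toRingHom = P := by rw [hqdef, Ideal.comap_comap, hgj', hQsP]
  have hqmap : q = P.map j.toRingHom := by
    letI : Algebra E S := g.toRingHom.toAlgebra
    haveI : IsLocalHom (algebraMap E S) := hgloc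
    haveI : Module.Flat E S := hflat
    haveI : Module.FaithfullyFlat E S := Module.FaithfullyFlat.of_flat_of_isLocalHom
    have h2 : Qs = (P.map j.toRingHom).map g.toRingHom := by
      rw [Ideal.map_map, hgj', ← hQsP]
      exact hext Qs hQs
    rw [hqdef, h2]
    exact Ideal.comap_map_eq_self_of_faithfullyFlat (B := S) (P.map j.toRingHom)
  haveI hjloc : IsLocalHom j.toRingHom := by
    refine ⟨fun d hd => hvloc.map_nonunit d ?_⟩
    have := hd.map g.toRingHom
    rwa [← RingHom.comp_apply, hgj'] at this
  have hfix : ∀ σ ∈ GD j, ∀ d, σ (j d) = j d := by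
    intro σ hσ d
    exact DFunLike.congr_fun (algHom_eq_of_residue_eq (σ.toAlgHom.comp j) j ((mem_GD j).1 hσ)) d
  -- the normalization at the branch
  let f : D →+* q.ResidueField := (algebraMap E q.ResidueField).comp j.toRingHom
  have hkerf : RingHom.ker f = P := by
    ext d
    show algebraMap E q.ResidueField (j d) = 0 ↔ _
    rw [Ideal.algebraMap_residueField_eq_zero, ← hqP]
    rfl
  have hf : RingHom.ker f ∈ minimalPrimes D := by rw [hkerf]; exact hPeq ▸ hPm
  let N1 := integralClosure E q.ResidueField
  haveI : Algebra.IsIntegral E N1 := inferInstance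
  haveI : Algebra.IsIntegral A N1 := Algebra.IsIntegral.trans E
  haveI : IsLocalRing N1 := Groth.L05.isLocalRing_of_integral_domain (A := A) N1
  let M1 := maximalIdeal N1
  have hM1E : M1.comap (algebraMap E N1) = maximalIdeal E :=
    IsLocalRing.eq_maximalIdeal (Ideal.isMaximal_comap_of_isIntegral_of_isMaximal M1)
  have hint : ∀ w : N, IsIntegral E (theta f hf w.1) := fun w => by
    obtain ⟨p, hp, hpw⟩ := w.2
    refine ⟨p.map j.toRingHom, hp.map _, ?_⟩
    rw [eval₂_map, show (algebraMap E q.ResidueField).comp j.toRingHom =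
      (theta f hf).comp (algebraMap D (FractionRing D)) from
        (RingHom.ext (theta_algebraMap f hf)).symm, ← hom_eval₂, hpw, map_zero]
  let ν : N →+* N1 := RingHom.codRestrict ((theta f hf).comp N.val.toRingHom) N1 hint
  have hνD : ∀ d : D, ν (algebraMap D N d) = algebraMap E N1 (j d) := fun d =>
    Subtype.ext (theta_algebraMap f hf d)
  have hM : M = M1.comap ν := by
    have hkerν : RingHom.ker ν ≤ M := fun z hz => hPM (by
      have hz' : theta f hf z.1 = 0 := congrArg Subtype.val hz
      obtain ⟨a, s, has⟩ := IsLocalization.exists_mk'_eq D⁰ z.1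
      rw [RingHom.mem_ker]
      show theta _ hPm z.1 = 0
      rw [← has, theta_mk'_eq_zero] at hz' ⊢
      rwa [← RingHom.mem_ker, hPeq, ← hkerf, RingHom.mem_ker])
    letI : Algebra N N1 := ν.toAlgebra
    have hDE : j.toRingHom.IsIntegral := by
      refine RingHom.IsIntegral.tower_top (algebraMap A D) _ ?_
      rw [AlgHom.toRingHom_eq_coe, j.comp_algebraMap]
      exact fun y => Algebra.IsIntegral.isIntegral y
    have hνint : ν.IsIntegral := by
      refine RingHom.IsIntegral.tower_top (algebraMap D N) _ ?_
      rw [show ν.comp (algebraMap D N) = (algebraMap E N1).comp j.toRingHom from RingHom.ext hνD]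
      exact RingHom.IsIntegral.trans _ _ hDE fun y => Algebra.IsIntegral.isIntegral y
    haveI : Algebra.IsIntegral N N1 := ⟨hνint⟩
    obtain ⟨M', hM', hM'c⟩ := Ideal.exists_ideal_over_maximal_of_isIntegral (S := N1) M hkerν
    rw [← hM'c, IsLocalRing.eq_maximalIdeal hM']
    rfl
  let ν' : M.ResidueField →+* M1.ResidueField := Ideal.ResidueField.map M M1 ν hM
  let u : ResidueField E →+* M1.ResidueField :=
    Ideal.Quotient.lift (maximalIdeal E) ((algebraMap N1 M1.ResidueField).comp (algebraMap E N1))
      fun y hy => Ideal.algebraMap_residueField_eq_zero.2 (hM1E.ge hy : y ∈ M1.comap (algebraMap E N1))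
  let κ : ResidueField D →+* ResidueField E := ResidueField.map j.toRingHom
  have hcomp : ν'.comp (k₀.subtype.comp ee.toRingHom) = u.comp κ := by
    refine RingHom.ext fun r => ?_
    obtain ⟨d, rfl⟩ := residue_surjective r
    show ν' (ρ d) = algebraMap N1 M1.ResidueField (algebraMap E N1 (j d))
    rw [← hνD]
    exact Ideal.ResidueField.map_algebraMap _ _ _ hM _
  -- splitting in the stage
  set m1 : (ResidueField E)[X] := (m0.map ee.symm.toRingHom).map κ with hm1
  let gb : ResidueField E →+* ResidueField S := ResidueField.map g.toRingHom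
  have hgbκ : gb.comp κ = χ := by
    refine RingHom.ext fun r => ?_
    obtain ⟨d, rfl⟩ := residue_surjective r
    show residue S (g (j d)) = residue S (D.val d)
    rw [← AlgHom.comp_apply, hgj]
  have hpre : ∀ r ∈ P0.roots, ∃ r' : ResidueField E, gb r' = r := by
    intro r hr
    obtain ⟨e', he'⟩ := hmem (lift r) (Finset.mem_image_of_mem _ (Multiset.mem_toFinset.2 hr))
    refine ⟨residue E e', ?_⟩
    show residue S (g e') = r
    rw [show g e' = lift r from he', hlift]
  choose! pre hpre using hpre
  have hm1prod : m1 = ((P0.roots.map pre).map fun r => Polynomial.X - Polynomial.C r).prod := by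
    refine Polynomial.map_injective gb gb.injective ?_
    rw [hm1, Polynomial.map_map, hgbκ, Polynomial.map_multiset_prod, Multiset.map_map, Multiset.map_map]
    conv_lhs => rw [show (m0.map ee.symm.toRingHom).map χ = P0 from rfl,
      hsplit.eq_prod_roots_of_monic ((hm0.map _).map _)]
    exact congrArg Multiset.prod (Multiset.map_congr rfl fun r hr => by simp [hpre r hr])
  obtain ⟨z, hz⟩ := Ideal.algebraMap_residueField_surjective M x
  set x' := ν' x with hx'
  have hroot : (m1.map u).eval x' = 0 := by
    have h0 : m0.eval₂ k₀.subtype x = 0 := minpoly.aeval k₀ x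
    rw [hm1, Polynomial.map_map, Polynomial.map_map, eval_map,
      show (u.comp κ).comp ee.symm.toRingHom = ν'.comp k₀.subtype from RingHom.ext fun w => by
        rw [← hcomp]
        show ν' (k₀.subtype (ee (ee.symm w))) = _
        rw [RingEquiv.apply_symm_apply]
        rfl,
      hx', ← hom_eval₂, h0, map_zero]
  obtain ⟨r, -, hr⟩ : ∃ r ∈ P0.roots.map pre, u r = x' := by
    rw [hm1prod, Polynomial.map_multiset_prod, eval_multiset_prod, Multiset.map_map, Multiset.map_map,
      Multiset.prod_eq_zero_iff] at hroot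
    obtain ⟨r, hr, hr0⟩ := Multiset.mem_map.1 hroot
    exact ⟨r, hr, (sub_eq_zero.1 (by simpa using hr0)).symm⟩
  have hrfix : ∀ σ ∈ GD j, residueAutHom A E σ r = r := by
    intro σ hσ
    have hσq : q.map σ.toRingEquiv.toRingHom = q := by
      rw [hqmap, Ideal.map_map]
      congr 1
      exact RingHom.ext fun d => hfix σ hσ d
    have hσq' : q = q.comap σ.toRingEquiv.toRingHom := by
      conv_rhs => rw [← hσq]
      exact (Ideal.comap_map_of_bijective _ σ.bijective).symm
    let σq : q.ResidueField →+* q.ResidueField := Ideal.ResidueField.map q q σ.toRingEquiv.toRingHom hσq'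
    have hσqE : ∀ e : E, σq (algebraMap E q.ResidueField e) = algebraMap E q.ResidueField (σ e) :=
      fun e => Ideal.ResidueField.map_algebraMap _ _ _ hσq' e
    have hσθ : σq.comp (theta f hf) = theta f hf :=
      IsLocalization.ringHom_ext D⁰ (RingHom.ext fun d => by
        show σq (theta f hf (algebraMap D _ d)) = theta f hf (algebraMap D _ d)
        rw [theta_algebraMap]
        show σq (algebraMap E _ (j d)) = _
        rw [hσqE, hfix σ hσ]
        rfl)
    have hσint : ∀ w : N1, IsIntegral E (σq w.1) := fun w => by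
      obtain ⟨p, hp, hpw⟩ := w.2
      refine ⟨p.map σ.toRingEquiv.toRingHom, hp.map _, ?_⟩
      rw [eval₂_map, show (algebraMap E q.ResidueField).comp σ.toRingEquiv.toRingHom =
        σq.comp (algebraMap E q.ResidueField) from RingHom.ext fun e => (hσqE e).symm,
        ← hom_eval₂, hpw, map_zero]
    let σ1 : N1 →+* N1 := RingHom.codRestrict (σq.comp N1.val.toRingHom) N1 hσint
    have hσ1E : ∀ e, σ1 (algebraMap E N1 e) = algebraMap E N1 (σ e) := fun e => Subtype.ext (hσqE e)
    have hσ1M : M1 = M1.comap σ1 := by
      haveI : (M1.comap σ1).IsPrime := Ideal.IsPrime.comap _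
      refine (IsLocalRing.eq_maximalIdeal
        (Ideal.isMaximal_of_isIntegral_of_isMaximal_comap (R := E) (M1.comap σ1) ?_)).symm
      have : (M1.comap σ1).comap (algebraMap E N1) = maximalIdeal E := Ideal.ext fun e => by
        show σ1 (algebraMap E N1 e) ∈ M1 ↔ _
        rw [hσ1E]
        show σ e ∈ M1.comap (algebraMap E N1) ↔ _
        rw [hM1E, mem_maximalIdeal, mem_maximalIdeal, mem_nonunits_iff, mem_nonunits_iff, MulEquiv.isUnit_map]
      rw [this]
      infer_instance
    let σb : M1.ResidueField →+* M1.ResidueField := Ideal.ResidueField.map M1 M1 σ1 hσ1M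
    have hσbu : ∀ w : ResidueField E, σb (u w) = u (residueAutHom A E σ w) := by
      intro w
      obtain ⟨e', rfl⟩ := residue_surjective w
      show σb (algebraMap N1 M1.ResidueField (algebraMap E N1 e')) =
        algebraMap N1 M1.ResidueField (algebraMap E N1 (σ e'))
      rw [Ideal.ResidueField.map_algebraMap, hσ1E]
    have hσx : σb x' = x' := by
      rw [hx', ← hz, Ideal.ResidueField.map_algebraMap, Ideal.ResidueField.map_algebraMap]
      congr 1
      exact Subtype.ext (show σq (theta f hf z.1) = theta f hf z.1 from RingHom.congr_fun hσθ z.1)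
    refine u.injective ?_
    rw [← hσbu, hr, hσx]
  obtain ⟨d, hd⟩ := (mem_kD j).1 (mem_kD_of_fixed j hrfix)
  have : ν' x = ν' (ρ d) := by
    rw [← hx', ← hr, ← hd]
    exact (RingHom.congr_fun hcomp (residue D d)).symm
  rw [ν'.injective this]
  exact hρk d

end Main

end

end Groth.L05.StrictGalois
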