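import Groth.Agent.L05.StrictGalois.AutS
import Groth.Agent.L05.StrictGalois.Branch

/-!
# Intermediate rings of a strict henselization: Noetherianity and branches
-/

set_option autoImplicit false

open IsLocalRing
open scoped Pointwise nonZeroDivisors

namespace Groth.L05.StrictGalois

universe u

open Groth.L05.Henselization
open Polynomial

noncomputable section

variable {A S : Type u} [CommRing A] [HenselianLocalRing A] [IsNoetherianRing A] [IsReduced A]
  [CommRing S] [IsLocalRing S] [Algebra A S] [IsLocalHom (algebraMap A S)]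
  [hS : Hensel.IsStrictHenselization A S]

include hS in
omit [IsNoetherianRing A] [IsReduced A] in
theorem isIntegral_strict : Algebra.IsIntegral A S := ⟨fun x => by
  obtain ⟨E, _, _, _, _, g, _, _, _, -, -, -, hmem⟩ := exists_galois_stage A S {x}
  obtain ⟨e, rfl⟩ := hmem x (Finset.mem_singleton_self x)
  exact (Algebra.IsIntegral.isIntegral (R := A) e).map g⟩

section Sub

variable (D : Subalgebra A S)

include hS in
theorem isIntegral_over_sub : Algebra.IsIntegral D S :=
  haveI := isIntegral_strict (hS := hS)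
  Algebra.IsIntegral.tower_top A

include hS in
theorem isIntegral_sub : Algebra.IsIntegral A D :=
  haveI := isIntegral_strict (hS := hS)
  ⟨fun x => (isIntegral_algHom_iff D.val Subtype.val_injective).1 (Algebra.IsIntegral.isIntegral x.1)⟩

include hS in
theorem isLocalRing_sub : IsLocalRing D := by
  haveI := isIntegral_over_sub (hS := hS) D
  refine IsLocalRing.of_unique_max_ideal ⟨(maximalIdeal S).comap (algebraMap D S),
    Ideal.isMaximal_comap_of_isIntegral_of_isMaximal _, fun P hP => ?_⟩
  haveI := hP
  obtain ⟨P', hP', hP'c⟩ := Ideal.exists_ideal_over_maximal_of_isIntegral (S := S) P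
    (fun x hx => by
      rw [RingHom.mem_ker] at hx
      rw [show x = 0 from Subtype.ext hx]
      exact P.zero_mem)
  rw [← hP'c, IsLocalRing.eq_maximalIdeal hP']

include hS in
theorem isLocalHom_sub [IsLocalRing D] : IsLocalHom (algebraMap D S) := by
  haveI := isIntegral_over_sub (hS := hS) D
  refine ((IsLocalRing.local_hom_TFAE (algebraMap D S)).out 0 2 rfl rfl).mpr ?_
  rw [Ideal.map_le_iff_le_comap]
  exact (IsLocalRing.eq_maximalIdeal (Ideal.isMaximal_comap_of_isIntegral_of_isMaximal _)).ge

/-- The residue field of `D` inside that of `S`. -/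
def KD : IntermediateField (ResidueField A) (ResidueField S) :=
  Subalgebra.toIntermediateField
    { carrier := Set.range fun d : D => residue S (d : S)
      mul_mem' := by rintro _ _ ⟨a, rfl⟩ ⟨b, rfl⟩; exact ⟨a * b, by simp⟩
      add_mem' := by rintro _ _ ⟨a, rfl⟩ ⟨b, rfl⟩; exact ⟨a + b, by simp⟩
      algebraMap_mem' := fun a => by
        obtain ⟨a, rfl⟩ := residue_surjective a
        exact ⟨algebraMap A D a, rfl⟩ }
    fun x hx => by
      haveI : Algebra.IsSeparable (ResidueField A) (ResidueField S) := hS.isSepClosure.separable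
      exact Subalgebra.inv_mem_of_algebraic _ (x := ⟨x, hx⟩) (Algebra.IsAlgebraic.isAlgebraic x)

theorem mem_KD {x : ResidueField S} : x ∈ KD (hS := hS) D ↔ ∃ d : D, residue S (d : S) = x := Iff.rfl

include hS in
/-- The fixed ring of the residue field of `D` is contained in `D`. -/
theorem cfix_KD_le : cfix A S (KD (hS := hS) D) ≤ D := by
  classical
  intro x hx
  haveI := hS.henselian
  haveI := isLocalRing_sub (hS := hS) D
  haveI := isLocalHom_sub (hS := hS) D
  haveI := isIntegral_sub (hS := hS) D
  haveI : HenselianLocalRing D := Groth.L05.henselianLocalRing_of_integral (A := A) D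
  obtain ⟨E, _, _, _, _, g, _, _, _, hgloc, -, hinj, hmem⟩ := exists_galois_stage A S {x}
  obtain ⟨e, rfl⟩ := hmem x (Finset.mem_singleton_self _)
  haveI : Algebra.IsIntegral A E := Algebra.IsIntegral.of_finite A E
  haveI : HenselianLocalRing E := Groth.L05.henselianLocalRing_of_integral (A := A) E
  haveI := finite_aut A E
  haveI : FiniteDimensional (ResidueField A) (ResidueField E) :=
    Module.Finite.of_restrictScalars_finite A _ _
  let H : Subgroup (E ≃ₐ[A] E) := (fixK A S (KD (hS := hS) D)).map (restr (hS := hS) g hinj)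
  letI : Fintype H := Fintype.ofFinite _
  let k' : IntermediateField (ResidueField A) (ResidueField E) :=
    (KD (hS := hS) D).comap (gbar g)
  have hres : ∀ e' ∈ fixedSub A E H, residue E e' ∈ k' := by
    intro e' he'
    show gbar g (residue E e') ∈ KD (hS := hS) D
    rw [gbar_residue]
    refine residue_mem_of_mem_cfix fun σ hσ => ?_
    rw [← restr_apply (hS := hS) g hinj, he' _ ⟨σ, hσ, rfl⟩]
  haveI : Algebra.FormallyEtale (ResidueField A) k' := Algebra.FormallyEtale.of_isSeparable _ _
  haveI : Algebra.Etale (ResidueField A) k' :=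
    { finitePresentation := Algebra.FinitePresentation.of_finiteType.mp inferInstance }
  letI : Algebra (A ⧸ maximalIdeal A) k' := inferInstanceAs (Algebra (ResidueField A) k')
  haveI : IsScalarTower A (A ⧸ maximalIdeal A) k' := inferInstanceAs (IsScalarTower A (ResidueField A) k')
  haveI : Module.Finite (A ⧸ maximalIdeal A) k' := inferInstanceAs (Module.Finite (ResidueField A) k')
  haveI : Algebra.Etale (A ⧸ maximalIdeal A) k' := inferInstanceAs (Algebra.Etale (ResidueField A) k')
  obtain ⟨F, _, _, θ, hFfin, hFet, hθ, -⟩ := Groth.L05.exists_finite_etale_lift (maximalIdeal A) (C := k')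
  obtain ⟨ι, hι, -⟩ := existsUnique_algHom_lift_etale (maximalIdeal E) ((k'.val.restrictScalars A).comp θ)
  have hιres : ∀ f, residue E (ι f) = (θ f : ResidueField E) := fun f => DFunLike.congr_fun hι f
  let χ : D →ₐ[A] ResidueField S := (IsScalarTower.toAlgHom A S (ResidueField S)).comp D.val
  let eD : (D ⧸ maximalIdeal D) →ₐ[A] ResidueField S :=
    Ideal.Quotient.liftₐ _ χ fun d hd => (residue_eq_zero_iff _).2 (map_nonunit (algebraMap D S) d hd)
  have hto : ∀ f : F, ∃ d : D ⧸ maximalIdeal D, eD d = gbar g (θ f : ResidueField E) := by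
    intro f
    obtain ⟨d, hd⟩ := (mem_KD D).1 (show gbar g (θ f : ResidueField E) ∈ KD (hS := hS) D from (θ f).2)
    exact ⟨Ideal.Quotient.mk _ d, hd⟩
  haveI : Nontrivial (D ⧸ maximalIdeal D) := Ideal.Quotient.nontrivial_iff.2 Ideal.IsPrime.ne_top'
  letI : Field (D ⧸ maximalIdeal D) := Ideal.Quotient.field _
  choose toD htoD using hto
  have heinj : Function.Injective eD := eD.toRingHom.injective
  let σD : F →ₐ[A] D ⧸ maximalIdeal D :=
    { toFun := toD
      map_one' := heinj (by rw [htoD, map_one, map_one]; simp)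
      map_mul' := fun a b => heinj (by rw [htoD, map_mul, map_mul, htoD, htoD]; simp)
      map_zero' := heinj (by rw [htoD, map_zero, map_zero]; simp)
      map_add' := fun a b => heinj (by rw [htoD, map_add, map_add, htoD, htoD]; simp)
      commutes' := fun a => heinj (by
        rw [htoD, AlgHom.commutes, AlgHom.commutes, IsScalarTower.algebraMap_apply A (ResidueField A) k']
        show gbar g (algebraMap (ResidueField A) (ResidueField E) _) = _
        rw [AlgHom.commutes, ← IsScalarTower.algebraMap_apply]) }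
  obtain ⟨δ, hδ, -⟩ := existsUnique_algHom_lift_etale (maximalIdeal D) σD
  have hagree : g.comp ι = D.val.comp δ := algHom_eq_of_residue_eq _ _ fun f => by
    show residue S (g (ι f)) = residue S (δ f : S)
    rw [← gbar_residue, hιres, ← htoD]
    exact (congrArg eD (DFunLike.congr_fun hδ f : Ideal.Quotient.mk _ (δ f) = toD f)).symm
  have hW : LinearMap.range ι.toLinearMap ≤ fixedSub A E H := by
    rintro _ ⟨f, rfl⟩ _ ⟨σ, hσ, rfl⟩
    refine DFunLike.congr_fun (algHom_eq_of_residue_eq ((restr (hS := hS) g hinj σ).toAlgHom.comp ι) ι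
      fun f => (gbar g).toRingHom.injective ?_) f
    show gbar g (residue E (restr (hS := hS) g hinj σ (ι f))) = gbar g (residue E (ι f))
    rw [gbar_residue, restr_apply, ← resAutS_residue, ← gbar_residue g (ι f), hιres]
    exact mem_fixK.1 hσ _ (θ f).2
  have hle := fixedSub_le H hW fun e' he' => by
    obtain ⟨f, hf⟩ := hθ ⟨_, hres e' he'⟩
    exact ⟨ι f, ⟨f, rfl⟩, by rw [hιres, hf]⟩
  obtain ⟨f, hf⟩ := hle (show e ∈ fixedSub A E H by
    rintro _ ⟨σ, hσ, rfl⟩
    exact hinj (by rw [restr_apply]; exact hx σ hσ))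
  show g e ∈ D
  rw [show e = ι f from hf.symm, show g (ι f) = (δ f : S) from DFunLike.congr_fun hagree f]
  exact (δ f).2

end Sub

section BranchData

variable (D : Subalgebra A S) (Q : Ideal S) [Q.IsPrime]

/-- The map of `D` to the residue field at `Q`. -/
def fQ : D →+* Q.ResidueField := (algebraMap S Q.ResidueField).comp (algebraMap D S)

include hS in
theorem ker_fQ (hQ : Q ∈ minimalPrimes S) : RingHom.ker (fQ D Q) ∈ minimalPrimes D := by
  haveI : Module.Flat A S := flat_of_isStrictHenselization A S
  haveI := isIntegral_sub (hS := hS) D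
  haveI : (RingHom.ker (fQ D Q)).IsPrime := RingHom.ker_isPrime _
  have hk : (RingHom.ker (fQ D Q)).comap (algebraMap A D) = Q.comap (algebraMap A S) := Ideal.ext fun a => by
    show algebraMap S Q.ResidueField (algebraMap A S a) = 0 ↔ _
    rw [Ideal.algebraMap_residueField_eq_zero]
    rfl
  refine ⟨⟨inferInstance, bot_le⟩, fun P hP hle => ?_⟩
  haveI := hP.1
  by_contra hcon
  have hlt := Ideal.IsIntegral.comap_lt_comap (R := A) (lt_of_le_not_ge hle hcon)
  rw [hk] at hlt
  exact hlt.not_ge ((comap_mem_minimalPrimes_of_flat hQ).2 ⟨Ideal.IsPrime.comap _, bot_le⟩ hlt.le)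

variable (hQ : Q ∈ minimalPrimes S)

/-- The normalization maps to the normalization at `Q`. -/
def nu : integralClosure D (FractionRing D) →+* integralClosure S Q.ResidueField :=
  RingHom.codRestrict ((theta (fQ D Q) (ker_fQ (hS := hS) D Q hQ)).comp
      (integralClosure D (FractionRing D)).val.toRingHom) _ fun w => by
    obtain ⟨p, hp, hpw⟩ := w.2
    refine ⟨p.map (algebraMap D S), hp.map _, ?_⟩
    rw [eval₂_map, show (algebraMap S Q.ResidueField).comp (algebraMap D S) =
      (theta (fQ D Q) (ker_fQ (hS := hS) D Q hQ)).comp (algebraMap D (FractionRing D)) from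
        (RingHom.ext (theta_algebraMap (fQ D Q) (ker_fQ (hS := hS) D Q hQ))).symm]
    show Polynomial.eval₂ _ ((theta (fQ D Q) (ker_fQ (hS := hS) D Q hQ)) w.1) p = 0
    rw [← hom_eval₂, hpw, map_zero]

theorem nu_algebraMap (d : D) :
    nu (hS := hS) D Q hQ (algebraMap D _ d) = algebraMap S (integralClosure S Q.ResidueField) (d : S) :=
  Subtype.ext (theta_algebraMap (fQ D Q) (ker_fQ (hS := hS) D Q hQ) d)

include hS in
theorem isLocalRing_N1 : IsLocalRing (integralClosure S Q.ResidueField) := by
  haveI := isIntegral_strict (hS := hS)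
  haveI : Algebra.IsIntegral A (integralClosure S Q.ResidueField) := Algebra.IsIntegral.trans S
  exact Groth.L05.isLocalRing_of_integral_domain (A := A) _

end BranchData

section BranchField

variable (D : Subalgebra A S) (Q : Ideal S) [Q.IsPrime] (hQ : Q ∈ minimalPrimes S)

/-- The maximal ideal at the branch `Q`. -/
def M1 : Ideal (integralClosure S Q.ResidueField) :=
  haveI := isLocalRing_N1 (hS := hS) Q
  maximalIdeal _

instance isMaximal_M1 : (M1 (hS := hS) Q).IsMaximal :=
  haveI := isLocalRing_N1 (hS := hS) Q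
  maximalIdeal.isMaximal _

theorem comap_M1 : (M1 (hS := hS) Q).comap (algebraMap S (integralClosure S Q.ResidueField)) = maximalIdeal S :=
  IsLocalRing.eq_maximalIdeal (Ideal.isMaximal_comap_of_isIntegral_of_isMaximal _)

/-- The residue field of `S` maps to the residue field at the branch. -/
def uQ : ResidueField S →+* (M1 (hS := hS) Q).ResidueField :=
  Ideal.Quotient.lift (maximalIdeal S)
    ((algebraMap (integralClosure S Q.ResidueField) (M1 (hS := hS) Q).ResidueField).comp
      (algebraMap S (integralClosure S Q.ResidueField)))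
    fun y hy => Ideal.algebraMap_residueField_eq_zero.2
      ((comap_M1 (hS := hS) Q).ge hy : y ∈ (M1 (hS := hS) Q).comap (algebraMap S (integralClosure S Q.ResidueField)))

/-- The maximal ideal of the normalization of `D` under the branch `Q`. -/
def MQ : Ideal (integralClosure D (FractionRing D)) :=
  (M1 (hS := hS) Q).comap (nu (hS := hS) D Q hQ)

instance isPrime_MQ : (MQ (hS := hS) D Q hQ).IsPrime := Ideal.IsPrime.comap _

instance isMaximal_MQ : (MQ (hS := hS) D Q hQ).IsMaximal := by
  haveI := isLocalRing_sub (hS := hS) D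
  haveI := isLocalHom_sub (hS := hS) D
  refine Ideal.isMaximal_of_isIntegral_of_isMaximal_comap (R := D) _ ?_
  have : (MQ (hS := hS) D Q hQ).comap (algebraMap D _) = maximalIdeal D := Ideal.ext fun d => by
    show nu (hS := hS) D Q hQ (algebraMap D _ d) ∈ M1 (hS := hS) Q ↔ _
    rw [nu_algebraMap, ← Ideal.mem_comap, comap_M1]
    exact ⟨fun h hu => h (hu.map (algebraMap D S)), fun h => map_nonunit (algebraMap D S) d h⟩
  rw [this]
  infer_instance

/-- The residue field embedding at the branch. -/
def nu' : (MQ (hS := hS) D Q hQ).ResidueField →+* (M1 (hS := hS) Q).ResidueField :=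
  Ideal.ResidueField.map _ _ (nu (hS := hS) D Q hQ) rfl

/-- The structure map of `D` to the residue field. -/
abbrev rho (M : Ideal (integralClosure D (FractionRing D))) [M.IsPrime] : D →+* M.ResidueField :=
  (algebraMap (integralClosure D (FractionRing D)) M.ResidueField).comp
    (algebraMap D (integralClosure D (FractionRing D)))

theorem nu'_rho (d : D) :
    nu' (hS := hS) D Q hQ (rho D (MQ (hS := hS) D Q hQ) d) = uQ (hS := hS) Q (residue S (d : S)) := by
  show nu' (hS := hS) D Q hQ (algebraMap _ _ (algebraMap D (integralClosure D (FractionRing D)) d)) =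
    algebraMap (integralClosure S Q.ResidueField) (M1 (hS := hS) Q).ResidueField (algebraMap S (integralClosure S Q.ResidueField) (d : S))
  rw [nu', Ideal.ResidueField.map_algebraMap, nu_algebraMap]

include hS in
/-- Every maximal ideal of the normalization lies under a branch. -/
theorem exists_branch [IsNoetherianRing A]
    (M : Ideal (integralClosure D (FractionRing D))) [hM : M.IsMaximal] :
    ∃ (Q : Ideal S) (_ : Q.IsPrime) (hQ : Q ∈ minimalPrimes S), M = MQ (hS := hS) D Q hQ := by
  classical
  haveI : IsReduced S := isReduced_strict A S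
  haveI : IsReduced D := isReduced_of_injective D.val Subtype.val_injective
  haveI : IsNoetherianRing S := (isNoetherianRing_iff_strict A S).1 inferInstance
  let ms := (minimalPrimes.finite_of_isNoetherianRing S).toFinset
  let I : {P // P ∈ ms} → Ideal (integralClosure D (FractionRing D)) := fun P =>
    haveI : P.1.IsPrime := ((Set.Finite.mem_toFinset _).1 P.2).isPrime
    RingHom.ker (nu (hS := hS) D P.1 ((Set.Finite.mem_toFinset _).1 P.2))
  have hbot : Finset.univ.inf I ≤ M := fun z hz => by
    have : z = 0 := Subtype.ext (eq_zero_of_forall_theta fun P _ hPm => by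
      have hPeq : RingHom.ker (algebraMap D P.ResidueField) = P :=
        Ideal.ext fun x => Ideal.algebraMap_residueField_eq_zero
      obtain ⟨Qs, hQs, hQsP⟩ := Ideal.exists_minimalPrimes_comap_eq (I := (⊥ : Ideal S))
        (algebraMap D S) P (by
          rw [Ideal.comap_bot_of_injective _ (Subtype.val_injective : Function.Injective (algebraMap D S))]
          exact hPeq ▸ hPm)
      haveI := hQs.isPrime
      have hQms : Qs ∈ ms := (Set.Finite.mem_toFinset _).2 hQs
      have h0 : theta (fQ D Qs) (ker_fQ (hS := hS) D Qs hQs) z.1 = 0 :=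
        congrArg Subtype.val (Finset.inf_le (f := I) (Finset.mem_univ ⟨Qs, hQms⟩) hz : z ∈ I ⟨Qs, hQms⟩)
      obtain ⟨a, s, has⟩ := IsLocalization.exists_mk'_eq D⁰ z.1
      rw [← has, theta_mk'_eq_zero] at h0 ⊢
      rw [Ideal.algebraMap_residueField_eq_zero, ← hQsP, Ideal.mem_comap,
        ← Ideal.algebraMap_residueField_eq_zero (I := Qs)]
      exact h0)
    rw [this]
    exact M.zero_mem
  obtain ⟨P, -, hle⟩ := (Ideal.IsPrime.inf_le' (hM.isPrime)).1 hbot
  haveI : P.1.IsPrime := ((Set.Finite.mem_toFinset _).1 P.2).isPrime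
  have hQ := (Set.Finite.mem_toFinset _).1 P.2
  refine ⟨P.1, inferInstance, hQ, ?_⟩
  let ν := nu (hS := hS) D P.1 hQ
  letI : Algebra (integralClosure D (FractionRing D)) (integralClosure S P.1.ResidueField) := ν.toAlgebra
  have hνint : ν.IsIntegral := by
    refine RingHom.IsIntegral.tower_top (algebraMap D _) _ ?_
    rw [show ν.comp (algebraMap D _) = (algebraMap S (integralClosure S P.1.ResidueField)).comp (algebraMap D S) from
      RingHom.ext (nu_algebraMap D P.1 hQ)]
    haveI := isIntegral_over_sub (hS := hS) D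
    exact RingHom.IsIntegral.trans _ _ (fun y => Algebra.IsIntegral.isIntegral y)
      fun y => Algebra.IsIntegral.isIntegral y
  haveI : Algebra.IsIntegral (integralClosure D (FractionRing D)) (integralClosure S P.1.ResidueField) :=
    ⟨hνint⟩
  haveI := isLocalRing_N1 (hS := hS) P.1
  obtain ⟨M', hM', hM'c⟩ := Ideal.exists_ideal_over_maximal_of_isIntegral
    (S := integralClosure S P.1.ResidueField) M hle
  rw [← hM'c, IsLocalRing.eq_maximalIdeal hM']
  rfl

end BranchField

section Residues

variable (D : Subalgebra A S) [IsLocalRing D] [IsLocalHom (algebraMap D S)] (Q : Ideal S) [Q.IsPrime]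
  (hQ : Q ∈ minimalPrimes S)

/-- The field generated by the image of `D`. -/
abbrev k0 (M : Ideal (integralClosure D (FractionRing D))) [M.IsPrime] : Subfield M.ResidueField :=
  Subfield.closure (Set.range (rho D M))

include hS in
theorem exists_res_equiv (M : Ideal (integralClosure D (FractionRing D))) [M.IsMaximal] :
    ∃ e : ResidueField D ≃+* k0 D M, ∀ d, (e (residue D d) : M.ResidueField) = rho D M d := by
  haveI hc : (M.comap (algebraMap D (integralClosure D (FractionRing D)))).IsMaximal :=
    Ideal.isMaximal_comap_of_isIntegral_of_isMaximal M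
  have hker : ∀ d : D, rho D M d = 0 ↔ d ∈ maximalIdeal D := fun d => by
    rw [← IsLocalRing.eq_maximalIdeal hc, Ideal.mem_comap]
    exact Ideal.algebraMap_residueField_eq_zero
  let e : ResidueField D →+* k0 D M :=
    Ideal.Quotient.lift (maximalIdeal D)
      (RingHom.codRestrict (rho D M) (k0 D M) fun d => Subfield.subset_closure ⟨d, rfl⟩)
      fun d hd => Subtype.ext ((hker d).2 hd)
  refine ⟨RingEquiv.ofBijective e ⟨e.injective, fun w => ?_⟩, fun d => rfl⟩
  obtain ⟨a, b, hb, hab⟩ := exists_div_of_mem_closure_range (rho D M) w.2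
  have hbu : IsUnit b := by
    by_contra hbn
    exact hb ((hker b).2 hbn)
  obtain ⟨b, rfl⟩ := hbu
  refine ⟨residue D (a * ↑b⁻¹), Subtype.ext ?_⟩
  show rho D M (a * ↑b⁻¹) = _
  rw [← hab, eq_div_iff hb, ← map_mul, mul_assoc, Units.inv_mul, mul_one]

include hS in
theorem nu'_res_equiv (e : ResidueField D ≃+* k0 D (MQ (hS := hS) D Q hQ))
    (he : ∀ d, (e (residue D d) : (MQ (hS := hS) D Q hQ).ResidueField) = rho D _ d) :
    (nu' (hS := hS) D Q hQ).comp ((k0 D _).subtype.comp e.toRingHom) =
      (uQ (hS := hS) Q).comp (ResidueField.map (algebraMap D S)) := by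
  refine RingHom.ext fun r => ?_
  obtain ⟨d, rfl⟩ := residue_surjective r
  show nu' (hS := hS) D Q hQ (e (residue D d) : _) = uQ (hS := hS) Q (residue S (d : S))
  rw [he, nu'_rho]

include hS in
theorem exists_u_eq_of_isSeparable (x : (MQ (hS := hS) D Q hQ).ResidueField)
    (hx : IsSeparable (k0 D (MQ (hS := hS) D Q hQ)) x) :
    ∃ r : ResidueField S, uQ (hS := hS) Q r = nu' (hS := hS) D Q hQ x := by
  haveI : IsSepClosed (ResidueField S) := hS.isSepClosure.sep_closed
  obtain ⟨e, he⟩ := exists_res_equiv (hS := hS) D (MQ (hS := hS) D Q hQ)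
  have hcomp := nu'_res_equiv D Q hQ e he
  set m0 := minpoly (k0 D (MQ (hS := hS) D Q hQ)) x
  have hm0 : m0.Monic := minpoly.monic hx.isIntegral
  set P0 : (ResidueField S)[X] := (m0.map e.symm.toRingHom).map (ResidueField.map (algebraMap D S))
  have hsplit : P0.Splits := IsSepClosed.splits_codomain _ (Polynomial.Separable.map hx)
  refine RingHom.mem_range.1 (hsplit.mem_range_of_isRoot ((hm0.map _).map _).ne_zero (i := uQ (hS := hS) Q) ?_)
  have h0 : m0.eval₂ (k0 D (MQ (hS := hS) D Q hQ)).subtype x = 0 := minpoly.aeval _ x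
  rw [Polynomial.IsRoot, Polynomial.map_map, Polynomial.map_map, eval_map,
    show ((uQ (hS := hS) Q).comp (ResidueField.map (algebraMap D S))).comp e.symm.toRingHom =
      (nu' (hS := hS) D Q hQ).comp (k0 D _).subtype from RingHom.ext fun w => by
      rw [← hcomp]
      show nu' (hS := hS) D Q hQ ((k0 D _).subtype (e (e.symm w))) = _
      rw [RingEquiv.apply_symm_apply]
      rfl, ← hom_eval₂, h0, map_zero]

include hS in
theorem isSeparable_of_u_eq (x : (MQ (hS := hS) D Q hQ).ResidueField) (r : ResidueField S)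
    (hr : uQ (hS := hS) Q r = nu' (hS := hS) D Q hQ x) :
    IsSeparable (k0 D (MQ (hS := hS) D Q hQ)) x := by
  haveI : Algebra.IsSeparable (ResidueField A) (ResidueField S) := hS.isSepClosure.separable
  obtain ⟨e, he⟩ := exists_res_equiv (hS := hS) D (MQ (hS := hS) D Q hQ)
  have hcomp := nu'_res_equiv D Q hQ e he
  let toK : ResidueField D →+* KD (hS := hS) D :=
    RingHom.codRestrict (ResidueField.map (algebraMap D S)) (KD (hS := hS) D) fun w => by
      obtain ⟨d, rfl⟩ := residue_surjective w
      exact ⟨d, rfl⟩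
  have hbij : Function.Bijective toK := ⟨toK.injective, fun w => by
    obtain ⟨d, hd⟩ := (mem_KD D).1 w.2
    exact ⟨residue D d, Subtype.ext hd⟩⟩
  let eK := RingEquiv.ofBijective toK hbij
  have hsep : IsSeparable (KD (hS := hS) D) r :=
    IsSeparable.tower_top _ (Algebra.IsSeparable.isSeparable (ResidueField A) r)
  set P := minpoly (KD (hS := hS) D) r
  let e2 : KD (hS := hS) D →+* k0 D (MQ (hS := hS) D Q hQ) := e.toRingHom.comp eK.symm.toRingHom
  refine (Polynomial.Separable.map hsep (f := e2)).of_dvd (minpoly.dvd _ x ?_)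
  refine (nu' (hS := hS) D Q hQ).injective ?_
  rw [map_zero, aeval_def, eval₂_map, hom_eval₂,
    show (nu' (hS := hS) D Q hQ).comp ((algebraMap _ _).comp e2) =
      (uQ (hS := hS) Q).comp (KD (hS := hS) D).val.toRingHom from RingHom.ext fun w => by
      obtain ⟨v, rfl⟩ := eK.surjective w
      show nu' (hS := hS) D Q hQ ((k0 D _).subtype (e (eK.symm (eK v)))) = _
      rw [RingEquiv.symm_apply_apply]
      exact RingHom.congr_fun hcomp v, ← hr, ← hom_eval₂]
  show uQ (hS := hS) Q (aeval r P) = 0
  rw [minpoly.aeval, map_zero]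

end Residues

section Noetherian

variable (D : Subalgebra A S) [IsLocalRing D] [IsLocalHom (algebraMap D S)]

include hS in
/-- `D` inside the fixed ring of a finite residue extension is Noetherian. -/
theorem isNoetherianRing_of_le (R : Finset (ResidueField S))
    (hle : D ≤ cfix A S (IntermediateField.adjoin (ResidueField A)
      ((KD (hS := hS) D : Set (ResidueField S)) ∪ ↑R))) : IsNoetherianRing D := by
  classical
  have hlift : ∀ r : ResidueField S, ∃ s : S, residue S s = r := residue_surjective
  choose lift hlift using hlift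
  obtain ⟨E, _, _, _, _, g, _, _, _, hgloc, -, hinj, hmem⟩ := exists_galois_stage A S (R.image lift)
  obtain ⟨M, hMfg, hM⟩ := exists_fg_of_le (hS := hS) g hinj (K := KD (hS := hS) D)
    (K' := IntermediateField.adjoin (ResidueField A) ((KD (hS := hS) D : Set (ResidueField S)) ∪ ↑R))
    fun σ hσ hfix => by
      let Fix : IntermediateField (ResidueField A) (ResidueField S) :=
        IntermediateField.fixedField (Subgroup.zpowers (resAutS A S σ))
      have hFix : ∀ r, resAutS A S σ r = r → r ∈ Fix := fun r hr => by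
        rintro ⟨τ, n, rfl⟩
        show (resAutS A S σ ^ n) r = r
        exact (MulAction.mem_stabilizer_iff.1 (Subgroup.zpow_mem (MulAction.stabilizer _ r)
          (MulAction.mem_stabilizer_iff.2 (show resAutS A S σ • r = r from hr)) n) :)
      have hle : IntermediateField.adjoin (ResidueField A) ((KD (hS := hS) D : Set (ResidueField S)) ∪ ↑R) ≤ Fix := by
        rw [IntermediateField.adjoin_le_iff]
        rintro r (hr | hr)
        · exact hFix r (mem_fixK.1 hσ r hr)
        · refine hFix r ?_
          obtain ⟨e, he⟩ := hmem (lift r) (Finset.mem_image_of_mem _ hr)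
          rw [← hlift r, resAutS_residue, ← show g e = lift r from he, hfix]
      exact mem_fixK.2 fun r hr => hle hr ⟨resAutS A S σ, Subgroup.mem_zpowers _⟩
  haveI := isNoetherianRing_cfix (hS := hS) (KD (hS := hS) D)
  let C := cfix A S (KD (hS := hS) D)
  have hCD : C ≤ D := cfix_KD_le D
  letI : Algebra C D := (Subalgebra.inclusion hCD).toRingHom.toAlgebra
  haveI : IsNoetherian C M := isNoetherian_of_fg_of_noetherian M hMfg
  let φ : D →ₗ[C] M :=
    { toFun := fun d => ⟨(d : S), hM _ (hle d.2)⟩
      map_add' := fun a b => rfl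
      map_smul' := fun c d => rfl }
  haveI : IsNoetherian C D := isNoetherian_of_injective φ fun a b h =>
    Subtype.ext (congrArg Subtype.val h :)
  exact isNoetherianRing_iff.2 (isNoetherian_of_tower C inferInstance)

include hS in
/-- Finite separable closures of the branch residue fields force Noetherianity. -/
theorem isNoetherianRing_of_finiteDimensional
    (h : ∀ (Q : Ideal S) [Q.IsPrime] (hQ : Q ∈ minimalPrimes S),
      FiniteDimensional (k0 D (MQ (hS := hS) D Q hQ))
        (separableClosure (k0 D (MQ (hS := hS) D Q hQ)) (MQ (hS := hS) D Q hQ).ResidueField)) :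
    IsNoetherianRing D := by
  classical
  haveI : IsReduced S := isReduced_strict A S
  haveI : IsReduced D := isReduced_of_injective D.val Subtype.val_injective
  haveI : IsNoetherianRing S := (isNoetherianRing_iff_strict A S).1 inferInstance
  haveI := isIntegral_strict (hS := hS)
  have hfinD : (minimalPrimes D).Finite := by
    refine ((minimalPrimes.finite_of_isNoetherianRing S).image (Ideal.comap (algebraMap D S))).subset
      fun P hP => ?_
    obtain ⟨Qs, hQs, hQsP⟩ := Ideal.exists_minimalPrimes_comap_eq (I := (⊥ : Ideal S))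
      (algebraMap D S) P (by
        rwa [Ideal.comap_bot_of_injective _ (Subtype.val_injective : Function.Injective (algebraMap D S))])
    exact ⟨Qs, hQs, hQsP⟩
  -- one finite set of residues for each branch
  have hR : ∀ Q : Ideal S, ∃ R : Finset (ResidueField S), ∀ (_ : Q.IsPrime) (hQ : Q ∈ minimalPrimes S),
      ∀ r : ResidueField S, (∃ x, uQ (hS := hS) Q r = nu' (hS := hS) D Q hQ x) →
        r ∈ IntermediateField.adjoin (ResidueField A) ((KD (hS := hS) D : Set (ResidueField S)) ∪ ↑R) := by
    intro Q
    by_cases hQ : Q.IsPrime ∧ Q ∈ minimalPrimes S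
    · obtain ⟨_, hQ⟩ := hQ
      haveI := h Q hQ
      obtain ⟨B, hB⟩ := (Module.Finite.fg_top : (⊤ : Submodule (k0 D (MQ (hS := hS) D Q hQ))
        (separableClosure (k0 D (MQ (hS := hS) D Q hQ)) (MQ (hS := hS) D Q hQ).ResidueField)).FG)
      have hb : ∀ b : separableClosure (k0 D (MQ (hS := hS) D Q hQ)) (MQ (hS := hS) D Q hQ).ResidueField,
          ∃ r, uQ (hS := hS) Q r = nu' (hS := hS) D Q hQ b.1 :=
        fun b => exists_u_eq_of_isSeparable D Q hQ b.1 (mem_separableClosure_iff.1 b.2)
      choose rb hrb using hb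
      refine ⟨B.image rb, fun _ _ r ⟨x, hx⟩ => ?_⟩
      have hxsep : x ∈ separableClosure (k0 D (MQ (hS := hS) D Q hQ)) (MQ (hS := hS) D Q hQ).ResidueField :=
        mem_separableClosure_iff.2 (isSeparable_of_u_eq D Q hQ x r hx)
      set K' := IntermediateField.adjoin (ResidueField A)
        ((KD (hS := hS) D : Set (ResidueField S)) ∪ ↑(B.image rb))
      have key : ∀ w ∈ Submodule.span (k0 D (MQ (hS := hS) D Q hQ))
          (↑B : Set (separableClosure (k0 D (MQ (hS := hS) D Q hQ)) (MQ (hS := hS) D Q hQ).ResidueField)),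
          ∃ r' ∈ K', uQ (hS := hS) Q r' = nu' (hS := hS) D Q hQ (w : separableClosure _ _).1 := by
        intro w hw
        induction hw using Submodule.span_induction with
        | mem b hb' =>
          exact ⟨rb b, IntermediateField.subset_adjoin _ _
            (Or.inr (Finset.mem_coe.2 (Finset.mem_image_of_mem _ hb'))), hrb b⟩
        | zero => exact ⟨0, zero_mem _, by simp⟩
        | add a b _ _ ha hb' =>
          obtain ⟨ra, hra, hra'⟩ := ha
          obtain ⟨rb', hrb', hrb''⟩ := hb'
          refine ⟨ra + rb', add_mem hra hrb', ?_⟩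
          show uQ (hS := hS) Q (ra + rb') = nu' (hS := hS) D Q hQ (a.1 + b.1)
          rw [map_add, map_add, hra', hrb'']
        | smul c a _ ha =>
          obtain ⟨ra, hra, hra'⟩ := ha
          obtain ⟨p, q', hq', hpq⟩ := exists_div_of_mem_closure_range (rho D (MQ (hS := hS) D Q hQ)) c.2
          refine ⟨residue S (p : S) / residue S (q' : S) * ra, mul_mem (IntermediateField.div_mem _ ?_ ?_) hra, ?_⟩
          · exact IntermediateField.subset_adjoin _ _ (Or.inl ⟨p, rfl⟩)
          · exact IntermediateField.subset_adjoin _ _ (Or.inl ⟨q', rfl⟩)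
          show _ = nu' (hS := hS) D Q hQ ((c : (MQ (hS := hS) D Q hQ).ResidueField) * a.1)
          rw [map_mul, map_mul, map_div₀, ← hpq, map_div₀, nu'_rho, nu'_rho, hra']
      obtain ⟨r', hr', hr''⟩ := key ⟨x, hxsep⟩ (hB ▸ Submodule.mem_top)
      have : r = r' := (uQ (hS := hS) Q).injective (hx.trans hr''.symm)
      rw [this]
      exact hr'
    · exact ⟨∅, fun h1 h2 => absurd ⟨h1, h2⟩ hQ⟩
  choose R hR using hR
  set ms := (minimalPrimes.finite_of_isNoetherianRing S).toFinset
  refine isNoetherianRing_of_le D (ms.biUnion R) fun d hd σ hσ => ?_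
  refine sub_eq_zero.1 (eq_zero_of_forall_mem_minimalPrimes fun Q hQ => ?_)
  haveI := hQ.isPrime
  obtain ⟨gs, hgs⟩ := IsNoetherian.noetherian Q
  obtain ⟨E, _, _, _, _, g, _, _, _, hgloc, hflat, hinj, hmem⟩ := exists_galois_stage A S (insert d gs)
  haveI := finite_aut A E
  haveI : Algebra.IsIntegral A E := Algebra.IsIntegral.of_finite A E
  haveI : FiniteDimensional (ResidueField A) (ResidueField E) :=
    Module.Finite.of_restrictScalars_finite A _ _
  obtain ⟨ed, hed⟩ := hmem d (Finset.mem_insert_self _ _)
  replace hed : g ed = d := hed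
  have hQq : (Q.comap g.toRingHom).map g.toRingHom = Q := by
    refine le_antisymm Ideal.map_comap_le (hgs.ge.trans (Submodule.span_le.2 fun y hy => ?_))
    obtain ⟨e, rfl⟩ := hmem y (Finset.mem_insert_of_mem hy)
    exact Ideal.mem_map_of_mem g.toRingHom (show g e ∈ Q from hgs ▸ Submodule.subset_span hy)
  set q := Q.comap g.toRingHom
  haveI : q.IsPrime := Ideal.IsPrime.comap _
  let DE : Subalgebra A E := D.comap g
  let H : Subgroup (E ≃ₐ[A] E) :=
    { carrier := {τ | τ • q = q ∧ ∀ e ∈ DE, τ e - e ∈ q}
      one_mem' := ⟨one_smul _ _, fun e _ => by simp⟩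
      mul_mem' := by
        rintro a b ⟨ha, ha'⟩ ⟨hb, hb'⟩
        refine ⟨by rw [mul_smul, hb, ha], fun e he => ?_⟩
        have h1 : a (b e - e) ∈ q := by
          have := Ideal.smul_mem_pointwise_smul a _ q (hb' e he)
          rwa [ha] at this
        rw [show (a * b) e - e = a (b e - e) + (a e - e) by
          rw [map_sub]; show a (b e) - _ = _; ring]
        exact Ideal.add_mem _ h1 (ha' e he)
      inv_mem' := by
        rintro a ⟨ha, ha'⟩
        have hinv : a⁻¹ • q = q := inv_smul_eq_iff.2 ha.symm
        refine ⟨hinv, fun e he => ?_⟩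
        have h1 := Ideal.smul_mem_pointwise_smul a⁻¹ _ q (ha' e he)
        rw [hinv, AlgEquiv.smul_def, map_sub] at h1
        rw [← neg_mem_iff, neg_sub]
        simpa [AlgEquiv.aut_inv] using h1 }
  letI : Fintype H := Fintype.ofFinite _
  obtain ⟨c, hc⟩ := exists_sum_eq_one A E H
  set K' := IntermediateField.adjoin (ResidueField A)
    ((KD (hS := hS) D : Set (ResidueField S)) ∪ ↑(ms.biUnion R))
  have hfield : IntermediateField.fixedField (H.map (residueAutHom A E)) ≤ K'.comap (gbar g) := by
    intro r hr
    obtain ⟨y₀, rfl⟩ := residue_surjective r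
    set y := ∑ h : H, (h : E ≃ₐ[A] E) (c * y₀) with hy
    have hres : residue E y = residue E y₀ := by
      have hc' : (1 : ResidueField E) = ∑ h : H, residue E ((h : E ≃ₐ[A] E) c) := by
        rw [← map_sum, hc, map_one]
      rw [hy, map_sum, Finset.sum_congr rfl fun (h : H) _ => show residue E ((h : E ≃ₐ[A] E) (c * y₀)) =
          residue E ((h : E ≃ₐ[A] E) c) * residue E y₀ by
        rw [map_mul, map_mul, ← residueAutHom_residue (h : E ≃ₐ[A] E) y₀,
          show residueAutHom A E h (residue E y₀) = residue E y₀ from hr ⟨residueAutHom A E h, h, h.2, rfl⟩],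
        ← Finset.sum_mul, ← hc', one_mul]
    have hmem' := mem_closure_of_fixed q (DE : Set E) y fun τ hτ hd' => by
      rw [sum_mem_fixedSub H (c * y₀) τ ⟨hτ, fun e he => hd' e he⟩, sub_self]
      exact q.zero_mem
    obtain ⟨a, b, hb, hab⟩ := exists_div_of_mem_closure_range
      ((algebraMap E q.ResidueField).comp DE.val.toRingHom) (Subfield.closure_le.2 (by
        rintro x (⟨a, rfl⟩ | ⟨e, he, rfl⟩)
        · exact Subfield.subset_closure ⟨algebraMap A DE a, (IsScalarTower.algebraMap_apply A E _ a).symm⟩
        · exact Subfield.subset_closure ⟨⟨e, he⟩, rfl⟩) hmem')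
    let bD : D := ⟨g b.1, b.2⟩
    let aD : D := ⟨g a.1, a.2⟩
    have hyab : y * b.1 - a.1 ∈ q := by
      rw [← Ideal.algebraMap_residueField_eq_zero (I := q), map_sub, map_mul, ← hab]
      exact sub_eq_zero.2 (div_mul_cancel₀ _ hb)
    have hb' : fQ D Q bD ≠ 0 := fun h0 => hb
      (Ideal.algebraMap_residueField_eq_zero.2 (show b.1 ∈ q from (Ideal.algebraMap_residueField_eq_zero (I := Q) (x := g b.1)).1 h0))
    have habS : fQ D Q aD / fQ D Q bD = algebraMap S Q.ResidueField (g y) := by
      rw [div_eq_iff hb', ← sub_eq_zero]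
      show algebraMap S Q.ResidueField (g a.1) - algebraMap S Q.ResidueField (g y) *
        algebraMap S Q.ResidueField (g b.1) = 0
      rw [← map_mul, ← map_mul, ← map_sub, ← map_sub, Ideal.algebraMap_residueField_eq_zero]
      have : g (y * b.1 - a.1) ∈ Q := hyab
      rw [← neg_mem_iff, ← map_neg, neg_sub]
      exact this
    obtain ⟨p, hp, hpy⟩ := Algebra.IsIntegral.isIntegral (R := A) y
    obtain ⟨z, hz, hzθ⟩ := exists_isIntegral_theta_eq (fQ D Q) hfinD (ker_fQ (hS := hS) D Q hQ) hb'
      (p := p.map (algebraMap A D)) (hp.map _) (a := aD) (by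
        rw [habS, eval₂_map, show (fQ D Q).comp (algebraMap A D) =
          ((algebraMap S Q.ResidueField).comp g.toRingHom).comp (algebraMap A E) from
          RingHom.ext fun a => congrArg (algebraMap S Q.ResidueField) (g.commutes a).symm]
        show eval₂ _ (((algebraMap S Q.ResidueField).comp g.toRingHom) y) p = 0
        rw [← hom_eval₂, hpy, map_zero])
    show gbar g (residue E y₀) ∈ K'
    rw [← hres, gbar_residue]
    refine IntermediateField.adjoin.mono _ _ _ (Set.union_subset_union_right _
      (Finset.coe_subset.2 (Finset.subset_biUnion_of_mem R ((Set.Finite.mem_toFinset _).2 hQ))))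
      (hR Q inferInstance hQ _ ⟨algebraMap (integralClosure D (FractionRing D)) (MQ (hS := hS) D Q hQ).ResidueField ⟨z, hz⟩, ?_⟩)
    rw [nu', Ideal.ResidueField.map_algebraMap]
    show algebraMap (integralClosure S Q.ResidueField) (M1 (hS := hS) Q).ResidueField (algebraMap S (integralClosure S Q.ResidueField) (g y)) = _
    congr 1
    exact Subtype.ext (show algebraMap S Q.ResidueField (g y) = theta (fQ D Q) _ z by rw [hzθ, habS])
  have hle := IntermediateField.fixingSubgroup_antitone hfield
  rw [IntermediateField.fixingSubgroup_fixedField] at hle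
  have hσ' : residueAutHom A E (restr (hS := hS) g hinj σ) ∈ (K'.comap (gbar g)).fixingSubgroup := by
    rw [IntermediateField.mem_fixingSubgroup_iff]
    intro r hr
    obtain ⟨y, rfl⟩ := residue_surjective r
    refine (gbar g).toRingHom.injective ?_
    show gbar g (residueAutHom A E _ (residue E y)) = gbar g (residue E y)
    rw [residueAutHom_residue, gbar_residue, restr_apply, ← resAutS_residue, ← gbar_residue g y]
    exact mem_fixK.1 hσ _ hr
  obtain ⟨τ, hτ, hτσ⟩ := hle hσ'
  rw [residueAut_injective A E hτσ] at hτ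
  have := hτ.2 ed (show g ed ∈ D from hed.symm ▸ hd)
  have h2 : g (restr (hS := hS) g hinj σ ed - ed) ∈ Q := this
  rwa [map_sub, restr_apply, hed] at h2

include hS in
/-- Noetherianity forces finite separable closures of the branch residue fields. -/
theorem finiteDimensional_of_isNoetherianRing [IsNoetherianRing D] (Q : Ideal S) [Q.IsPrime]
    (hQ : Q ∈ minimalPrimes S) :
    FiniteDimensional (k0 D (MQ (hS := hS) D Q hQ))
      (separableClosure (k0 D (MQ (hS := hS) D Q hQ)) (MQ (hS := hS) D Q hQ).ResidueField) := by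
  classical
  haveI := hS.henselian
  haveI : IsNoetherianRing S := (isNoetherianRing_iff_strict A S).1 inferInstance
  haveI : Algebra.IsSeparable (ResidueField A) (ResidueField S) := hS.isSepClosure.separable
  obtain ⟨T, hT⟩ : (maximalIdeal D).FG := IsNoetherian.noetherian _
  obtain ⟨gQ, hgQ⟩ := IsNoetherian.noetherian Q
  obtain ⟨E, _, _, _, _, g, _, _, _, hgloc, -, hinj, hmem⟩ := exists_galois_stage A S
    (T.image (fun d : D => (d : S)) ∪ gQ)
  haveI : FiniteDimensional (ResidueField A) (ResidueField E) :=
    Module.Finite.of_restrictScalars_finite A _ _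
  let b := Module.Free.chooseBasis (ResidueField A) (ResidueField E)
  let R : Finset (ResidueField S) := Finset.univ.image fun i => gbar g (b i)
  set K'' := IntermediateField.adjoin (ResidueField A) ((KD (hS := hS) D : Set (ResidueField S)) ∪ ↑R)
  have hgfix : ∀ σ ∈ fixK A S K'', ∀ e : E, σ (g e) = g e := by
    intro σ hσ e
    refine DFunLike.congr_fun (algHom_eq_of_residue_eq (σ.toAlgHom.comp g) g fun x => ?_) e
    show residue S (σ (g x)) = residue S (g x)
    rw [← resAutS_residue, ← gbar_residue g x]
    refine mem_fixK.1 hσ _ ?_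
    rw [← b.sum_repr (residue E x), map_sum]
    refine sum_mem fun i _ => ?_
    rw [map_smul, Algebra.smul_def]
    exact mul_mem (IntermediateField.algebraMap_mem _ _)
      (IntermediateField.subset_adjoin _ _ (Or.inr (Finset.mem_coe.2 (Finset.mem_image_of_mem _ (Finset.mem_univ i)))))
  let W : Subalgebra A D := (cfix A S K'').comap D.val
  have hTW : ∀ t ∈ T, t ∈ W := fun t ht σ hσ => by
    obtain ⟨e, he⟩ := hmem (t : S) (Finset.mem_union_left _ (Finset.mem_image_of_mem (fun d : D => (d : S)) ht))
    show σ (t : S) = t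
    rw [← show g e = (t : S) from he]
    exact hgfix σ hσ e
  have hres : ∀ x : D, ∃ w ∈ W, x - w ∈ maximalIdeal D := by
    intro x
    obtain ⟨E', _, _, _, _, g', _, _, _, hg'loc, -, hinj', hmem'⟩ := exists_galois_stage A S {(x : S)}
    haveI := finite_aut A E'
    let H : Subgroup (E' ≃ₐ[A] E') := (fixK A S (KD (hS := hS) D)).map (restr (hS := hS) g' hinj')
    letI : Fintype H := Fintype.ofFinite _
    obtain ⟨c, hc⟩ := exists_sum_eq_one A E' H
    obtain ⟨e, he⟩ := hmem' (x : S) (Finset.mem_singleton_self _)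
    replace he : g' e = (x : S) := he
    set w := g' (∑ h : H, (h : E' ≃ₐ[A] E') (c * e)) with hw
    have hwC : w ∈ cfix A S (KD (hS := hS) D) := fun σ hσ => by
      show σ (g' _) = g' _
      rw [← restr_apply (hS := hS) g' hinj', sum_mem_fixedSub H _ _ ⟨σ, hσ, rfl⟩]
    refine ⟨⟨w, cfix_KD_le D hwC⟩, fun σ hσ => hwC σ
      (mem_fixK.2 fun r hr => mem_fixK.1 hσ r (IntermediateField.subset_adjoin _ _ (Or.inl hr))), ?_⟩
    have hwr : residue S w = residue S (x : S) := by
      have h1 : (1 : ResidueField S) = ∑ h : H, residue S (g' ((h : E' ≃ₐ[A] E') c)) := by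
        rw [← map_sum, ← map_sum, hc, map_one, map_one]
      rw [hw, map_sum, map_sum, Finset.sum_congr rfl fun (h : H) _ => show
        residue S (g' ((h : E' ≃ₐ[A] E') (c * e))) =
          residue S (g' ((h : E' ≃ₐ[A] E') c)) * residue S (x : S) by
        obtain ⟨σ, hσ, hσh⟩ := h.2
        rw [map_mul, map_mul, map_mul, ← hσh, restr_apply (hS := hS) g' hinj' σ e, he,
          ← resAutS_residue σ (x : S), mem_fixK.1 hσ _ ⟨x, rfl⟩],
        ← Finset.sum_mul, ← h1, one_mul]
    intro hu
    refine (residue_ne_zero_iff_isUnit _).2 (hu.map (algebraMap D S)) ?_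
    show residue S ((x : S) - w) = 0
    rw [map_sub, hwr, sub_self]
  have hpow : ∀ n, ∀ z ∈ maximalIdeal D ^ n, ∃ w ∈ W, z - w ∈ maximalIdeal D ^ (n + 1) := by
    intro n
    induction n with
    | zero =>
      intro z _
      obtain ⟨w, hw, h⟩ := hres z
      exact ⟨w, hw, by rwa [zero_add, pow_one]⟩
    | succ n ih =>
      have key : ∀ b ∈ Ideal.span (T : Set D), ∀ a ∈ maximalIdeal D ^ n,
          ∃ w ∈ W, a * b - w ∈ maximalIdeal D ^ (n + 2) := by
        intro b hb
        induction hb using Submodule.span_induction with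
        | mem t ht =>
          intro a ha
          obtain ⟨w, hw, h⟩ := ih a ha
          refine ⟨w * t, mul_mem hw (hTW t ht), ?_⟩
          rw [← sub_mul, pow_succ]
          exact Ideal.mul_mem_mul h (hT ▸ Submodule.subset_span ht)
        | zero => exact fun a _ => ⟨0, zero_mem _, by simp⟩
        | add b b' _ _ h h' =>
          intro a ha
          obtain ⟨w, hw, hz⟩ := h a ha
          obtain ⟨w', hw', hz'⟩ := h' a ha
          refine ⟨w + w', add_mem hw hw', ?_⟩
          rw [show a * (b + b') - (w + w') = (a * b - w) + (a * b' - w') by ring]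
          exact add_mem hz hz'
        | smul c b _ h =>
          intro a ha
          obtain ⟨w, hw, hz⟩ := h (a * c) (Ideal.mul_mem_right _ _ ha)
          exact ⟨w, hw, by rwa [smul_eq_mul, ← mul_assoc]⟩
      intro z hz
      rw [pow_succ] at hz
      refine Submodule.mul_induction_on hz (fun a ha b hb => key b (show b ∈ Ideal.span _ from hT.ge hb) a ha) ?_
      rintro z z' ⟨w, hw, h⟩ ⟨w', hw', h'⟩
      refine ⟨w + w', add_mem hw hw', ?_⟩
      rw [show z + z' - (w + w') = (z - w) + (z' - w') by ring]
      exact add_mem h h'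
  have happrox : ∀ n, ∀ x : D, ∃ w ∈ W, x - w ∈ maximalIdeal D ^ n := by
    intro n
    induction n with
    | zero => exact fun x => ⟨0, zero_mem _, by simp⟩
    | succ n ih =>
      intro x
      obtain ⟨w, hw, h⟩ := ih x
      obtain ⟨w', hw', h'⟩ := hpow n _ h
      exact ⟨w + w', add_mem hw hw', by rwa [← sub_sub]⟩
  have hDfix : ∀ σ ∈ fixK A S K'', ∀ d : D, σ (d : S) = d := by
    intro σ hσ d
    rw [← sub_eq_zero, ← Ideal.mem_bot, ← Ideal.iInf_pow_eq_bot_of_isLocalRing (maximalIdeal S) Ideal.IsPrime.ne_top',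
      Ideal.mem_iInf]
    intro n
    obtain ⟨w, hw, h⟩ := happrox n d
    have h1 : ((d : S) - w) ∈ maximalIdeal S ^ n := by
      have := Ideal.mem_map_of_mem (algebraMap D S) h
      rw [Ideal.map_pow] at this
      exact Ideal.pow_right_mono (((IsLocalRing.local_hom_TFAE (algebraMap D S)).out 0 2 rfl rfl).mp inferInstance) n this
    have hσM : (maximalIdeal S).map σ.toRingEquiv.toRingHom = maximalIdeal S :=
      IsLocalRing.eq_maximalIdeal (Ideal.map_isMaximal_of_equiv σ.toRingEquiv)
    have h2 : σ ((d : S) - w) ∈ maximalIdeal S ^ n := by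
      rw [← hσM, ← Ideal.map_pow]
      exact Ideal.mem_map_of_mem σ.toRingEquiv.toRingHom h1
    have h3 : σ (w : S) = (w : S) := hw σ hσ
    rw [map_sub, h3] at h2
    convert sub_mem h2 h1 using 1
    ring
  have hQfix : ∀ σ ∈ fixK A S K'', Q.map σ.toRingEquiv.toRingHom = Q := by
    intro σ hσ
    rw [← hgQ, Ideal.map_span]
    congr 1
    refine (Set.image_congr fun y hy => ?_).trans (Set.image_id _)
    obtain ⟨e, rfl⟩ := hmem y (Finset.mem_union_right _ hy)
    exact hgfix σ hσ e
  have hrK : ∀ x : (MQ (hS := hS) D Q hQ).ResidueField, ∀ r, uQ (hS := hS) Q r = nu' (hS := hS) D Q hQ x →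
      r ∈ K'' := by
    intro x r hr
    refine mem_of_fixed (hS := hS) fun σ hσ => (uQ (hS := hS) Q).injective ?_
    have hσQ : Q = Q.comap σ.toRingEquiv.toRingHom := by
      conv_rhs => rw [← hQfix σ hσ]
      exact (Ideal.comap_map_of_bijective _ σ.bijective).symm
    let σq : Q.ResidueField →+* Q.ResidueField := Ideal.ResidueField.map Q Q σ.toRingEquiv.toRingHom hσQ
    have hσqS : ∀ s : S, σq (algebraMap S Q.ResidueField s) = algebraMap S Q.ResidueField (σ s) :=
      fun s => Ideal.ResidueField.map_algebraMap _ _ _ hσQ s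
    have hσθ : σq.comp (theta (fQ D Q) (ker_fQ (hS := hS) D Q hQ)) = theta (fQ D Q) (ker_fQ (hS := hS) D Q hQ) :=
      IsLocalization.ringHom_ext D⁰ (RingHom.ext fun d => by
        show σq (theta (fQ D Q) (ker_fQ (hS := hS) D Q hQ) (algebraMap D _ d)) =
          theta (fQ D Q) (ker_fQ (hS := hS) D Q hQ) (algebraMap D _ d)
        rw [theta_algebraMap]
        show σq (algebraMap S Q.ResidueField (d : S)) = _
        rw [hσqS, hDfix σ hσ]
        rfl)
    have hσint : ∀ w : integralClosure S Q.ResidueField, IsIntegral S (σq w.1) := fun w => by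
      obtain ⟨p, hp, hpw⟩ := w.2
      refine ⟨p.map σ.toRingEquiv.toRingHom, hp.map _, ?_⟩
      rw [eval₂_map, show (algebraMap S Q.ResidueField).comp σ.toRingEquiv.toRingHom =
        σq.comp (algebraMap S Q.ResidueField) from RingHom.ext fun s => (hσqS s).symm,
        ← hom_eval₂, hpw, map_zero]
    let σ1 : integralClosure S Q.ResidueField →+* integralClosure S Q.ResidueField :=
      RingHom.codRestrict (σq.comp (integralClosure S Q.ResidueField).val.toRingHom) _ hσint
    have hσ1S : ∀ s, σ1 (algebraMap S (integralClosure S Q.ResidueField) s) = algebraMap S (integralClosure S Q.ResidueField) (σ s) := fun s => Subtype.ext (hσqS s)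
    haveI := isLocalRing_N1 (hS := hS) Q
    have hσ1M : M1 (hS := hS) Q = (M1 (hS := hS) Q).comap σ1 := by
      haveI : ((M1 (hS := hS) Q).comap σ1).IsPrime := Ideal.IsPrime.comap _
      refine (IsLocalRing.eq_maximalIdeal
        (Ideal.isMaximal_of_isIntegral_of_isMaximal_comap (R := S) ((M1 (hS := hS) Q).comap σ1) ?_)).symm
      have : ((M1 (hS := hS) Q).comap σ1).comap (algebraMap S (integralClosure S Q.ResidueField)) = maximalIdeal S := Ideal.ext fun s => by
        show σ1 (algebraMap S (integralClosure S Q.ResidueField) s) ∈ M1 (hS := hS) Q ↔ _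
        rw [hσ1S]
        show σ s ∈ (M1 (hS := hS) Q).comap (algebraMap S (integralClosure S Q.ResidueField)) ↔ _
        rw [comap_M1, mem_maximalIdeal, mem_maximalIdeal, mem_nonunits_iff, mem_nonunits_iff, MulEquiv.isUnit_map]
      rw [this]
      infer_instance
    let σb := Ideal.ResidueField.map (M1 (hS := hS) Q) (M1 (hS := hS) Q) σ1 hσ1M
    have hσbu : ∀ w : ResidueField S, σb (uQ (hS := hS) Q w) = uQ (hS := hS) Q (resAutS A S σ w) := by
      intro w
      obtain ⟨s, rfl⟩ := residue_surjective w
      show σb (algebraMap (integralClosure S Q.ResidueField) (M1 (hS := hS) Q).ResidueField (algebraMap S (integralClosure S Q.ResidueField) s)) =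
        algebraMap (integralClosure S Q.ResidueField) (M1 (hS := hS) Q).ResidueField (algebraMap S (integralClosure S Q.ResidueField) (σ s))
      rw [Ideal.ResidueField.map_algebraMap, hσ1S]
    rw [← hσbu, hr]
    obtain ⟨z, rfl⟩ := Ideal.algebraMap_residueField_surjective (MQ (hS := hS) D Q hQ) x
    rw [nu', Ideal.ResidueField.map_algebraMap, Ideal.ResidueField.map_algebraMap]
    congr 1
    exact Subtype.ext (RingHom.congr_fun hσθ z.1)
  -- linear algebra
  let K3 : IntermediateField (KD (hS := hS) D) (ResidueField S) := IntermediateField.adjoin _ (R : Set (ResidueField S))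
  haveI : FiniteDimensional (KD (hS := hS) D) K3 :=
    IntermediateField.finiteDimensional_adjoin fun r _ =>
      (Algebra.IsIntegral.isIntegral (R := ResidueField A) r).tower_top
  have hK3 : K'' ≤ K3.restrictScalars (ResidueField A) := by
    rw [IntermediateField.adjoin_le_iff]
    rintro r (hr | hr)
    · exact K3.algebraMap_mem ⟨r, hr⟩
    · exact IntermediateField.subset_adjoin _ _ hr
  let b3 := Module.finBasis (KD (hS := hS) D) K3
  letI : Algebra (k0 D (MQ (hS := hS) D Q hQ)) (M1 (hS := hS) Q).ResidueField :=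
    ((nu' (hS := hS) D Q hQ).comp (k0 D (MQ (hS := hS) D Q hQ)).subtype).toAlgebra
  let V : Submodule (k0 D (MQ (hS := hS) D Q hQ)) (M1 (hS := hS) Q).ResidueField :=
    Submodule.span _ (Set.range fun i => uQ (hS := hS) Q (b3 i : ResidueField S))
  haveI : FiniteDimensional (k0 D (MQ (hS := hS) D Q hQ)) V :=
    FiniteDimensional.span_of_finite _ (Set.finite_range _)
  have hV : ∀ w : separableClosure (k0 D (MQ (hS := hS) D Q hQ)) (MQ (hS := hS) D Q hQ).ResidueField,
      nu' (hS := hS) D Q hQ w.1 ∈ V := by
    intro w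
    obtain ⟨r, hr⟩ := exists_u_eq_of_isSeparable D Q hQ w.1 (mem_separableClosure_iff.1 w.2)
    have hr3 : r ∈ K3 := hK3 (hrK w.1 r hr)
    have hsum := congrArg Subtype.val (b3.sum_repr ⟨r, hr3⟩)
    rw [← hr, ← show _ = r from hsum, AddSubmonoidClass.coe_finsetSum, map_sum]
    refine Submodule.sum_mem _ fun i _ => ?_
    obtain ⟨d, hd⟩ := (mem_KD D).1 (b3.repr ⟨r, hr3⟩ i).2
    have : uQ (hS := hS) Q ((b3.repr ⟨r, hr3⟩ i • b3 i : K3) : ResidueField S) =
        (⟨rho D _ d, Subfield.subset_closure ⟨d, rfl⟩⟩ : k0 D (MQ (hS := hS) D Q hQ)) •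
          uQ (hS := hS) Q (b3 i : ResidueField S) := by
      rw [Algebra.smul_def (A := (M1 (hS := hS) Q).ResidueField), show algebraMap (k0 D (MQ (hS := hS) D Q hQ)) (M1 (hS := hS) Q).ResidueField
        ⟨rho D _ d, Subfield.subset_closure ⟨d, rfl⟩⟩ = nu' (hS := hS) D Q hQ (rho D _ d) from rfl,
        nu'_rho, hd, ← map_mul]
      rfl
    rw [this]
    exact Submodule.smul_mem _ _ (Submodule.subset_span ⟨i, rfl⟩)
  let φ : separableClosure (k0 D (MQ (hS := hS) D Q hQ)) (MQ (hS := hS) D Q hQ).ResidueField
      →ₗ[k0 D (MQ (hS := hS) D Q hQ)] V :=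
    { toFun := fun w => ⟨nu' (hS := hS) D Q hQ w.1, hV w⟩
      map_add' := fun w w' => Subtype.ext (map_add _ w.1 w'.1)
      map_smul' := fun c w => Subtype.ext (map_mul (nu' (hS := hS) D Q hQ) (c : (MQ (hS := hS) D Q hQ).ResidueField) w.1) }
  exact FiniteDimensional.of_injective φ fun w w' h =>
    Subtype.ext ((nu' (hS := hS) D Q hQ).injective (congrArg Subtype.val h :))

end Noetherian

end

end Groth.L05.StrictGalois
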