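import Groth.Prelude.Def_EssEt
import Mathlib.RingTheory.Etale.QuasiFinite
import Mathlib.RingTheory.Ideal.MinimalPrime.Localization
import Mathlib.RingTheory.Artinian.Ring
import Mathlib.RingTheory.Localization.FractionRing
import Mathlib.RingTheory.Localization.BaseChange
import Mathlib.RingTheory.Unramified.LocalRing
import Mathlib.RingTheory.Flat.Localization
import Mathlib.RingTheory.Spectrum.Prime.Basic
import Mathlib.RingTheory.EssentialFiniteness
import Mathlib.RingTheory.Smooth.Flat
import Mathlib.RingTheory.Unramified.LocalStructure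
import Mathlib.RingTheory.LocalProperties.Reduced
import Mathlib.RingTheory.Localization.Integral
import Mathlib.RingTheory.Localization.Submodule

/-!
# Total rings of fractions of essentially étale algebras
-/

set_option autoImplicit false

open scoped TensorProduct nonZeroDivisors
open IsLocalRing

namespace Groth.L05.StrictGalois

universe u

section props

variable {A E : Type u} [CommRing A] [IsLocalRing A] [CommRing E] [Algebra A E]

theorem formallyEtale_of_essEt (hE : EGA4loc.IsEssentiallyEtale A E) : Algebra.FormallyEtale A E := by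
  obtain ⟨C, _, _, q, _, hCet, -, ⟨e⟩⟩ := hE
  haveI : Algebra.FormallyEtale C (Localization.AtPrime q) :=
    Algebra.FormallyEtale.of_isLocalization q.primeCompl
  haveI : Algebra.FormallyEtale A (Localization.AtPrime q) := Algebra.FormallyEtale.comp A C _
  exact Algebra.FormallyEtale.of_equiv e.symm

theorem essFiniteType_of_essEt (hE : EGA4loc.IsEssentiallyEtale A E) : Algebra.EssFiniteType A E := by
  obtain ⟨C, _, _, q, _, hCet, -, ⟨e⟩⟩ := hE
  haveI : Algebra.EssFiniteType C (Localization.AtPrime q) :=
    Algebra.EssFiniteType.of_isLocalization _ q.primeCompl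
  haveI : Algebra.EssFiniteType A (Localization.AtPrime q) := Algebra.EssFiniteType.comp A C _
  exact Algebra.EssFiniteType.of_surjective e.symm.toAlgHom e.symm.surjective

theorem flat_of_essEt (hE : EGA4loc.IsEssentiallyEtale A E) : Module.Flat A E := by
  obtain ⟨C, _, _, q, _, hCet, -, ⟨e⟩⟩ := hE
  haveI : Module.Flat C (Localization.AtPrime q) := IsLocalization.flat _ q.primeCompl
  haveI : Module.Flat A (Localization.AtPrime q) := Module.Flat.trans A C _
  exact Module.Flat.of_linearEquiv e.toLinearEquiv

theorem isNoetherianRing_of_essEt [IsNoetherianRing A] (hE : EGA4loc.IsEssentiallyEtale A E) :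
    IsNoetherianRing E :=
  haveI := essFiniteType_of_essEt hE
  Algebra.EssFiniteType.isNoetherianRing A E

end props

/-- The total ring of fractions of a reduced ring with finitely many minimal primes is Artinian. -/
theorem isArtinianRing_fractionRing_of_finite (A : Type u) [CommRing A] [IsReduced A]
    (hmin : (minimalPrimes A).Finite) : IsArtinianRing (FractionRing A) := by
  classical
  have hinj := IsFractionRing.injective A (FractionRing A)
  have hcomap : ∀ P : Ideal (FractionRing A), P.IsPrime →
      P.comap (algebraMap A (FractionRing A)) ∈ minimalPrimes A := by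
    intro P hP
    have hdisj : Disjoint (A⁰ : Set A) (P.comap (algebraMap A (FractionRing A))) :=
      ((IsLocalization.isPrime_iff_isPrime_disjoint A⁰ (FractionRing A) P).1 inferInstance).2
    have hsub : ((P.comap (algebraMap A (FractionRing A))) : Set A) ⊆ ⋃ q ∈ minimalPrimes A, (q : Set A) := by
      intro x hx
      by_contra hx'
      refine Set.disjoint_left.1 hdisj (mem_nonZeroDivisors_iff_right.2 fun y hy => ?_) hx
      have hy0 : y ∈ (⊥ : Ideal A).radical := by
        rw [← Ideal.sInf_minimalPrimes, Submodule.mem_sInf]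
        exact fun q hq => (hq.1.1.mem_or_mem (hy.symm ▸ q.zero_mem : y * x ∈ q)).resolve_right
          fun h => hx' (Set.mem_biUnion hq h)
      rw [show (⊥ : Ideal A).radical = nilradical A from rfl, nilradical_eq_zero A] at hy0
      exact hy0
    obtain ⟨q, hq, hle⟩ := (Ideal.subset_union_prime_finite hmin (f := fun q : Ideal A => q) ⊥ ⊥
      (fun q hq _ _ => hq.1.1)).1 hsub
    rwa [le_antisymm hle (hq.2 ⟨inferInstance, bot_le⟩ hle)]
  have hcinj : ∀ P Q : Ideal (FractionRing A), P.comap (algebraMap A (FractionRing A)) =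
      Q.comap (algebraMap A (FractionRing A)) → P = Q := fun P Q h => by
    rw [← IsLocalization.map_comap A⁰ (FractionRing A) P, ← IsLocalization.map_comap A⁰ (FractionRing A) Q]
    exact congrArg (Ideal.map _) h
  have hmax : ∀ P : Ideal (FractionRing A), P.IsPrime → P.IsMaximal := by
    intro P hP
    obtain ⟨M, hM, hle⟩ := Ideal.exists_le_maximal P hP.ne_top
    have h1 := (hcomap M hM.isPrime).2 ⟨Ideal.IsPrime.comap _, bot_le⟩ (Ideal.comap_mono hle)
    exact hcinj P M (le_antisymm (Ideal.comap_mono hle) h1) ▸ hM
  haveI : Finite {P : Ideal (FractionRing A) // P.IsPrime} := by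
    haveI := hmin.to_subtype
    exact Finite.of_injective (fun P => (⟨_, hcomap P.1 P.2⟩ : minimalPrimes A))
      fun P Q h => Subtype.ext (hcinj _ _ (Subtype.ext_iff.1 h))
  haveI : IsReduced (FractionRing A) := inferInstance
  let φ : FractionRing A →ₗ[FractionRing A]
      (∀ P : {P : Ideal (FractionRing A) // P.IsPrime}, FractionRing A ⧸ P.1) :=
    LinearMap.pi fun P => P.1.mkQ
  have hφ : Function.Injective φ := by
    refine (injective_iff_map_eq_zero φ).2 fun x hx => ?_
    have : x ∈ nilradical (FractionRing A) := by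
      rw [nilradical_eq_sInf, Submodule.mem_sInf]
      exact fun P hP => Ideal.Quotient.eq_zero_iff_mem.1 (congrFun hx ⟨P, hP⟩)
    rw [nilradical_eq_zero] at this
    exact this
  haveI : ∀ P : {P : Ideal (FractionRing A) // P.IsPrime},
      IsArtinian (FractionRing A) (FractionRing A ⧸ P.1) := fun P =>
    haveI := hmax P.1 P.2
    haveI : IsSimpleModule (FractionRing A) (FractionRing A ⧸ P.1) :=
      isSimpleModule_iff_isCoatom.2 (Ideal.isMaximal_def.1 (hmax P.1 P.2))
    inferInstance
  exact isArtinian_of_injective φ hφ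

noncomputable section

variable (A E : Type u) [CommRing A] [CommRing E] [Algebra A E]

/-- `(nonZeroDivisors A)⁻¹ E`. -/
abbrev TotE : Type u := Localization (Algebra.algebraMapSubmonoid E A⁰)

theorem algebraMapSubmonoid_le [Module.Flat A E] :
    Algebra.algebraMapSubmonoid E A⁰ ≤ E⁰ := by
  rintro _ ⟨a, ha, rfl⟩
  refine mem_nonZeroDivisors_iff_right.2 fun x hx => ?_
  have hinj : Function.Injective (LinearMap.lsmul A A a) := fun x y h =>
    (mul_cancel_left_mem_nonZeroDivisors ha).1 h
  have := Module.Flat.rTensor_preserves_injective_linearMap (M := E) _ hinj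
  refine (TensorProduct.lid A E).symm.injective ?_
  refine this ?_
  rw [map_zero, map_zero, TensorProduct.lid_symm_apply, LinearMap.rTensor_tmul,
    LinearMap.lsmul_apply, TensorProduct.smul_tmul, Algebra.smul_def, mul_comm, hx, TensorProduct.tmul_zero]

theorem injective_totE [Module.Flat A E] : Function.Injective (algebraMap E (TotE A E)) :=
  IsLocalization.injective _ (algebraMapSubmonoid_le A E)

/-- The action of the total ring of fractions of `A` on `TotE A E`. -/
@[implicit_reducible]
def totAlgebra : Algebra (FractionRing A) (TotE A E) :=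
  localizationAlgebra A⁰ E

theorem totTower : letI := totAlgebra A E; IsScalarTower A (FractionRing A) (TotE A E) := by
  letI := totAlgebra A E
  refine .of_algebraMap_eq fun a => ?_
  rw [IsScalarTower.algebraMap_apply A E (TotE A E)]
  exact (IsLocalization.map_eq (Q := TotE A E) (show A⁰ ≤ Submonoid.comap (algebraMap A E)
    (Algebra.algebraMapSubmonoid E A⁰) from Submonoid.le_comap_map _) a).symm

variable {A E}

theorem totE_smul (a : A) (x : E) :
    algebraMap E (TotE A E) (a • x) = a • algebraMap E (TotE A E) x :=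
  map_smul (IsScalarTower.toAlgHom A E (TotE A E)) a x

theorem finite_totE [IsLocalRing A] [IsReduced A] (hmin : (minimalPrimes A).Finite)
    (hE : EGA4loc.IsEssentiallyEtale A E) :
    letI := totAlgebra A E
    Module.Finite (FractionRing A) (TotE A E) := by
  letI := totAlgebra A E
  haveI := totTower A E
  haveI := isArtinianRing_fractionRing_of_finite A hmin
  obtain ⟨C, _, _, q, _, hCet, -, ⟨e⟩⟩ := hE
  let f : C →ₐ[A] TotE A E :=
    (IsScalarTower.toAlgHom A E (TotE A E)).comp (e.symm.toAlgHom.comp (IsScalarTower.toAlgHom A C _))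
  let ψ : FractionRing A ⊗[A] C →ₐ[FractionRing A] TotE A E :=
    Algebra.TensorProduct.lift (Algebra.ofId _ _) f fun _ _ => Commute.all _ _
  haveI : Module.Finite (FractionRing A) (FractionRing A ⊗[A] C) := Module.Finite.of_quasiFinite
  haveI : Module.Finite (FractionRing A) ψ.range :=
    Module.Finite.of_surjective ψ.rangeRestrict.toLinearMap ψ.rangeRestrict_surjective
  haveI : IsArtinianRing ψ.range := IsArtinianRing.of_finite (FractionRing A) ψ.range
  have hf : ∀ c, f c ∈ ψ.range := fun c => ⟨1 ⊗ₜ c, by simp [ψ]⟩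
  have hsurj : Function.Surjective ψ := by
    intro z
    obtain ⟨x, ⟨_, a, ha, rfl⟩, rfl⟩ :=
      IsLocalization.exists_mk'_eq (Algebra.algebraMapSubmonoid E A⁰) z
    obtain ⟨c, s, hx⟩ := IsLocalization.exists_mk'_eq q.primeCompl (e x)
    have hs : IsUnit (f s) := ((IsLocalization.map_units (Localization.AtPrime q) s).map e.symm).map
      (IsScalarTower.toAlgHom A E (TotE A E))
    have hsR : IsUnit (⟨f s, hf _⟩ : ψ.range) := by
      refine IsArtinianRing.isUnit_of_mem_nonZeroDivisors (mem_nonZeroDivisors_iff_right.2 fun y hy => ?_)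
      exact Subtype.ext (hs.mul_left_eq_zero.1 (congrArg Subtype.val hy : (y : TotE A E) * f s = 0))
    obtain ⟨t, ht⟩ := hsR.exists_right_inv
    have ht' : f s * (t : TotE A E) = 1 := congrArg Subtype.val ht
    have hxs : algebraMap E (TotE A E) x * f s = f c := by
      show algebraMap E (TotE A E) x * algebraMap E _ (e.symm (algebraMap C _ (s : C))) =
        algebraMap E _ (e.symm (algebraMap C _ c))
      rw [← map_mul]
      refine congrArg _ (e.injective ?_)
      rw [map_mul, e.apply_symm_apply, e.apply_symm_apply, ← hx, IsLocalization.mk'_spec]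
    obtain ⟨u, hu⟩ := IsUnit.exists_right_inv
      (IsLocalization.map_units (M := A⁰) (FractionRing A) ⟨a, ha⟩)
    refine (AlgHom.mem_range ψ).1 ?_
    have hxR : algebraMap E (TotE A E) x ∈ ψ.range := by
      rw [← mul_one (algebraMap E (TotE A E) x), ← ht', ← mul_assoc, hxs]
      exact mul_mem (hf _) t.2
    have : IsLocalization.mk' (TotE A E) x
        (⟨_, Algebra.mem_algebraMapSubmonoid_of_mem ⟨a, ha⟩⟩ : Algebra.algebraMapSubmonoid E A⁰) =
        algebraMap E (TotE A E) x * algebraMap (FractionRing A) (TotE A E) u := by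
      rw [IsLocalization.mk'_eq_iff_eq_mul, ← IsScalarTower.algebraMap_apply A E (TotE A E),
        IsScalarTower.algebraMap_apply A (FractionRing A) (TotE A E), mul_assoc, ← map_mul,
        mul_comm u, hu, map_one, mul_one]
    rw [this]
    exact mul_mem hxR (Subalgebra.algebraMap_mem _ u)
  exact Module.Finite.of_surjective ψ.toLinearMap hsurj

/-- `E` is, up to nonzerodivisors of `A`, a finite `A`-module. -/
theorem exists_finset_smul_mem_span [IsLocalRing A] [IsReduced A] (hmin : (minimalPrimes A).Finite)
    (hE : EGA4loc.IsEssentiallyEtale A E) :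
    ∃ t : Finset E, ∀ x : E, ∃ a ∈ A⁰, a • x ∈ Submodule.span A (t : Set E) := by
  classical
  letI := totAlgebra A E
  haveI := totTower A E
  haveI := flat_of_essEt hE
  haveI hfin := finite_totE hmin hE
  obtain ⟨G, hG⟩ := hfin.fg_top
  have hnum : ∀ z : TotE A E, ∃ c : E, ∃ k : FractionRing A, z = k • algebraMap E (TotE A E) c := by
    intro z
    obtain ⟨c, ⟨_, a, ha, rfl⟩, rfl⟩ := IsLocalization.exists_mk'_eq (Algebra.algebraMapSubmonoid E A⁰) z
    obtain ⟨u, hu⟩ := IsUnit.exists_right_inv
      (IsLocalization.map_units (M := A⁰) (FractionRing A) ⟨a, ha⟩)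
    refine ⟨c, u, ?_⟩
    rw [IsLocalization.mk'_eq_iff_eq_mul, ← IsScalarTower.algebraMap_apply A E (TotE A E),
      IsScalarTower.algebraMap_apply A (FractionRing A) (TotE A E), Algebra.smul_def,
      mul_right_comm, ← map_mul, mul_comm u, hu, map_one, one_mul]
  choose num k hk using hnum
  refine ⟨G.image num, fun x => ?_⟩
  have hall : ∀ z : TotE A E, ∃ a ∈ A⁰,
      a • z ∈ (Submodule.span A ((G.image num : Finset E) : Set E)).map
        (IsScalarTower.toAlgHom A E (TotE A E)).toLinearMap := by
    intro z
    have hz : z ∈ Submodule.span (FractionRing A) (G : Set (TotE A E)) := by rw [hG]; trivial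
    induction hz using Submodule.span_induction with
    | mem z hz =>
      obtain ⟨b, s, hbs⟩ := IsLocalization.exists_mk'_eq A⁰ (k z)
      refine ⟨s, s.2, b • num z, Submodule.smul_mem _ _ (Submodule.subset_span
        (Finset.mem_image_of_mem num hz)), ?_⟩
      conv_rhs => rw [hk z]
      show algebraMap E (TotE A E) (b • num z) = _
      rw [← smul_assoc, ← hbs, Algebra.smul_def (s : A), mul_comm, IsLocalization.mk'_spec,
        IsScalarTower.algebraMap_smul, totE_smul]
    | zero => exact ⟨1, one_mem _, by simp⟩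
    | add z w _ _ hz hw =>
      obtain ⟨a, ha, hz⟩ := hz
      obtain ⟨b, hb, hw⟩ := hw
      refine ⟨a * b, mul_mem ha hb, ?_⟩
      rw [smul_add, mul_comm a b, mul_smul, mul_comm b a, mul_smul]
      exact add_mem (Submodule.smul_mem _ _ hz) (Submodule.smul_mem _ _ hw)
    | smul l z _ hz =>
      obtain ⟨a, ha, hz⟩ := hz
      obtain ⟨b, s, rfl⟩ := IsLocalization.exists_mk'_eq A⁰ l
      refine ⟨a * s, mul_mem ha s.2, ?_⟩
      rw [mul_smul, ← smul_assoc (s : A), Algebra.smul_def (s : A), mul_comm,
        IsLocalization.mk'_spec, IsScalarTower.algebraMap_smul, smul_comm]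
      exact Submodule.smul_mem _ _ hz
  obtain ⟨a, ha, y, hy, hy'⟩ := hall (algebraMap E _ x)
  refine ⟨a, ha, ?_⟩
  have hy2 : algebraMap E (TotE A E) y = a • algebraMap E (TotE A E) x := hy'
  have hax : a • x = y := injective_totE A E ((totE_smul a x).trans hy2.symm)
  rwa [hax]

/-- A subalgebra of `E` is, up to nonzerodivisors of `A`, a finite `A`-module. -/
theorem exists_finset_sub_smul_mem_span [IsLocalRing A] [IsReduced A] (hmin : (minimalPrimes A).Finite)
    (hE : EGA4loc.IsEssentiallyEtale A E) (D : Subalgebra A E) :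
    ∃ t : Finset D, ∀ x : D, ∃ a ∈ A⁰, a • x ∈ Submodule.span A (t : Set D) := by
  classical
  letI := totAlgebra A E
  haveI := totTower A E
  haveI := flat_of_essEt hE
  haveI := finite_totE hmin hE
  haveI := isArtinianRing_fractionRing_of_finite A hmin
  let j : D →ₗ[A] TotE A E :=
    ((IsScalarTower.toAlgHom A E (TotE A E)).comp D.val).toLinearMap
  have hj : Function.Injective j := fun x y h => Subtype.ext (injective_totE A E h)
  obtain ⟨G, hG, hspan⟩ := Submodule.fg_span_iff_fg_span_finset_subset (Set.range j) |>.1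
    (IsNoetherian.noetherian (Submodule.span (FractionRing A) (Set.range j)))
  refine ⟨G.preimage j hj.injOn, fun x => ?_⟩
  have hx : j x ∈ Submodule.span (FractionRing A) (G : Set (TotE A E)) :=
    hspan ▸ Submodule.subset_span ⟨x, rfl⟩
  obtain ⟨a, ha⟩ := multiple_mem_span_of_mem_localization_span A⁰ (FractionRing A) (G : Set (TotE A E))
    (j x) hx
  refine ⟨a, a.2, ?_⟩
  have himg : j '' (G.preimage j hj.injOn : Set D) = (G : Set (TotE A E)) := by
    rw [Finset.coe_preimage, Set.image_preimage_eq_of_subset hG]
  rw [← himg, ← Submodule.map_span] at ha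
  obtain ⟨y, hy, hya⟩ := ha
  have : y = (a : A) • x := hj (hya.trans (by rw [Submonoid.smul_def, map_smul]))
  rwa [← this]

/-- In a subalgebra of an essentially étale algebra, nonzerodivisors divide nonzerodivisors of `A`. -/
theorem exists_mul_eq_algebraMap [IsLocalRing A] [IsReduced A] (hmin : (minimalPrimes A).Finite)
    (hE : EGA4loc.IsEssentiallyEtale A E) (D : Subalgebra A E) {d : D} (hd : d ∈ D⁰) :
    ∃ y : D, ∃ a ∈ A⁰, d * y = algebraMap A D a := by
  letI := totAlgebra A E
  haveI := totTower A E
  haveI := flat_of_essEt hE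
  haveI := finite_totE hmin hE
  haveI := isArtinianRing_fractionRing_of_finite A hmin
  let T := TotE A E
  let d' : T := algebraMap E T (d : E)
  let N : Subalgebra (FractionRing A) T := Algebra.adjoin (FractionRing A) {d'}
  have hclear : ∀ z ∈ N, ∃ a ∈ A⁰, ∃ w : D, a • z = algebraMap E T (w : E) := by
    intro z hz
    induction hz using Algebra.adjoin_induction with
    | mem z hz => exact ⟨1, one_mem _, d, by rw [one_smul, hz]⟩
    | algebraMap l =>
      obtain ⟨b, s, rfl⟩ := IsLocalization.exists_mk'_eq A⁰ l
      refine ⟨s, s.2, algebraMap A D b, ?_⟩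
      rw [Algebra.smul_def, IsScalarTower.algebraMap_apply A (FractionRing A) T, ← map_mul,
        mul_comm, IsLocalization.mk'_spec, ← IsScalarTower.algebraMap_apply A (FractionRing A) T]
      exact IsScalarTower.algebraMap_apply A E T b
    | add z w _ _ hz hw =>
      obtain ⟨a, ha, u, hu⟩ := hz
      obtain ⟨b, hb, v, hv⟩ := hw
      refine ⟨a * b, mul_mem ha hb, b • u + a • v, ?_⟩
      rw [smul_add, mul_comm a b, mul_smul, hu, mul_comm b a, mul_smul, hv, Subalgebra.coe_add, map_add,
        Subalgebra.coe_smul, Subalgebra.coe_smul, totE_smul, totE_smul]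
    | mul z w _ _ hz hw =>
      obtain ⟨a, ha, u, hu⟩ := hz
      obtain ⟨b, hb, v, hv⟩ := hw
      refine ⟨a * b, mul_mem ha hb, u * v, ?_⟩
      rw [← smul_mul_smul_comm, hu, hv, Subalgebra.coe_mul, map_mul]
  haveI : IsArtinian (FractionRing A) N :=
    isArtinian_of_injective N.val.toLinearMap Subtype.val_injective
  let μ : N →ₗ[FractionRing A] N :=
    LinearMap.mulLeft (FractionRing A) ⟨d', Algebra.subset_adjoin rfl⟩
  have hμ : Function.Injective μ := by
    refine (injective_iff_map_eq_zero μ).2 fun z hz => Subtype.ext ?_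
    have hz' : d' * (z : T) = 0 := congrArg Subtype.val hz
    obtain ⟨a, ha, w, hw⟩ := hclear z z.2
    have : w = 0 := by
      refine (mem_nonZeroDivisors_iff_right.1 hd) w (Subtype.ext (injective_totE A E ?_))
      rw [Subalgebra.coe_mul, map_mul, ← hw, Subalgebra.coe_zero, map_zero, smul_mul_assoc, mul_comm,
        show algebraMap E T (d : E) = d' from rfl, hz', smul_zero]
    rw [this, Subalgebra.coe_zero, map_zero, Algebra.smul_def,
      IsScalarTower.algebraMap_apply A (FractionRing A) T] at hw
    exact (((IsLocalization.map_units (M := A⁰) (FractionRing A) ⟨a, ha⟩).map _).mul_right_eq_zero).1 hw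
  obtain ⟨z, hz⟩ := IsArtinian.surjective_of_injective_endomorphism μ hμ 1
  obtain ⟨a, ha, w, hw⟩ := hclear z z.2
  refine ⟨w, a, ha, Subtype.ext (injective_totE A E ?_)⟩
  rw [Subalgebra.coe_mul, map_mul, ← hw, mul_smul_comm, show algebraMap E T (d : E) * (z : T) = 1 from
    congrArg Subtype.val hz, ← Algebra.algebraMap_eq_smul_one]
  exact IsScalarTower.algebraMap_apply A E T a

/-- Nonzerodivisors of a subalgebra of an essentially étale algebra are nonzerodivisors. -/
theorem coe_mem_nonZeroDivisors [IsLocalRing A] [IsReduced A] (hmin : (minimalPrimes A).Finite)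
    (hE : EGA4loc.IsEssentiallyEtale A E) (D : Subalgebra A E) {d : D} (hd : d ∈ D⁰) :
    (d : E) ∈ E⁰ := by
  haveI := flat_of_essEt hE
  obtain ⟨y, a, ha, h⟩ := exists_mul_eq_algebraMap hmin hE D hd
  have h' : (d : E) * y = algebraMap A E a := congrArg Subtype.val h
  exact (mul_mem_nonZeroDivisors.1 (h' ▸ algebraMapSubmonoid_le A E ⟨a, ha, rfl⟩)).1

end

end Groth.L05.StrictGalois
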