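import Groth.Agent.L05.StrictGalois.Trace
import Groth.Agent.L05.StrictGalois.Inter
import Mathlib.FieldTheory.Galois.Infinite
import Mathlib.FieldTheory.Normal.Basic
import Mathlib.RingTheory.Finiteness.Ideal

/-!
# Automorphisms of a strict henselization of a henselian local ring and their fixed rings
-/

set_option autoImplicit false

open IsLocalRing

namespace Groth.L05.StrictGalois

universe u

open Groth.L05.Henselization

noncomputable section

variable {A S : Type u} [CommRing A] [HenselianLocalRing A]
  [CommRing S] [IsLocalRing S] [Algebra A S] [IsLocalHom (algebraMap A S)]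
  [hS : Hensel.IsStrictHenselization A S]

include hS in
theorem autS_ext {σ σ' : S →ₐ[A] S} (h : ∀ x, residue S (σ x) = residue S (σ' x))
    (τ : ResidueField S →+* ResidueField S)
    (hτ : τ.comp (ResidueField.map (algebraMap A S)) = ResidueField.map (algebraMap A S))
    (hσ : ∀ x, residue S (σ x) = τ (residue S x)) : σ = σ' := by
  haveI := hS.henselian
  have huniq := hS.universal S (algebraMap A S) τ hτ
  exact AlgHom.coe_ringHom_injective (huniq.unique ⟨σ.comp_algebraMap, hσ⟩
    ⟨σ'.comp_algebraMap, fun x => (h x).symm.trans (hσ x)⟩)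

variable (A S) in
/-- The residual action of an automorphism of `S`. -/
def resAutS : (S ≃ₐ[A] S) →* (ResidueField S ≃ₐ[ResidueField A] ResidueField S) where
  toFun σ := AlgEquiv.ofRingEquiv (f := ResidueField.mapEquiv σ.toRingEquiv) fun a => by
    obtain ⟨a, rfl⟩ := residue_surjective a
    show residue S (σ (algebraMap A S a)) = _
    rw [σ.commutes]
    rfl
  map_one' := AlgEquiv.ext fun x => by
    obtain ⟨x, rfl⟩ := residue_surjective x
    rfl
  map_mul' σ τ := AlgEquiv.ext fun x => by
    obtain ⟨x, rfl⟩ := residue_surjective x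
    rfl

theorem resAutS_residue (σ : S ≃ₐ[A] S) (x : S) :
    resAutS A S σ (residue S x) = residue S (σ x) := rfl

include hS in
theorem exists_autS (f : ResidueField S ≃ₐ[ResidueField A] ResidueField S) :
    ∃ σ : S ≃ₐ[A] S, resAutS A S σ = f := by
  haveI := hS.henselian
  have hτ : ∀ f : ResidueField S ≃ₐ[ResidueField A] ResidueField S,
      f.toAlgHom.toRingHom.comp (ResidueField.map (algebraMap A S)) = ResidueField.map (algebraMap A S) :=
    fun f => RingHom.ext fun a => f.commutes a
  have hex : ∀ f : ResidueField S ≃ₐ[ResidueField A] ResidueField S,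
      ∃ g : S →ₐ[A] S, ∀ x, residue S (g x) = f (residue S x) := by
    intro f
    obtain ⟨g, ⟨hg, hgr⟩, -⟩ := hS.universal S (algebraMap A S) f.toAlgHom.toRingHom (hτ f)
    exact ⟨{ g with commutes' := fun a => DFunLike.congr_fun hg a }, hgr⟩
  obtain ⟨g, hg⟩ := hex f
  obtain ⟨g', hg'⟩ := hex f.symm
  have h1 : g.comp g' = AlgHom.id A S := autS_ext (fun x => by
    show residue S (g (g' x)) = residue S x
    rw [hg, hg', AlgEquiv.apply_symm_apply]) (RingHom.id _) (RingHom.id_comp _) fun x => by
    show residue S (g (g' x)) = residue S x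
    rw [hg, hg', AlgEquiv.apply_symm_apply]
  have h2 : g'.comp g = AlgHom.id A S := autS_ext (fun x => by
    show residue S (g' (g x)) = residue S x
    rw [hg', hg, AlgEquiv.symm_apply_apply]) (RingHom.id _) (RingHom.id_comp _) fun x => by
    show residue S (g' (g x)) = residue S x
    rw [hg', hg, AlgEquiv.symm_apply_apply]
  refine ⟨AlgEquiv.ofAlgHom g g' h1 h2, AlgEquiv.ext fun x => ?_⟩
  obtain ⟨x, rfl⟩ := residue_surjective x
  exact hg x

variable (A S) in
/-- The automorphisms of `S` fixing `K` on the residue field. -/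
def fixK (K : IntermediateField (ResidueField A) (ResidueField S)) : Subgroup (S ≃ₐ[A] S) :=
  K.fixingSubgroup.comap (resAutS A S)

theorem mem_fixK {K : IntermediateField (ResidueField A) (ResidueField S)} {σ : S ≃ₐ[A] S} :
    σ ∈ fixK A S K ↔ ∀ r ∈ K, resAutS A S σ r = r := by
  rw [fixK, Subgroup.mem_comap, IntermediateField.mem_fixingSubgroup_iff]

variable (A S) in
/-- The fixed ring. -/
def cfix (K : IntermediateField (ResidueField A) (ResidueField S)) : Subalgebra A S where
  carrier := {x | ∀ σ ∈ fixK A S K, σ x = x}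
  mul_mem' hx hy σ hσ := by rw [map_mul, hx σ hσ, hy σ hσ]
  add_mem' hx hy σ hσ := by rw [map_add, hx σ hσ, hy σ hσ]
  algebraMap_mem' a σ _ := σ.commutes a

theorem mem_cfix {K : IntermediateField (ResidueField A) (ResidueField S)} {x : S} :
    x ∈ cfix A S K ↔ ∀ σ ∈ fixK A S K, σ x = x := Iff.rfl

include hS in
theorem mem_of_fixed {K : IntermediateField (ResidueField A) (ResidueField S)} {r : ResidueField S}
    (h : ∀ σ ∈ fixK A S K, resAutS A S σ r = r) : r ∈ K := by
  haveI : IsSepClosure (ResidueField A) (ResidueField S) := hS.isSepClosure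
  haveI : IsGalois (ResidueField A) (ResidueField S) := IsSepClosure.isGalois
  rw [← InfiniteGalois.fixedField_fixingSubgroup K]
  intro f
  obtain ⟨σ, hσ⟩ := exists_autS (hS := hS) f.1
  show f.1 r = r
  rw [← hσ]
  exact h σ (by rw [fixK, Subgroup.mem_comap, hσ]; exact f.2)

include hS in
theorem residue_mem_of_mem_cfix {K : IntermediateField (ResidueField A) (ResidueField S)} {x : S}
    (h : x ∈ cfix A S K) : residue S x ∈ K :=
  mem_of_fixed fun σ hσ => by rw [resAutS_residue, h σ hσ]

section Stage

variable {E : Type u} [CommRing E] [IsLocalRing E] [Algebra A E] [IsLocalHom (algebraMap A E)]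
  [Module.Finite A E] [Algebra.Etale A E] [IsGalois (ResidueField A) (ResidueField E)]
  (g : E →ₐ[A] S) [IsLocalHom g.toRingHom]

/-- The residue map of a stage. -/
def gbar : ResidueField E →ₐ[ResidueField A] ResidueField S :=
  { ResidueField.map g.toRingHom with
    commutes' := fun a => by
      obtain ⟨a, rfl⟩ := residue_surjective a
      show residue S (g (algebraMap A E a)) = _
      rw [g.commutes]
      rfl }

theorem gbar_residue (e : E) : gbar g (residue E e) = residue S (g e) := rfl

include hS in
theorem exists_restr (σ : S ≃ₐ[A] S) : ∃ τ : E ≃ₐ[A] E, ∀ e, σ (g e) = g (τ e) := by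
  haveI := hS.henselian
  letI : Algebra (ResidueField E) (ResidueField S) := (gbar g).toRingHom.toAlgebra
  haveI : IsScalarTower (ResidueField A) (ResidueField E) (ResidueField S) :=
    .of_algebraMap_eq fun a => ((gbar g).commutes a).symm
  obtain ⟨τ, hτ⟩ := exists_lift_aut A E ((resAutS A S σ).restrictNormal (ResidueField E))
  refine ⟨τ, fun e => DFunLike.congr_fun (algHom_eq_of_residue_eq (σ.toAlgHom.comp g) (g.comp τ.toAlgHom)
    fun x => ?_) e⟩
  show residue S (σ (g x)) = residue S (g (τ x))
  rw [← gbar_residue g (τ x), hτ, ← resAutS_residue, ← gbar_residue g x]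
  exact ((resAutS A S σ).restrictNormal_commutes (ResidueField E) (residue E x)).symm

/-- Restriction of automorphisms of `S` to a stage. -/
def restr (hinj : Function.Injective g) : (S ≃ₐ[A] S) →* (E ≃ₐ[A] E) :=
  MonoidHom.mk' (fun σ => (exists_restr (hS := hS) g σ).choose) fun σ σ' => AlgEquiv.ext fun e => hinj (by
    rw [AlgEquiv.mul_apply, ← (exists_restr (hS := hS) g (σ * σ')).choose_spec,
      ← (exists_restr (hS := hS) g σ).choose_spec, ← (exists_restr (hS := hS) g σ').choose_spec]
    rfl)

theorem restr_apply (hinj : Function.Injective g) (σ : S ≃ₐ[A] S) (e : E) :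
    g (restr (hS := hS) g hinj σ e) = σ (g e) :=
  ((exists_restr (hS := hS) g σ).choose_spec e).symm

end Stage

include hS in
/-- Ideals of the fixed ring are contracted from `S`. -/
theorem comap_map_cfix [IsNoetherianRing A] (K : IntermediateField (ResidueField A) (ResidueField S))
    (I : Ideal (cfix A S K)) : (I.map (algebraMap (cfix A S K) S)).comap (algebraMap (cfix A S K) S) = I := by
  classical
  refine le_antisymm (fun x hx => ?_) Ideal.le_comap_map
  obtain ⟨n, a, c, hc⟩ := Submodule.mem_span_set'.1 (Ideal.mem_comap.1 hx)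
  choose ci hci hci' using fun i => (c i).2
  obtain ⟨E, _, _, _, _, g, _, _, _, hgloc, -, hinj, hmem⟩ := exists_galois_stage A S
    (insert (x : S) (Finset.univ.image a ∪ Finset.univ.image fun i => ((ci i : S))))
  haveI := finite_aut A E
  obtain ⟨ex, hex⟩ := hmem (x : S) (Finset.mem_insert_self _ _)
  have ha : ∀ i, ∃ e, g e = a i := fun i => hmem (a i) (Finset.mem_insert_of_mem
    (Finset.mem_union_left _ (Finset.mem_image_of_mem _ (Finset.mem_univ i))))
  have hc0 : ∀ i, ∃ e, g e = (ci i : S) := fun i => hmem (ci i : S) (Finset.mem_insert_of_mem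
    (Finset.mem_union_right _ (Finset.mem_image_of_mem (fun i => ((ci i : S))) (Finset.mem_univ i))))
  choose ea hea using ha
  choose ec hec using hc0
  let H : Subgroup (E ≃ₐ[A] E) := (fixK A S K).map (restr (hS := hS) g hinj)
  letI : Fintype H := Fintype.ofFinite _
  have hfixed : ∀ (w : cfix A S K) (e : E), g e = w → e ∈ fixedSub A E H := by
    rintro w e he _ ⟨σ, hσ, rfl⟩
    exact hinj (by rw [restr_apply, he, w.2 σ hσ])
  obtain ⟨cc, hcc⟩ := exists_sum_eq_one A E H
  have hT : ∀ e : E, g (∑ h : H, (h : E ≃ₐ[A] E) e) ∈ cfix A S K := fun e σ hσ => by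
    rw [← restr_apply (hS := hS) g hinj,
      sum_mem_fixedSub H e _ ⟨σ, hσ, rfl⟩]
  have hxsum : ex = ∑ i, ec i * ∑ h : H, (h : E ≃ₐ[A] E) (cc * ea i) := by
    have h0 : ex = ∑ i, ec i * ea i := hinj (by
      rw [map_sum, show g ex = (x : S) from hex, ← show _ = (x : S) from hc]
      refine Finset.sum_congr rfl fun i _ => ?_
      rw [map_mul, hea, hec, smul_eq_mul, ← hci' i, mul_comm]
      rfl)
    conv_lhs => rw [← eq_sum_mul H hcc (hfixed x ex hex), h0]
    simp only [Finset.mul_sum, map_sum, map_mul]
    rw [Finset.sum_comm]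
    refine Finset.sum_congr rfl fun i _ => Finset.sum_congr rfl fun h _ => ?_
    rw [hfixed (ci i) (ec i) (hec i) _ h.2]
    ring
  have : x = ∑ i, ci i * ⟨_, hT (cc * ea i)⟩ := Subtype.ext (by
    rw [← hex]
    push_cast
    show g ex = _
    rw [hxsum, map_sum]
    exact Finset.sum_congr rfl fun i _ => by rw [map_mul, hec])
  rw [this]
  exact Ideal.sum_mem _ fun i _ => Ideal.mul_mem_right _ _ (hci i)

include hS in
theorem isNoetherianRing_cfix [IsNoetherianRing A]
    (K : IntermediateField (ResidueField A) (ResidueField S)) : IsNoetherianRing (cfix A S K) := by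
  haveI : IsNoetherianRing S := (isNoetherianRing_iff_strict A S).1 inferInstance
  rw [isNoetherianRing_iff, isNoetherian_iff']
  refine StrictMono.wellFoundedGT (f := fun I : Ideal (cfix A S K) => I.map (algebraMap (cfix A S K) S))
    (Monotone.strictMono_of_injective (fun I J h => Ideal.map_mono h) fun I J h => ?_)
  rw [← comap_map_cfix K I, ← comap_map_cfix K J]
  exact congrArg _ h

include hS in
/-- A fixed ring of a finite residue extension is contained in a finite module. -/
theorem exists_fg_of_le [IsNoetherianRing A] {E : Type u} [CommRing E] [IsLocalRing E] [Algebra A E]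
    [IsLocalHom (algebraMap A E)] [Module.Finite A E] [Algebra.Etale A E]
    [IsGalois (ResidueField A) (ResidueField E)] (g : E →ₐ[A] S) [IsLocalHom g.toRingHom]
    (hinj : Function.Injective g) {K K' : IntermediateField (ResidueField A) (ResidueField S)}
    (hK : ∀ σ ∈ fixK A S K, (∀ e : E, σ (g e) = g e) → σ ∈ fixK A S K') :
    ∃ M : Submodule (cfix A S K) S, M.FG ∧ ∀ x ∈ cfix A S K', x ∈ M := by
  classical
  haveI := finite_aut A E
  obtain ⟨s, hs⟩ := exists_delta (A := A) (E := E)
  refine ⟨Submodule.span (cfix A S K) ↑(s.image fun i => g i.1), Submodule.fg_span (Finset.finite_toSet _),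
    fun x hx => ?_⟩
  let H : Subgroup (E ≃ₐ[A] E) := (fixK A S K).map (restr (hS := hS) g hinj)
  letI : Fintype H := Fintype.ofFinite _
  have hrep : ∀ h : H, ∃ σ ∈ fixK A S K, restr (hS := hS) g hinj σ = h := fun h => h.2
  choose rep hrep hrep' using hrep
  have hind : ∀ {σ σ' : S ≃ₐ[A] S}, σ ∈ fixK A S K → σ' ∈ fixK A S K →
      restr (hS := hS) g hinj σ = restr (hS := hS) g hinj σ' → σ x = σ' x := by
    intro σ σ' hσ hσ' heq
    have hmem : σ'⁻¹ * σ ∈ fixK A S K := Subgroup.mul_mem _ (Subgroup.inv_mem _ hσ') hσ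
    have hfix := hK _ hmem fun e => by
      rw [← restr_apply (hS := hS) g hinj (σ'⁻¹ * σ) e, map_mul, map_inv, heq, inv_mul_cancel]
      rfl
    have h1 : σ'⁻¹ (σ x) = x := hx _ hfix
    calc σ x = σ' (σ'⁻¹ (σ x)) := (σ'.apply_symm_apply _).symm
      _ = σ' x := by rw [h1]
  let y : E × E → S := fun i => ∑ h : H, rep h (g i.2 * x)
  have hy : ∀ i, y i ∈ cfix A S K := by
    intro i σ hσ
    show σ (∑ h : H, rep h (g i.2 * x)) = _
    rw [map_sum]
    refine Fintype.sum_equiv (Equiv.mulLeft (⟨_, σ, hσ, rfl⟩ : H)) _ _ fun h => ?_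
    have heq : restr (hS := hS) g hinj (σ * rep h) =
        restr (hS := hS) g hinj (rep ((Equiv.mulLeft (⟨_, σ, hσ, rfl⟩ : H)) h)) := by
      rw [map_mul, hrep', hrep']
      rfl
    show (σ * rep h) (g i.2 * x) = _
    rw [map_mul, map_mul, hind (Subgroup.mul_mem _ hσ (hrep h)) (hrep _) heq, ← restr_apply (hS := hS) g hinj,
      ← restr_apply (hS := hS) g hinj, heq]
  have hxsum : x = ∑ i ∈ s, y i * g i.1 := by
    have hdelta : ∀ h : H, ∑ i ∈ s, g i.1 * rep h (g i.2) = if h = 1 then 1 else 0 := by
      intro h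
      have : ∑ i ∈ s, g i.1 * rep h (g i.2) = g (∑ i ∈ s, i.1 * (h : E ≃ₐ[A] E) i.2) := by
        rw [map_sum]
        exact Finset.sum_congr rfl fun i _ => by
          rw [map_mul, ← restr_apply (hS := hS) g hinj, hrep']
      rw [this]
      split_ifs with h1
      · rw [h1, Subgroup.coe_one, (hs 1).1 rfl, map_one]
      · rw [(hs _).2 fun hc => h1 (Subtype.ext hc), map_zero]
    have h1 : rep 1 x = x := hind (σ' := 1) (hrep 1) (Subgroup.one_mem _) (by rw [hrep', map_one]; rfl)
    calc x = ∑ h : H, (if h = 1 then 1 else 0) * rep h x := by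
          rw [Finset.sum_eq_single (1 : H)]
          · rw [if_pos rfl, one_mul, h1]
          · intro b _ hb
            rw [if_neg hb, zero_mul]
          · exact fun hh => absurd (Finset.mem_univ _) hh
      _ = ∑ i ∈ s, y i * g i.1 := by
          simp only [← hdelta, y, Finset.sum_mul]
          rw [Finset.sum_comm]
          refine Finset.sum_congr rfl fun i _ => Finset.sum_congr rfl fun h _ => ?_
          rw [map_mul]
          ring
  rw [hxsum]
  refine Submodule.sum_mem _ fun i hi => ?_
  exact Submodule.smul_mem _ (⟨y i, hy i⟩ : cfix A S K)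
    (Submodule.subset_span (Finset.mem_coe.2 (Finset.mem_image_of_mem _ hi)))

end

end Groth.L05.StrictGalois
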