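import Groth.Agent.L05.StrictGalois.Presentation
import Mathlib.RingTheory.Flat.FaithfullyFlat.Algebra
import Mathlib.RingTheory.Smooth.Flat
import Mathlib.RingTheory.Adjoin.FG

/-!
# Descent of essential finite type along standard étale extensions
-/

set_option autoImplicit false

open IsLocalRing Polynomial
open scoped TensorProduct nonZeroDivisors Polynomial.Bivariate

namespace Groth.L05.StrictGalois

universe u

/-- An element of a standard étale algebra only involves finitely many scalars. -/
theorem exists_finset_mem_subring {D : Type u} [CommRing D] (P : StandardEtalePair D) (y : P.Ring) :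
    ∃ F : Finset D, ∀ W : Subring P.Ring, (∀ d ∈ F, algebraMap D P.Ring d ∈ W) → P.X ∈ W →
      (↑P.hasMap_X.2.unit⁻¹ : P.Ring) ∈ W → y ∈ W := by
  classical
  obtain ⟨q, rfl⟩ := Ideal.Quotient.mk_surjective (I := Ideal.span {C P.f, Y * C P.g - 1}) y
  let m : D[X][Y] →+* P.Ring := Ideal.Quotient.mk (Ideal.span {C P.f, Y * C P.g - 1})
  have hY : m Polynomial.X = (↑P.hasMap_X.2.unit⁻¹ : P.Ring) := P.inv_aeval_X_g.symm
  show ∃ F : Finset D, ∀ W : Subring P.Ring, _ → _ → _ → m q ∈ W
  induction q using Polynomial.induction_on' with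
  | add p q hp hq =>
    obtain ⟨F, hF⟩ := hp
    obtain ⟨G, hG⟩ := hq
    refine ⟨F ∪ G, fun W h hX hi => ?_⟩
    rw [map_add]
    exact add_mem (hF W (fun d hd => h d (Finset.mem_union_left _ hd)) hX hi)
      (hG W (fun d hd => h d (Finset.mem_union_right _ hd)) hX hi)
  | monomial n c =>
    refine ⟨c.support.image c.coeff, fun W h hX hi => ?_⟩
    rw [← C_mul_X_pow_eq_monomial, map_mul, map_pow, hY]
    refine mul_mem ?_ (pow_mem hi n)
    rw [c.as_sum_support_C_mul_X_pow, map_sum, map_sum]
    refine sum_mem fun i hi' => ?_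
    rw [map_mul, map_mul, map_pow, map_pow]
    exact mul_mem (h _ (Finset.mem_image_of_mem _ hi')) (pow_mem hX i)

/-- If `E` is standard étale near its closed point over `D`, essentially of finite type over `A`,
and `D` is generated up to nonzerodivisors by a finite set, then `D` is essentially of finite type
over `A`. -/
theorem essFiniteType_of_presentation (A D E : Type u) [CommRing A] [CommRing D] [IsLocalRing D]
    [CommRing E] [IsLocalRing E] [Algebra A D] [Algebra A E] [Algebra D E] [IsScalarTower A D E]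
    [IsLocalHom (algebraMap D E)] [Algebra.EssFiniteType A E]
    (P : StandardEtalePair D) (ψ : P.Ring →ₐ[D] E) (t : P.Ring) (ht : IsUnit (ψ t))
    (hsurj : ∀ e : E, ∃ y s : P.Ring, IsUnit (ψ s) ∧ e * ψ s = ψ y)
    (hker : ∀ z : P.Ring, ψ z = 0 → t * z = 0)
    (hfg : ∃ G : Finset D, ∀ x : D, ∃ c ∈ Algebra.adjoin A (G : Set D),
      ∃ s ∈ Algebra.adjoin A (G : Set D), s ∈ D⁰ ∧ x * s = c) :
    Algebra.EssFiniteType A D := by
  classical
  obtain ⟨G, hG⟩ := hfg
  obtain ⟨gs, hgs⟩ := Algebra.EssFiniteType.cond (R := A) (S := E)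
  obtain ⟨p₁, p₂, n, hcond⟩ := P.cond
  choose num den hden hnum using hsurj
  choose Fy hFy using exists_finset_mem_subring P
  let ys : Finset P.Ring := insert t (gs.image num ∪ gs.image den)
  let F : Finset D := G ∪ ys.biUnion Fy ∪
    (P.f.support.image P.f.coeff ∪ P.g.support.image P.g.coeff ∪ p₁.support.image p₁.coeff ∪
      p₂.support.image p₂.coeff)
  let R₀ : Subalgebra A D := Algebra.adjoin A (F : Set D)
  let p₀ : Ideal R₀ := (maximalIdeal D).comap (algebraMap R₀ D)
  haveI : p₀.IsPrime := Ideal.IsPrime.comap _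
  let R := Localization.AtPrime p₀
  let ρ : R →+* D := IsLocalization.lift (M := p₀.primeCompl) (g := algebraMap R₀ D)
    fun y => IsLocalRing.notMem_maximalIdeal.1 y.2
  letI : Algebra R D := ρ.toAlgebra
  have hρ : ∀ r : R₀, algebraMap R D (algebraMap R₀ R r) = (r : D) := fun r =>
    IsLocalization.lift_eq (M := p₀.primeCompl) _ r
  haveI : IsScalarTower A R D := .of_algebraMap_eq fun a => by
    rw [IsScalarTower.algebraMap_apply A R₀ R, hρ]
    rfl
  have hRinj : Function.Injective (algebraMap R D) := (IsLocalization.lift_injective_iff _).2 fun x y =>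
    ⟨fun h => by
      obtain ⟨c, hc⟩ := (IsLocalization.eq_iff_exists p₀.primeCompl R).1 h
      refine (IsLocalRing.notMem_maximalIdeal.1 c.2).mul_left_cancel ?_
      rw [← map_mul, ← map_mul]
      exact congrArg (algebraMap R₀ D) hc,
     fun h => congrArg _ (Subtype.ext h : x = y)⟩
  haveI hRloc : IsLocalHom (algebraMap R D) := by
    refine ⟨fun r hr => ?_⟩
    obtain ⟨c, s, rfl⟩ := IsLocalization.exists_mk'_eq p₀.primeCompl r
    have hc : IsUnit (c : D) := by
      have h := congrArg (algebraMap R D) (IsLocalization.mk'_spec R c s)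
      rw [map_mul, hρ, hρ] at h
      rw [← h]
      exact hr.mul (IsLocalRing.notMem_maximalIdeal.1 s.2)
    rw [show IsLocalization.mk' R c s = algebraMap R₀ R c * IsLocalization.mk' R (1 : R₀) s by
      rw [IsLocalization.mul_mk'_eq_mk'_of_mul, mul_one]]
    refine (IsLocalization.map_units R (⟨c, IsLocalRing.notMem_maximalIdeal.2 hc⟩ : p₀.primeCompl)).mul ?_
    exact ⟨⟨IsLocalization.mk' R (1 : R₀) s, algebraMap R₀ R s,
      by simp, by rw [mul_comm]; simp⟩, rfl⟩
  have hF : ∀ d ∈ F, d ∈ Set.range (algebraMap R D) := fun d hd =>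
    ⟨algebraMap R₀ R ⟨d, Algebra.subset_adjoin hd⟩, hρ _⟩
  have hlift : ∀ p : D[X], p.support.image p.coeff ⊆ F → p ∈ lifts (algebraMap R D) := by
    intro p hp
    refine (lifts_iff_coeff_lifts p).2 fun i => ?_
    by_cases hi : p.coeff i = 0
    · exact ⟨0, by rw [hi, map_zero]⟩
    · exact hF _ (hp (Finset.mem_image_of_mem _ (mem_support_iff.2 hi)))
  obtain ⟨f', hf'⟩ := (mem_lifts _).1 (hlift P.f fun d hd => by simp [F, hd])
  obtain ⟨g', hg'⟩ := (mem_lifts _).1 (hlift P.g fun d hd => by simp [F, hd])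
  obtain ⟨q₁, hq₁⟩ := (mem_lifts _).1 (hlift p₁ fun d hd => by simp [F, hd])
  obtain ⟨q₂, hq₂⟩ := (mem_lifts _).1 (hlift p₂ fun d hd => by simp [F, hd])
  let P' : StandardEtalePair R :=
    { f := f'
      monic_f := Polynomial.monic_of_injective hRinj (by rw [hf']; exact P.monic_f)
      g := g'
      cond := ⟨q₁, q₂, n, map_injective (algebraMap R D) hRinj (by
        rw [Polynomial.map_add, Polynomial.map_mul, Polynomial.map_mul, Polynomial.map_pow,
          ← derivative_map, hf', hg', hq₁, hq₂, hcond])⟩ }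
  letI : Algebra R P.Ring := ((algebraMap D P.Ring).comp (algebraMap R D)).toAlgebra
  haveI : IsScalarTower R D P.Ring := .of_algebraMap_eq fun _ => rfl
  letI : Algebra R E := ((algebraMap D E).comp (algebraMap R D)).toAlgebra
  haveI : IsScalarTower R D E := .of_algebraMap_eq fun _ => rfl
  haveI : IsScalarTower A R E := .of_algebraMap_eq fun a => by
    show _ = algebraMap D E (algebraMap R D (algebraMap A R a))
    rw [← IsScalarTower.algebraMap_apply A R D, ← IsScalarTower.algebraMap_apply A D E]
  have hX : P'.HasMap P.X := by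
    refine ⟨?_, ?_⟩
    · rw [← aeval_map_algebraMap (A := D), hf']
      exact P.hasMap_X.1
    · rw [← aeval_map_algebraMap (A := D), hg']
      exact P.hasMap_X.2
  let φ : P'.Ring →ₐ[R] P.Ring := P'.lift P.X hX
  have hX' : P.HasMap ((1 : D) ⊗ₜ[R] P'.X) := by
    have h := StandardEtalePair.HasMap.map (P := P') P'.hasMap_X
      (Algebra.TensorProduct.includeRight : P'.Ring →ₐ[R] D ⊗[R] P'.Ring)
    refine ⟨?_, ?_⟩
    · rw [← hf', aeval_map_algebraMap]
      exact h.1
    · rw [← hg', aeval_map_algebraMap]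
      exact h.2
  have hφinj : Function.Injective φ := by
    have hcomp : ((P.lift _ hX').restrictScalars R).comp φ =
        (Algebra.TensorProduct.includeRight : P'.Ring →ₐ[R] D ⊗[R] P'.Ring) := by
      refine P'.hom_ext ?_
      simp [φ]
    have hinc : Function.Injective (Algebra.TensorProduct.includeRight : P'.Ring →ₐ[R] D ⊗[R] P'.Ring) :=
      Algebra.TensorProduct.includeRight_injective hRinj
    exact fun a b h => hinc (by rw [← hcomp]; exact congrArg (fun z : P.Ring => P.lift _ hX' z) h)
  let ψ' : P'.Ring →ₐ[R] E := (ψ.restrictScalars R).comp φ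
  have hys : ∀ y ∈ ys, y ∈ φ.range := by
    intro y hy
    refine hFy y φ.range.toSubring (fun d hd => ?_) ⟨P'.X, by simp [φ]⟩ ?_
    · obtain ⟨r, rfl⟩ := hF d (Finset.mem_union_left _ (Finset.mem_union_right _
        (Finset.mem_biUnion.2 ⟨y, hy, hd⟩)))
      exact ⟨algebraMap R P'.Ring r, φ.commutes r⟩
    · refine ⟨↑P'.hasMap_X.2.unit⁻¹, Units.eq_inv_of_mul_eq_one_left ?_⟩
      show aeval P.X P.g * φ _ = 1
      rw [← hg', aeval_map_algebraMap, show P.X = φ P'.X by simp [φ], aeval_algHom_apply, ← map_mul]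
      exact (congrArg φ P'.hasMap_X.2.mul_val_inv).trans (map_one φ)
  -- elements of `E` represented over `R`
  have hW : ∀ e ∈ Algebra.adjoin A (gs : Set E), ∃ y s : P'.Ring, IsUnit (ψ' s) ∧ e * ψ' s = ψ' y := by
    intro e he
    induction he using Algebra.adjoin_induction with
    | mem z hz =>
      obtain ⟨y, hy⟩ := hys (num z) (by simp [ys]; exact Or.inr (Or.inl ⟨z, hz, rfl⟩))
      obtain ⟨s, hs⟩ := hys (den z) (by simp [ys]; exact Or.inr (Or.inr ⟨z, hz, rfl⟩))
      refine ⟨y, s, ?_, ?_⟩
      · show IsUnit (ψ (φ s))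
        rw [show φ s = den z from hs]
        exact hden z
      · show z * ψ (φ s) = ψ (φ y)
        rw [show φ s = den z from hs, show φ y = num z from hy]
        exact hnum z
    | algebraMap a =>
      refine ⟨algebraMap R P'.Ring (algebraMap A R a), 1, by rw [map_one]; exact isUnit_one, ?_⟩
      rw [map_one, mul_one, AlgHom.commutes, ← IsScalarTower.algebraMap_apply]
    | add u v _ _ hu hv =>
      obtain ⟨y, s, hs, h⟩ := hu
      obtain ⟨y', s', hs', h'⟩ := hv
      refine ⟨y * s' + y' * s, s * s', by rw [map_mul]; exact hs.mul hs', ?_⟩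
      rw [map_add, map_mul, map_mul, map_mul, ← h, ← h']
      ring
    | mul u v _ _ hu hv =>
      obtain ⟨y, s, hs, h⟩ := hu
      obtain ⟨y', s', hs', h'⟩ := hv
      refine ⟨y * y', s * s', by rw [map_mul]; exact hs.mul hs', ?_⟩
      rw [map_mul, map_mul, ← h, ← h']
      ring
  let M : Submonoid P'.Ring := (IsUnit.submonoid E).comap ψ'.toRingHom.toMonoidHom
  letI : Algebra P'.Ring E := ψ'.toRingHom.toAlgebra
  haveI : IsScalarTower R P'.Ring E := .of_algebraMap_eq fun r => (ψ'.commutes r).symm
  obtain ⟨t', ht'⟩ := hys t (Finset.mem_insert_self _ _)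
  haveI : IsLocalization M E := by
    refine ⟨⟨fun y => y.2, fun e => ?_, fun {a b} hab => ?_⟩⟩
    · obtain ⟨⟨c, ⟨⟨u, hu₀⟩, hu⟩⟩, h⟩ := IsLocalization.surj
        ((IsUnit.submonoid E).comap (algebraMap (Algebra.adjoin A (gs : Set E)) E)) e
      have hu' : IsUnit (u : E) := hu
      have h' : e * u = (c : E) := h
      obtain ⟨y, s, hs, hys'⟩ := hW c c.2
      obtain ⟨y', s', hs', hys''⟩ := hW u hu₀
      have hy' : IsUnit (ψ' y') := by rw [← hys'']; exact hu'.mul hs'
      refine ⟨⟨y * s', ⟨s * y', ?_⟩⟩, ?_⟩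
      · show IsUnit (ψ' (s * y'))
        rw [map_mul]
        exact hs.mul hy'
      · show e * ψ' (s * y') = ψ' (y * s')
        rw [map_mul, map_mul, ← hys', ← hys'', ← h']
        ring
    · refine ⟨⟨t', ?_⟩, hφinj ?_⟩
      · show IsUnit (ψ (φ t'))
        rw [show φ t' = t from ht']
        exact ht
      · show φ (t' * a) = φ (t' * b)
        rw [map_mul, map_mul, show φ t' = t from ht', ← sub_eq_zero, ← mul_sub]
        refine hker _ ?_
        rw [map_sub, sub_eq_zero]
        exact hab
  haveI : Module.Flat P'.Ring E := IsLocalization.flat _ M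
  haveI : Module.Flat R E := Module.Flat.trans R P'.Ring E
  haveI : IsLocalHom (algebraMap R E) := by
    rw [IsScalarTower.algebraMap_eq R D E]
    exact RingHom.isLocalHom_comp _ _
  haveI : Module.FaithfullyFlat R E := Module.FaithfullyFlat.of_flat_of_isLocalHom
  have hsurjR : Function.Surjective (algebraMap R D) := by
    intro x
    obtain ⟨c, hc, s, hs, hsnzd, hx⟩ := hG x
    have hG' : Algebra.adjoin A (G : Set D) ≤ R₀ :=
      Algebra.adjoin_mono (Finset.coe_subset.2 (Finset.subset_union_left.trans Finset.subset_union_left))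
    let c' : R := algebraMap R₀ R ⟨c, hG' hc⟩
    let s' : R := algebraMap R₀ R ⟨s, hG' hs⟩
    have hmem : c' ∈ Ideal.span {s'} := by
      rw [← Ideal.comap_map_eq_self_of_faithfullyFlat (B := E) (Ideal.span {s'}), Ideal.mem_comap,
        Ideal.map_span, Set.image_singleton, Ideal.mem_span_singleton']
      refine ⟨algebraMap D E x, ?_⟩
      rw [IsScalarTower.algebraMap_apply R D E, IsScalarTower.algebraMap_apply R D E, ← map_mul]
      exact congrArg _ (by rw [hρ, hρ]; exact hx)
    obtain ⟨y, hy⟩ := Ideal.mem_span_singleton'.1 hmem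
    refine ⟨y, (mul_cancel_right_mem_nonZeroDivisors hsnzd).1 ?_⟩
    have := congrArg (algebraMap R D) hy
    rw [map_mul, hρ, hρ] at this
    exact this.trans hx.symm
  haveI : Algebra.FiniteType A R₀ :=
    (Subalgebra.fg_iff_finiteType R₀).1 (Subalgebra.fg_adjoin_finset F)
  haveI : Algebra.EssFiniteType R₀ R := Algebra.EssFiniteType.of_isLocalization R p₀.primeCompl
  haveI : Algebra.EssFiniteType A R := Algebra.EssFiniteType.comp A R₀ R
  exact Algebra.EssFiniteType.of_surjective (IsScalarTower.toAlgHom A R D) hsurjR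

end Groth.L05.StrictGalois
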