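import Groth.Prelude.Def_EssEt
import Mathlib.RingTheory.Unramified.LocalStructure
import Mathlib.RingTheory.Unramified.Finite
import Mathlib.RingTheory.EssentialFiniteness
import Mathlib.RingTheory.Flat.FaithfullyFlat.Algebra
import Mathlib.RingTheory.Etale.StandardEtale

/-!
# Unramified local subalgebras of flat local algebras are essentially étale
-/

set_option autoImplicit false

open IsLocalRing

namespace Groth.L05.StrictGalois

universe u

theorem isEssentiallyEtale_of_injective (A D S : Type u) [CommRing A] [IsLocalRing A] [CommRing D]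
    [IsLocalRing D] [Algebra A D] [IsLocalHom (algebraMap A D)] [Algebra.EssFiniteType A D]
    [Algebra.FormallyUnramified A D] [CommRing S] [IsLocalRing S] [Algebra A S] [Module.Flat A S]
    (ι : D →ₐ[A] S) (hinj : Function.Injective ι) [IsLocalHom ι.toRingHom] :
    EGA4loc.IsEssentiallyEtale A D := by
  classical
  let C := Algebra.EssFiniteType.subalgebra A D
  let q : Ideal C := (maximalIdeal D).comap (algebraMap C D)
  haveI : q.IsPrime := Ideal.IsPrime.comap _
  have hM : Algebra.EssFiniteType.submonoid A D = q.primeCompl := by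
    refine Submonoid.ext fun x => ?_
    show IsUnit (algebraMap C D x) ↔ ¬ algebraMap C D x ∈ maximalIdeal D
    exact IsLocalRing.notMem_maximalIdeal.symm
  haveI : IsLocalization.AtPrime D q := by
    have h : IsLocalization (Algebra.EssFiniteType.submonoid A D) D := inferInstance
    rw [hM] at h
    exact h
  let eD : Localization.AtPrime q ≃ₐ[C] D := IsLocalization.algEquiv q.primeCompl _ _
  haveI : Algebra.IsUnramifiedAt A q :=
    Algebra.FormallyUnramified.of_equiv (eD.restrictScalars A).symm
  obtain ⟨f, hfq, P, φ, hφ⟩ := Algebra.IsUnramifiedAt.exists_hasStandardEtaleSurjectionOn (R := A) q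
  have hfu : IsUnit (algebraMap C D f) := IsLocalRing.notMem_maximalIdeal.1 hfq
  let lf : Localization.Away f →ₐ[A] D :=
    IsLocalization.liftAlgHom (M := Submonoid.powers f) (f := IsScalarTower.toAlgHom A C D)
      (by rintro ⟨_, n, rfl⟩; simpa using hfu.pow n)
  have hlf : ∀ c : C, lf (algebraMap C _ c) = algebraMap C D c := fun c =>
    IsLocalization.lift_eq (M := Submonoid.powers f) _ c
  let ψ : P.Ring →ₐ[A] D := lf.comp φ
  let qP : Ideal P.Ring := (maximalIdeal D).comap ψ.toRingHom
  haveI : qP.IsPrime := Ideal.IsPrime.comap _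
  let B := Localization.AtPrime qP
  let π : B →ₐ[A] D := IsLocalization.liftAlgHom (M := qP.primeCompl) (f := ψ)
    (fun y => IsLocalRing.notMem_maximalIdeal.1 y.2)
  have hπ : ∀ y : P.Ring, π (algebraMap P.Ring B y) = ψ y := fun y =>
    IsLocalization.lift_eq (M := qP.primeCompl) _ y
  haveI hπloc : IsLocalHom π.toRingHom := by
    refine ⟨fun b hb => ?_⟩
    obtain ⟨y, s, rfl⟩ := IsLocalization.exists_mk'_eq qP.primeCompl b
    have hy : IsUnit (ψ y) := by
      have h := congrArg π (IsLocalization.mk'_spec B y s)
      rw [map_mul, hπ, hπ] at h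
      rw [← h]
      exact hb.mul (IsLocalRing.notMem_maximalIdeal.1 s.2)
    rw [show IsLocalization.mk' B y s = algebraMap P.Ring B y *
      IsLocalization.mk' B (1 : P.Ring) s by rw [IsLocalization.mul_mk'_eq_mk'_of_mul, mul_one]]
    refine (IsLocalization.map_units B (⟨y, IsLocalRing.notMem_maximalIdeal.2 hy⟩ : qP.primeCompl)).mul ?_
    exact ⟨⟨IsLocalization.mk' B (1 : P.Ring) s, algebraMap P.Ring B s,
      by simp, by rw [mul_comm]; simp⟩, rfl⟩
  have hsurj : Function.Surjective π := by
    intro d
    obtain ⟨c, s, rfl⟩ := IsLocalization.exists_mk'_eq q.primeCompl d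
    obtain ⟨yc, hyc⟩ := hφ (algebraMap C _ c)
    obtain ⟨ys, hys⟩ := hφ (algebraMap C _ (s : C))
    have hc : ψ yc = algebraMap C D c := (congrArg lf hyc).trans (hlf c)
    have hs : ψ ys = algebraMap C D s := (congrArg lf hys).trans (hlf _)
    have hys' : ys ∈ qP.primeCompl := fun h => s.2 (show (s : C) ∈ q from by
      show algebraMap C D s ∈ maximalIdeal D
      rw [← hs]
      exact h)
    refine ⟨IsLocalization.mk' B yc (⟨ys, hys'⟩ : qP.primeCompl), ?_⟩
    rw [IsLocalization.eq_mk'_iff_mul_eq, ← hs, ← hc, ← hπ ys, ← map_mul, IsLocalization.mk'_spec, hπ]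
  haveI : Algebra.Etale A P.Ring := inferInstance
  haveI : Algebra.FormallyUnramified P.Ring B :=
    Algebra.FormallyUnramified.of_isLocalization qP.primeCompl
  haveI : Algebra.FormallyUnramified A B := Algebra.FormallyUnramified.comp A P.Ring B
  haveI : Algebra.EssFiniteType P.Ring B := Algebra.EssFiniteType.of_isLocalization B qP.primeCompl
  haveI : Algebra.EssFiniteType A B := Algebra.EssFiniteType.comp A P.Ring B
  have hπinj : Function.Injective π := by
    letI : Algebra B S := (ι.comp π).toRingHom.toAlgebra
    haveI : IsScalarTower A B S := .of_algebraMap_eq fun a => ((ι.comp π).commutes a).symm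
    haveI : IsLocalHom (algebraMap B S) := ⟨fun b hb => hπloc.map_nonunit b
      (IsLocalHom.map_nonunit (f := ι.toRingHom) (π b) hb)⟩
    haveI : Module.Flat B S := Algebra.FormallyUnramified.flat_of_restrictScalars A B S
    haveI : Module.FaithfullyFlat B S := Module.FaithfullyFlat.of_flat_of_isLocalHom
    exact fun b b' h => FaithfulSMul.algebraMap_injective B S (congrArg ι h)
  refine ⟨P.Ring, inferInstance, inferInstance, qP, inferInstance, inferInstance, ?_,
    ⟨(AlgEquiv.ofBijective π ⟨hπinj, hsurj⟩).symm⟩⟩
  rw [show qP.comap (algebraMap A P.Ring) = (maximalIdeal D).comap (algebraMap A D) from by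
    rw [Ideal.comap_comap, AlgHom.toRingHom_eq_coe, ψ.comp_algebraMap]]
  exact IsLocalRing.maximalIdeal_comap (algebraMap A D)

end Groth.L05.StrictGalois
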