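import Groth.Agent.L05.Henselization.Noeth
import Groth.Agent.L05.StrictGalois.Frac
import Mathlib.RingTheory.Flat.FaithfullyFlat.Algebra

/-!
# Essentially étale stages inside a strict henselization
-/

set_option autoImplicit false

open IsLocalRing
open scoped nonZeroDivisors

namespace Groth.L05.StrictGalois

universe u

open Groth.L05.Henselization

noncomputable section

variable (A S : Type u) [CommRing A] [IsLocalRing A] [CommRing S] [IsLocalRing S] [Algebra A S]
  [IsLocalHom (algebraMap A S)] [hS : Hensel.IsStrictHenselization A S]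

include hS in
/-- Every finite subset of a strict henselization lies in an essentially étale local subalgebra. -/
theorem exists_essEt_stage (fs : Finset S) :
    ∃ (E : Subalgebra A S) (_ : IsLocalRing E), IsLocalHom (algebraMap E S) ∧
      EGA4loc.IsEssentiallyEtale A E ∧ Module.FaithfullyFlat E S ∧ (fs : Set S) ⊆ E := by
  classical
  haveI : Algebra.IsSeparable (ResidueField A) (ResidueField S) := hS.isSepClosure.separable
  obtain ⟨e⟩ := strictHenselization_algEquiv A S
  haveI := isLocalRing_col A (ResidueField S)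
  obtain ⟨X, hX⟩ := exists_lift_finset (fs.image e.symm)
  haveI hq : (RingHom.ker X.φ).IsPrime := RingHom.ker_isPrime _
  let L := Localization.AtPrime (RingHom.ker X.φ)
  have hu : ∀ t : (RingHom.ker X.φ).primeCompl, IsUnit ((e.toAlgHom.comp (ι X)) t.1) := fun t =>
    (isUnit_of_isUnit_ε (b := ι X t.1) (by
      rw [ε_ι]
      exact isUnit_iff_ne_zero.mpr t.2)).map e
  let g : L →ₐ[A] S := IsLocalization.liftAlgHom (M := (RingHom.ker X.φ).primeCompl) hu
  have hg : ∀ x : X.R, g (algebraMap X.R L x) = e (ι X x) := fun x =>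
    IsLocalization.lift_eq (M := (RingHom.ker X.φ).primeCompl) _ x
  haveI hgloc : IsLocalHom g.toRingHom := by
    refine ((IsLocalRing.local_hom_TFAE g.toRingHom).out 0 2 rfl rfl).mpr ?_
    rw [← Localization.AtPrime.map_eq_maximalIdeal, Ideal.map_map, Ideal.map_le_iff_le_comap]
    intro z hz
    show g (algebraMap X.R L z) ∈ maximalIdeal S
    rw [hg, mem_maximalIdeal, mem_nonunits_iff, isUnit_map_iff e]
    intro hzu
    have := hzu.map (ε A (ResidueField S))
    rw [ε_ι, show X.φ z = 0 from hz] at this
    exact not_isUnit_zero this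
  letI : Algebra L S := g.toRingHom.toAlgebra
  letI : Algebra X.R S := (e.toAlgHom.comp (ι X)).toRingHom.toAlgebra
  haveI : Module.Flat X.R S := by
    letI : Algebra X.R (Col A (ResidueField S)) := (ι X).toRingHom.toAlgebra
    haveI : Module.Flat X.R (Col A (ResidueField S)) := flat_ι X
    exact Module.Flat.of_linearEquiv
      ({ e.toRingEquiv.symm.toAddEquiv with
        map_smul' := fun x c => by
          show e.symm (e (ι X x) * c) = ι X x * e.symm c
          rw [map_mul, e.symm_apply_apply] } : S ≃ₗ[X.R] Col A (ResidueField S))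
  haveI : IsScalarTower X.R L S := IsScalarTower.of_algebraMap_eq fun x => (hg x).symm
  haveI : Module.Flat L S := (Module.flat_iff_of_isLocalization (R := X.R) L
    (RingHom.ker X.φ).primeCompl (M := S)).mpr inferInstance
  haveI : IsLocalHom (algebraMap L S) := hgloc
  haveI : Module.FaithfullyFlat L S := Module.FaithfullyFlat.of_flat_of_isLocalHom
  haveI : FaithfulSMul L S := Module.FaithfullyFlat.faithfulSMul (A := L) (B := S)
  let eL : L ≃ₐ[A] g.range := AlgEquiv.ofInjective g (FaithfulSMul.algebraMap_injective L S)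
  have heL : ∀ l, (eL l : S) = g l := fun l => rfl
  haveI : IsLocalRing g.range := eL.toRingEquiv.isLocalRing
  have hEt : EGA4loc.IsEssentiallyEtale A g.range := by
    refine ⟨X.R, inferInstance, inferInstance, RingHom.ker X.φ, hq, inferInstance, ?_, ⟨eL.symm⟩⟩
    ext a
    show X.φ (algebraMap A X.R a) = 0 ↔ _
    rw [AlgHom.commutes, IsScalarTower.algebraMap_apply A (ResidueField A) (ResidueField S),
      map_eq_zero_iff _ (algebraMap (ResidueField A) (ResidueField S)).injective,
      ResidueField.algebraMap_eq, residue_eq_zero_iff]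
  haveI hloc' : IsLocalHom (algebraMap g.range S) := ⟨fun x hx => by
    obtain ⟨l, rfl⟩ := eL.surjective x
    exact (hgloc.map_nonunit l hx).map eL⟩
  refine ⟨g.range, inferInstance, hloc', hEt, ?_, fun s hs => ?_⟩
  · haveI := Groth.L05.Henselization.flat_of_isStrictHenselization A S
    haveI := formallyEtale_of_essEt hEt
    haveI := essFiniteType_of_essEt hEt
    haveI : Module.Flat g.range S := Algebra.FormallyUnramified.flat_of_restrictScalars A g.range S
    exact Module.FaithfullyFlat.of_flat_of_isLocalHom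
  · obtain ⟨y, hy⟩ := hX (e.symm s) (Finset.mem_image_of_mem _ hs)
    refine ⟨algebraMap X.R L y, ?_⟩
    show g (algebraMap X.R L y) = s
    rw [hg, show ι X y = e.symm s from hy, e.apply_symm_apply]

variable {A S}

/-- An element `x` with `s x` in `E`, where `s ∈ E` is a nonzerodivisor, lies in `E`. -/
theorem mem_of_mul_mem (E : Subalgebra A S) [Module.FaithfullyFlat E S] {x s : S} (hs : s ∈ E)
    (hnzd : s ∈ S⁰) (hx : x * s ∈ E) : x ∈ E := by
  have : (⟨x * s, hx⟩ : E) ∈ Ideal.span {(⟨s, hs⟩ : E)} := by
    rw [← Ideal.comap_map_eq_self_of_faithfullyFlat (B := S) (Ideal.span {(⟨s, hs⟩ : E)}),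
      Ideal.mem_comap, Ideal.map_span, Set.image_singleton, Ideal.mem_span_singleton']
    exact ⟨x, rfl⟩
  obtain ⟨e, he⟩ := Ideal.mem_span_singleton'.1 this
  have he' : (e : S) * s = x * s := congrArg Subtype.val he
  rw [← (mul_cancel_right_mem_nonZeroDivisors hnzd).1 he']
  exact e.2

variable [IsReduced A]

include hS in
/-- Nonzerodivisors of a subalgebra are nonzerodivisors in the strict henselization. -/
theorem coe_mem_nonZeroDivisors_strict (hmin : (minimalPrimes A).Finite) (D : Subalgebra A S) {d : D}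
    (hd : d ∈ D⁰) : (d : S) ∈ S⁰ := by
  obtain ⟨E, _, _, hE, hff, hmem⟩ := exists_essEt_stage A S {(d : S)}
  haveI := hff
  let DE : Subalgebra A E := D.comap E.val
  have hdE : (d : S) ∈ E := hmem (by simp)
  have h1 : (⟨⟨d, hdE⟩, d.2⟩ : DE) ∈ DE⁰ := mem_nonZeroDivisors_iff_right.2 fun z hz => by
    have : (⟨z.1.1, z.2⟩ : D) = 0 := mem_nonZeroDivisors_iff_right.1 hd _
      (Subtype.ext (congrArg (fun w : DE => ((w : E) : S)) hz))
    exact Subtype.ext (Subtype.ext (congrArg Subtype.val this : ((z.1 : E) : S) = 0))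
  have h2 := coe_mem_nonZeroDivisors hmin hE DE h1
  refine mem_nonZeroDivisors_iff_right.2 fun z hz => ?_
  have hinj : Function.Injective (LinearMap.lsmul E E (⟨d, hdE⟩ : E)) := fun x y h =>
    (mul_cancel_left_mem_nonZeroDivisors h2).1 h
  have := Module.Flat.rTensor_preserves_injective_linearMap (M := S) _ hinj
  refine (TensorProduct.lid E S).symm.injective ?_
  refine this ?_
  rw [map_zero, map_zero, TensorProduct.lid_symm_apply, LinearMap.rTensor_tmul,
    LinearMap.lsmul_apply, TensorProduct.smul_tmul, Algebra.smul_def]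
  show (1 : E) ⊗ₜ[E] ((d : S) * z) = 0
  rw [mul_comm, hz, TensorProduct.tmul_zero]

open scoped TensorProduct in
include hS in
/-- A subalgebra generated, up to nonzerodivisors, by a finite set lies in an essentially étale
local subalgebra. -/
theorem exists_le_of_fg (hmin : (minimalPrimes A).Finite) (D : Subalgebra A S)
    (hfg : ∃ t : Finset (FractionRing D), ∀ x : FractionRing D, ∃ a ∈ A⁰,
      algebraMap A (FractionRing D) a * x ∈ Algebra.adjoin A (t : Set (FractionRing D))) :
    ∃ (E : Subalgebra A S) (_ : IsLocalRing E), D ≤ E ∧ IsLocalHom (algebraMap E S) ∧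
      EGA4loc.IsEssentiallyEtale A E ∧ Module.FaithfullyFlat E S := by
  classical
  obtain ⟨t, ht⟩ := hfg
  have hfrac : ∀ z : FractionRing D, ∃ c : D, ∃ s ∈ D⁰,
      z * algebraMap D (FractionRing D) s = algebraMap D (FractionRing D) c := fun z => by
    obtain ⟨c, s, rfl⟩ := IsLocalization.exists_mk'_eq D⁰ z
    exact ⟨c, s, s.2, IsLocalization.mk'_spec _ _ _⟩
  choose num den hden hz using hfrac
  obtain ⟨E, _, hloc, hE, hff, hmem⟩ :=
    exists_essEt_stage A S ((t.image fun z => (num z : S)) ∪ (t.image fun z => (den z : S)))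
  refine ⟨E, inferInstance, ?_, hloc, hE, hff⟩
  haveI := hff
  intro x hx
  obtain ⟨a, ha, hax⟩ := ht (algebraMap D (FractionRing D) ⟨x, hx⟩)
  have key : ∀ w ∈ Algebra.adjoin A (t : Set (FractionRing D)), ∃ c s : D, s ∈ D⁰ ∧ (c : S) ∈ E ∧
      (s : S) ∈ E ∧ w * algebraMap D (FractionRing D) s = algebraMap D (FractionRing D) c := by
    intro w hw
    induction hw using Algebra.adjoin_induction with
    | mem z hz' =>
      exact ⟨num z, den z, hden z,
        hmem (Finset.mem_coe.2 (Finset.mem_union_left _ (Finset.mem_image_of_mem _ hz'))),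
        hmem (Finset.mem_coe.2 (Finset.mem_union_right _ (Finset.mem_image_of_mem _ hz'))), hz z⟩
    | algebraMap r =>
      exact ⟨algebraMap A D r, 1, one_mem _, E.algebraMap_mem r, E.one_mem, by
        rw [map_one, mul_one, ← IsScalarTower.algebraMap_apply]⟩
    | add u v _ _ hu hv =>
      obtain ⟨c, s, hs, hcE, hsE, h⟩ := hu
      obtain ⟨c', s', hs', hcE', hsE', h'⟩ := hv
      refine ⟨c * s' + c' * s, s * s', mul_mem hs hs', ?_, ?_, ?_⟩
      · exact add_mem (mul_mem hcE hsE') (mul_mem hcE' hsE)
      · exact mul_mem hsE hsE'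
      · rw [map_add, map_mul, map_mul, map_mul, ← h, ← h']
        ring
    | mul u v _ _ hu hv =>
      obtain ⟨c, s, hs, hcE, hsE, h⟩ := hu
      obtain ⟨c', s', hs', hcE', hsE', h'⟩ := hv
      refine ⟨c * c', s * s', mul_mem hs hs', mul_mem hcE hcE', mul_mem hsE hsE', ?_⟩
      rw [map_mul, map_mul, ← h, ← h']
      ring
  obtain ⟨c, s, hs, hcE, hsE, h⟩ := key _ hax
  rw [IsScalarTower.algebraMap_apply A D (FractionRing D), ← map_mul, ← map_mul] at h
  have h1 : algebraMap A S a * x * s = c :=
    congrArg Subtype.val (IsFractionRing.injective D (FractionRing D) h)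
  haveI := Groth.L05.Henselization.flat_of_isStrictHenselization A S
  have hS0 : algebraMap A S a * (s : S) ∈ S⁰ :=
    mul_mem (algebraMapSubmonoid_le A S ⟨a, ha, rfl⟩) (coe_mem_nonZeroDivisors_strict hmin D hs)
  refine mem_of_mul_mem E (mul_mem (E.algebraMap_mem a) hsE) hS0 ?_
  rw [show x * (algebraMap A S a * (s : S)) = algebraMap A S a * x * s by ring, h1]
  exact hcE

end

end Groth.L05.StrictGalois
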