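import Groth.Agent.L05.StrictGalois.NormEssEt
import Mathlib.RingTheory.Smooth.IntegralClosure
import Mathlib.RingTheory.Jacobson.Ideal

/-!
# Normalization of essentially étale algebras
-/

set_option autoImplicit false

open IsLocalRing Polynomial
open scoped nonZeroDivisors TensorProduct

namespace Groth.L05.StrictGalois

universe u

noncomputable section

variable (A E : Type u) [CommRing A] [CommRing E] [Algebra A E] [Module.Flat A E]

/-- The inclusion of the normalization of `A` in the total ring of fractions of `E`. -/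
def normIncl : integralClosure A (FractionRing A) →ₐ[A] FractionRing E :=
  letI := fracAlgebra A E
  haveI := fracTower A E
  (IsScalarTower.toAlgHom A (FractionRing A) (FractionRing E)).comp
    (integralClosure A (FractionRing A)).val

/-- The comparison map from the base change of the normalization. -/
def normMap : integralClosure A (FractionRing A) ⊗[A] E →ₐ[A] FractionRing E :=
  Algebra.TensorProduct.productMap (normIncl A E) (IsScalarTower.toAlgHom A E (FractionRing E))

theorem normMap_tmul (a : integralClosure A (FractionRing A)) (e : E) :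
    normMap A E (a ⊗ₜ e) = normIncl A E a * algebraMap E (FractionRing E) e :=
  Algebra.TensorProduct.productMap_apply_tmul _ _ _ _

theorem isIntegral_normMap (z : integralClosure A (FractionRing A) ⊗[A] E) :
    IsIntegral E (normMap A E z) := by
  induction z with
  | zero => rw [map_zero]; exact isIntegral_zero
  | tmul a e =>
    rw [normMap_tmul]
    exact ((Algebra.IsIntegral.isIntegral (R := A) a).map (normIncl A E)).tower_top.mul isIntegral_algebraMap
  | add x y hx hy => rw [map_add]; exact hx.add hy

/-- Clearing denominators in a base change of the total ring of fractions. -/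
theorem exists_tmul_eq (C : Type u) [CommRing C] [Algebra A C] (z : C ⊗[A] FractionRing A) :
    ∃ (c : C) (a : A⁰), algebraMap A (C ⊗[A] FractionRing A) a * z = c ⊗ₜ 1 := by
  induction z with
  | zero => exact ⟨0, 1, by simp⟩
  | tmul c k =>
    obtain ⟨b, s, rfl⟩ := IsLocalization.exists_mk'_eq A⁰ k
    refine ⟨b • c, s, ?_⟩
    rw [← Algebra.smul_def, ← TensorProduct.tmul_smul, Algebra.smul_def (A := FractionRing A), mul_comm,
      IsLocalization.mk'_spec, Algebra.algebraMap_eq_smul_one, TensorProduct.smul_tmul]
  | add x y hx hy =>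
    obtain ⟨c, a, hc⟩ := hx
    obtain ⟨c', a', hc'⟩ := hy
    refine ⟨(a' : A) • c + (a : A) • c', a * a', ?_⟩
    rw [TensorProduct.add_tmul, ← TensorProduct.smul_tmul', ← TensorProduct.smul_tmul', ← hc, ← hc',
      Submonoid.coe_mul, Algebra.smul_def (A := C ⊗[A] FractionRing A),
      Algebra.smul_def (A := C ⊗[A] FractionRing A), map_mul]
    ring

theorem normMap_injective : Function.Injective (normMap A E) := by
  letI := fracAlgebra A E
  haveI := fracTower A E
  let ψ : E ⊗[A] FractionRing A →ₐ[A] FractionRing E :=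
    Algebra.TensorProduct.productMap (IsScalarTower.toAlgHom A E (FractionRing E))
      (IsScalarTower.toAlgHom A (FractionRing A) (FractionRing E))
  have hψ : Function.Injective ψ := by
    refine (injective_iff_map_eq_zero ψ).2 fun z hz => ?_
    obtain ⟨c, a, h⟩ := exists_tmul_eq A E z
    have h2 := congrArg ψ h
    rw [map_mul, hz, mul_zero, Algebra.TensorProduct.productMap_apply_tmul, map_one, mul_one] at h2
    have hc : c = 0 := IsFractionRing.injective E (FractionRing E) (by rw [map_zero]; exact h2.symm)
    rw [hc, TensorProduct.zero_tmul] at h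
    have hu : IsUnit (algebraMap A (E ⊗[A] FractionRing A) a) := by
      have h1 := (IsLocalization.map_units (M := A⁰) (FractionRing A) a).map
        (Algebra.TensorProduct.includeRight : FractionRing A →ₐ[A] E ⊗[A] FractionRing A)
      rwa [AlgHom.commutes] at h1
    exact hu.mul_right_eq_zero.1 h
  have hincl : Function.Injective
      (TensorProduct.map (integralClosure A (FractionRing A)).val.toLinearMap (LinearMap.id : E →ₗ[A] E)) :=
    Module.Flat.rTensor_preserves_injective_linearMap (M := E)
      (integralClosure A (FractionRing A)).val.toLinearMap Subtype.val_injective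
  have heq : ∀ z, normMap A E z = ψ (TensorProduct.comm A (FractionRing A) E
      (TensorProduct.map (integralClosure A (FractionRing A)).val.toLinearMap (LinearMap.id : E →ₗ[A] E) z)) := by
    intro z
    induction z with
    | zero => simp
    | tmul a e =>
      rw [normMap_tmul, TensorProduct.map_tmul, TensorProduct.comm_tmul,
        Algebra.TensorProduct.productMap_apply_tmul, mul_comm]
      rfl
    | add x y hx hy => simp only [map_add, hx, hy]
  intro x y h
  rw [heq, heq] at h
  exact hincl ((TensorProduct.comm A (FractionRing A) E).injective (hψ h))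

variable {A E}

/-- The normalization of an essentially étale algebra is the base change of the normalization. -/
theorem exists_normMap_eq [IsLocalRing A] [IsReduced A] (hmin : (minimalPrimes A).Finite)
    [IsLocalRing E] (hE : EGA4loc.IsEssentiallyEtale A E) {x : FractionRing E} (hx : IsIntegral E x) :
    ∃ z, normMap A E z = x := by
  classical
  letI := fracAlgebra A E
  haveI := fracTower A E
  obtain ⟨c₀, ⟨d, hd⟩, hxd⟩ := IsLocalization.exists_mk'_eq E⁰ x
  obtain ⟨y, a, ha, hy⟩ := exists_mul_eq_algebraMap hmin hE ⊤ (d := ⟨d, trivial⟩)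
    (mem_nonZeroDivisors_iff_right.2 fun w hw => Subtype.ext
      (mem_nonZeroDivisors_iff_right.1 hd _ (congrArg Subtype.val hw : (w : E) * d = 0)))
  have hdy : d * (y : E) = algebraMap A E a := congrArg Subtype.val hy
  have hxa : x * algebraMap A (FractionRing E) a = algebraMap E (FractionRing E) (c₀ * y) := by
    rw [IsScalarTower.algebraMap_apply A E (FractionRing E), ← hdy, map_mul, ← mul_assoc, ← hxd,
      IsLocalization.mk'_spec, map_mul]
  obtain ⟨C, _, _, q, _, hCet, -, ⟨eC⟩⟩ := hE
  let f : C →ₐ[A] E := eC.symm.toAlgHom.comp (IsScalarTower.toAlgHom A C _)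
  have hfu : ∀ c : C, c ∉ q → IsUnit (f c) := fun c hc =>
    (IsLocalization.map_units (Localization.AtPrime q) (⟨c, hc⟩ : q.primeCompl)).map eC.symm
  have hfrac : ∀ e : E, ∃ c s : C, s ∉ q ∧ e * f s = f c := fun e => by
    obtain ⟨c, s, hcs⟩ := IsLocalization.exists_mk'_eq q.primeCompl (eC e)
    refine ⟨c, s, s.2, eC.injective ?_⟩
    show eC (e * eC.symm (algebraMap C _ (s : C))) = eC (eC.symm (algebraMap C _ c))
    rw [map_mul, eC.apply_symm_apply, eC.apply_symm_apply, ← hcs, IsLocalization.mk'_spec]
  have hfker : ∀ c : C, f c = 0 → ∃ t, t ∉ q ∧ t * c = 0 := fun c hc => by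
    obtain ⟨t, ht⟩ := (IsLocalization.map_eq_zero_iff q.primeCompl (Localization.AtPrime q) c).1
      (eC.symm.injective (hc.trans (map_zero _).symm))
    exact ⟨t, t.2, ht⟩
  let ψ : C ⊗[A] FractionRing A →ₐ[A] FractionRing E :=
    Algebra.TensorProduct.productMap ((IsScalarTower.toAlgHom A E (FractionRing E)).comp f)
      (IsScalarTower.toAlgHom A (FractionRing A) (FractionRing E))
  have hψC : ∀ c : C, ψ (algebraMap C _ c) = algebraMap E (FractionRing E) (f c) := fun c => by
    show ψ (c ⊗ₜ 1) = _
    rw [Algebra.TensorProduct.productMap_apply_tmul, map_one, mul_one]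
    rfl
  obtain ⟨c₁, s₁, hs₁, h₁⟩ := hfrac (c₀ * y)
  obtain ⟨p, hp, hpx⟩ := hx
  rw [← aeval_def] at hpx
  choose cn sn hsn hcsn using fun i => hfrac (p.coeff i)
  let σ : C := s₁ * ∏ i ∈ Finset.range p.natDegree, sn i
  have hσ : σ ∉ q := fun h => by
    rcases Ideal.IsPrime.mem_or_mem inferInstance h with h | h
    · exact hs₁ h
    · obtain ⟨i, -, hi⟩ := (Ideal.IsPrime.prod_mem_iff (hp := inferInstance)).1 h
      exact hsn i hi
  -- the lift of `σ x`
  obtain ⟨u, hu⟩ := IsUnit.exists_right_inv (IsLocalization.map_units (M := A⁰) (FractionRing A) ⟨a, ha⟩)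
  let w : C ⊗[A] FractionRing A := (c₁ * ∏ i ∈ Finset.range p.natDegree, sn i) ⊗ₜ u
  have hw : ψ w = algebraMap E (FractionRing E) (f σ) * x := by
    have huu : algebraMap A (FractionRing E) a * algebraMap (FractionRing A) (FractionRing E) u = 1 := by
      rw [IsScalarTower.algebraMap_apply A (FractionRing A) (FractionRing E), ← map_mul, hu, map_one]
    rw [show ψ w = algebraMap E (FractionRing E) (f (c₁ * ∏ i ∈ Finset.range p.natDegree, sn i)) *
        algebraMap (FractionRing A) (FractionRing E) u from Algebra.TensorProduct.productMap_apply_tmul _ _ _ _,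
      map_mul f, map_mul f, ← h₁, map_mul, map_mul, ← hxa, map_mul]
    linear_combination (algebraMap E (FractionRing E) (f s₁) *
      algebraMap E (FractionRing E) (f (∏ i ∈ Finset.range p.natDegree, sn i)) * x) * huu
  have hlift : scaleRoots p (f σ) ∈ lifts f.toRingHom := by
    refine (lifts_iff_coeff_lifts _).2 fun i => ?_
    rw [coeff_scaleRoots]
    rcases lt_trichotomy i p.natDegree with h | h | h
    · obtain ⟨k, hk⟩ := Nat.exists_eq_add_of_lt h
      obtain ⟨r, hr⟩ : sn i ∣ σ :=
        Dvd.dvd.mul_left (Finset.dvd_prod_of_mem sn (Finset.mem_range.2 h)) s₁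
      refine ⟨cn i * r * σ ^ k, ?_⟩
      show f _ = _
      rw [show p.natDegree - i = k + 1 by omega, pow_succ', map_mul, map_mul, map_pow, ← hcsn, hr, map_mul]
      ring
    · exact ⟨1, by rw [h, Nat.sub_self, pow_zero, mul_one, hp.coeff_natDegree, map_one]⟩
    · exact ⟨0, by rw [coeff_eq_zero_of_natDegree_lt h, zero_mul, map_zero]⟩
  haveI : Nontrivial C := f.toRingHom.domain_nontrivial
  obtain ⟨q₀, hq₀, -, hq₀m⟩ := lifts_and_natDegree_eq_and_monic hlift ((monic_scaleRoots_iff _).2 hp)
  have hψalg : ψ.toRingHom.comp (algebraMap C (C ⊗[A] FractionRing A)) =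
      (algebraMap E (FractionRing E)).comp f.toRingHom := RingHom.ext hψC
  have hroot : ψ (aeval w q₀) = 0 := by
    show ψ.toRingHom (eval₂ _ w q₀) = 0
    rw [hom_eval₂]
    show eval₂ (ψ.toRingHom.comp (algebraMap C (C ⊗[A] FractionRing A))) (ψ.toRingHom w) q₀ = 0
    rw [hψalg, ← eval₂_map, hq₀, show ψ.toRingHom w = _ from hw, ← aeval_def]
    exact scaleRoots_aeval_eq_zero hpx
  obtain ⟨cz, az, hz⟩ := exists_tmul_eq A C (aeval w q₀)
  have hfcz : f cz = 0 := by
    have h2 := congrArg ψ hz
    rw [map_mul, hroot, mul_zero] at h2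
    refine IsFractionRing.injective E (FractionRing E) ?_
    rw [map_zero, ← hψC]
    exact h2.symm
  obtain ⟨t, ht, htc⟩ := hfker cz hfcz
  have htz : algebraMap C (C ⊗[A] FractionRing A) t * aeval w q₀ = 0 := by
    have hu' : IsUnit (algebraMap A (C ⊗[A] FractionRing A) az) := by
      have h1 := (IsLocalization.map_units (M := A⁰) (FractionRing A) az).map
        (Algebra.TensorProduct.includeRight : FractionRing A →ₐ[A] C ⊗[A] FractionRing A)
      rwa [AlgHom.commutes] at h1
    refine hu'.mul_right_eq_zero.1 ?_
    rw [mul_left_comm, hz]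
    show (t ⊗ₜ[A] (1 : FractionRing A)) * (cz ⊗ₜ 1) = 0
    rw [Algebra.TensorProduct.tmul_mul_tmul, htc, TensorProduct.zero_tmul]
  have hwint : IsIntegral C (algebraMap C (C ⊗[A] FractionRing A) t * w) := by
    refine ⟨scaleRoots (X * q₀) t, (monic_scaleRoots_iff t).2 (monic_X.mul hq₀m), ?_⟩
    rw [scaleRoots_eval₂_mul, monic_X.natDegree_mul hq₀m, natDegree_X, eval₂_mul, eval₂_X,
      pow_add, pow_one, mul_mul_mul_comm, ← aeval_def]
    rw [show algebraMap C (C ⊗[A] FractionRing A) t * w * (algebraMap C _ t ^ q₀.natDegree * aeval w q₀) =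
      w * algebraMap C _ t ^ q₀.natDegree * (algebraMap C _ t * aeval w q₀) by ring, htz, mul_zero]
  obtain ⟨zc, hzc⟩ := (TensorProduct.toIntegralClosure_bijective_of_smooth (R := A) (S := C)
    (B := FractionRing A)).2 ⟨_, hwint⟩
  obtain ⟨v, hv⟩ := IsUnit.exists_right_inv ((hfu t ht).mul (hfu σ hσ))
  have hh : ∀ z : C ⊗[A] integralClosure A (FractionRing A),
      normMap A E (TensorProduct.map LinearMap.id f.toLinearMap (TensorProduct.comm A C _ z)) =
        ψ (Algebra.TensorProduct.map (AlgHom.id C C) (integralClosure A (FractionRing A)).val z) := by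
    intro z
    induction z with
    | zero => simp
    | tmul c a' =>
      rw [TensorProduct.comm_tmul, TensorProduct.map_tmul, normMap_tmul, Algebra.TensorProduct.map_tmul,
        Algebra.TensorProduct.productMap_apply_tmul, mul_comm]
      rfl
    | add x y hx hy => simp only [map_add, hx, hy]
  refine ⟨(1 ⊗ₜ v) * TensorProduct.map LinearMap.id f.toLinearMap (TensorProduct.comm A C _ zc), ?_⟩
  rw [map_mul, hh, show Algebra.TensorProduct.map (AlgHom.id C C) (integralClosure A (FractionRing A)).val zc =
      algebraMap C (C ⊗[A] FractionRing A) t * w from congrArg Subtype.val hzc,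
    map_mul, hψC, hw, normMap_tmul, map_one, one_mul, ← mul_assoc, ← mul_assoc, ← map_mul, ← map_mul,
    show v * f t * f σ = 1 by rw [mul_assoc, mul_comm, hv], map_one, one_mul]

end

section Jacobson

variable {A : Type u} [CommRing A] [IsLocalRing A]

/-- Every prime of an integral algebra over the maximal ideal is maximal and conversely. -/
theorem comap_maximal_of_isIntegral (A' : Type u) [CommRing A'] [Algebra A A'] [Algebra.IsIntegral A A']
    (M : Ideal A') [M.IsMaximal] : M.comap (algebraMap A A') = maximalIdeal A :=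
  IsLocalRing.eq_maximalIdeal (Ideal.isMaximal_comap_of_isIntegral_of_isMaximal M)

theorem map_maximalIdeal_le_jacobson (A' : Type u) [CommRing A'] [Algebra A A'] [Algebra.IsIntegral A A'] :
    (maximalIdeal A).map (algebraMap A A') ≤ Ideal.jacobson (⊥ : Ideal A') := by
  refine le_sInf fun M hM => ?_
  haveI := hM.2
  rw [Ideal.map_le_iff_le_comap, comap_maximal_of_isIntegral A' M]

/-- The base change of a reduced algebra by an essentially étale algebra is reduced. -/
theorem isReduced_tensor_of_essEt {E : Type u} [CommRing E] [Algebra A E]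
    (hE : EGA4loc.IsEssentiallyEtale A E) (B : Type u) [CommRing B] [Algebra A B] [IsReduced B] :
    IsReduced (B ⊗[A] E) := by
  obtain ⟨C, _, _, q, _, hCet, -, ⟨e⟩⟩ := hE
  haveI : IsReduced (B ⊗[A] C) := Groth.L20.isReduced_of_weaklyEtale B (B ⊗[A] C)
  let M' : Submonoid (B ⊗[A] C) := q.primeCompl.map (Algebra.TensorProduct.includeRight (R := A) (A := B))
  let e' : B ⊗[A] Localization.AtPrime q ≃ₐ[B] Localization M' :=
    IsLocalization.tensorProductEquivOfMapIncludeRight A B q.primeCompl (Localization.AtPrime q) _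
  let e'' : B ⊗[A] E ≃ₐ[B] B ⊗[A] Localization.AtPrime q :=
    Algebra.TensorProduct.congr AlgEquiv.refl e
  exact isReduced_of_injective (e''.trans e') (e''.trans e').injective

theorem mem_map_jacobson_of_forall_maximal [Nontrivial A] {E : Type u} [CommRing E] [IsLocalRing E]
    [Algebra A E] [IsLocalHom (algebraMap A E)] (hE : EGA4loc.IsEssentiallyEtale A E)
    (A' : Type u) [CommRing A'] [Algebra A A'] [Algebra.IsIntegral A A'] :
    Ideal.jacobson (⊥ : Ideal (A' ⊗[A] E)) =
      (Ideal.jacobson (⊥ : Ideal A')).map (Algebra.TensorProduct.includeLeft : A' →ₐ[A] A' ⊗[A] E) ⊔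
        (maximalIdeal E).map (Algebra.TensorProduct.includeRight : E →ₐ[A] A' ⊗[A] E) := by
  haveI := formallyEtale_of_essEt hE
  haveI := essFiniteType_of_essEt hE
  have hmE : (maximalIdeal A).map (algebraMap A E) = maximalIdeal E :=
    Algebra.FormallyUnramified.map_maximalIdeal
  let J := Ideal.jacobson (⊥ : Ideal A')
  let IJ : Ideal (A' ⊗[A] E) := J.map (Algebra.TensorProduct.includeLeft : A' →ₐ[A] A' ⊗[A] E)
  have hmE' : (maximalIdeal E).map (Algebra.TensorProduct.includeRight : E →ₐ[A] A' ⊗[A] E) ≤ IJ := by
    rw [← hmE, ← Ideal.map_coe, Ideal.map_map]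
    rw [show (RingHomClass.toRingHom (Algebra.TensorProduct.includeRight : E →ₐ[A] A' ⊗[A] E)).comp
        (algebraMap A E) = (RingHomClass.toRingHom (Algebra.TensorProduct.includeLeft : A' →ₐ[A] A' ⊗[A] E)).comp
        (algebraMap A A') from by
      ext a
      simp [Algebra.TensorProduct.algebraMap_apply, Algebra.algebraMap_eq_smul_one]]
    rw [← Ideal.map_map, Ideal.map_coe]
    exact Ideal.map_mono (map_maximalIdeal_le_jacobson A')
  -- primes containing `IJ` are maximal
  have hmax : ∀ P : Ideal (A' ⊗[A] E), P.IsPrime → IJ ≤ P → P.IsMaximal := by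
    intro P hP hle
    let c := (Algebra.TensorProduct.comm A E A').toRingEquiv
    haveI : (P.comap c.toRingHom).IsPrime := Ideal.IsPrime.comap _
    have h1 : (P.comap c.toRingHom).comap (algebraMap E (E ⊗[A] A')) = maximalIdeal E := by
      haveI : ((P.comap c.toRingHom).comap (algebraMap E (E ⊗[A] A'))).IsPrime := Ideal.IsPrime.comap _
      refine le_antisymm (IsLocalRing.le_maximalIdeal (Ideal.IsPrime.ne_top ‹_›)) fun e he => ?_
      refine hle (hmE' ?_)
      have := Ideal.mem_map_of_mem (Algebra.TensorProduct.includeRight : E →ₐ[A] A' ⊗[A] E) he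
      convert this using 1
      simp [c]
    haveI : (P.comap c.toRingHom).IsMaximal :=
      Ideal.isMaximal_of_isIntegral_of_isMaximal_comap (R := E) _ (h1 ▸ inferInstance)
    rw [← Ideal.map_comap_of_surjective c.toRingHom c.surjective P]
    exact Ideal.IsMaximal.map_bijective c.toRingHom c.bijective this
  refine le_antisymm (le_trans ?_ le_sup_left) (sup_le ?_ ?_)
  · intro x hx
    haveI : IsReduced (A' ⧸ J) := (Ideal.isRadical_iff_quotient_reduced J).1 (Ideal.isRadical_jacobson _)
    haveI := isReduced_tensor_of_essEt hE (A' ⧸ J)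
    let g := Algebra.TensorProduct.map (Ideal.Quotient.mkₐ A J) (AlgHom.id A E)
    have hker : RingHom.ker g = IJ := by
      rw [Algebra.TensorProduct.rTensor_ker _ Ideal.Quotient.mk_surjective]
      show _ = J.map _
      congr 1
      exact Ideal.Quotient.mkₐ_ker A J
    show x ∈ IJ
    rw [← hker]
    have hrad : (RingHom.ker g).IsRadical := fun y ⟨n, hn⟩ => by
      rw [RingHom.mem_ker] at hn ⊢
      rw [map_pow] at hn
      exact IsReduced.eq_zero _ ⟨n, hn⟩
    refine hrad ?_
    rw [Ideal.radical_eq_sInf, Submodule.mem_sInf]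
    intro P hP
    haveI := hmax P hP.2 (hker ▸ hP.1)
    exact (sInf_le ⟨bot_le, this⟩ : Ideal.jacobson ⊥ ≤ P) hx
  · refine le_sInf fun P hP => ?_
    haveI := hP.2
    rw [Ideal.map_le_iff_le_comap]
    haveI : (P.comap (Algebra.TensorProduct.includeLeft : A' →ₐ[A] A' ⊗[A] E)).IsPrime := Ideal.IsPrime.comap _
    refine sInf_le ⟨bot_le, Ideal.isMaximal_of_isIntegral_of_isMaximal_comap (R := A) _ ?_⟩
    let c := (Algebra.TensorProduct.comm A E A').toRingEquiv
    haveI : (P.comap c.toRingHom).IsMaximal := Ideal.comap_isMaximal_of_surjective c.toRingHom c.surjective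
    have h1 : (P.comap c.toRingHom).comap (algebraMap E (E ⊗[A] A')) = maximalIdeal E :=
      IsLocalRing.eq_maximalIdeal (Ideal.isMaximal_comap_of_isIntegral_of_isMaximal _)
    have h2 : (P.comap (Algebra.TensorProduct.includeLeft : A' →ₐ[A] A' ⊗[A] E)).comap (algebraMap A A') =
        maximalIdeal A := by
      rw [← IsLocalRing.maximalIdeal_comap (algebraMap A E), ← h1]
      ext a
      simp [c, Algebra.TensorProduct.algebraMap_apply, Algebra.algebraMap_eq_smul_one,
        Algebra.TensorProduct.one_def, TensorProduct.smul_tmul']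
    rw [h2]
    infer_instance
  · refine le_sInf fun P hP => ?_
    haveI := hP.2
    let c := (Algebra.TensorProduct.comm A E A').toRingEquiv
    haveI : (P.comap c.toRingHom).IsMaximal := Ideal.comap_isMaximal_of_surjective c.toRingHom c.surjective
    have h1 : (P.comap c.toRingHom).comap (algebraMap E (E ⊗[A] A')) = maximalIdeal E :=
      IsLocalRing.eq_maximalIdeal (Ideal.isMaximal_comap_of_isIntegral_of_isMaximal _)
    rw [Ideal.map_le_iff_le_comap, ← h1]
    intro e he
    simpa [c] using he

end Jacobson

end Groth.L05.StrictGalois
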