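import Groth.Agent.L05.StrictGalois.NormFin
import Mathlib.RingTheory.Adjoin.FG
import Mathlib.RingTheory.IntegralClosure.IntegralRestrict

/-!
# Subrings of essentially étale algebras with semilocal normalization
-/

set_option autoImplicit false

open IsLocalRing
open scoped nonZeroDivisors

namespace Groth.L05.StrictGalois

universe u

/-- The inverse of an element, if integral, is a polynomial in it. -/
theorem mem_of_mul_eq_one {D T : Type u} [CommRing D] [CommRing T] [Algebra D T] (W : Subalgebra D T)
    {t v : T} (ht : t ∈ W) (htv : t * v = 1) (hv : IsIntegral D v) : v ∈ W := by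
  obtain ⟨p, hp, hpv⟩ := hv
  rw [← Polynomial.aeval_def, hp.as_sum, map_add, map_sum, map_pow, Polynomial.aeval_X,
    add_eq_zero_iff_eq_neg] at hpv
  rcases Nat.eq_zero_or_pos p.natDegree with h0 | hpos
  · rw [h0, pow_zero, Finset.range_zero, Finset.sum_empty, neg_zero] at hpv
    rw [← mul_one v, hpv, mul_zero]
    exact W.zero_mem
  obtain ⟨k, hk⟩ : ∃ k, p.natDegree = k + 1 := Nat.exists_eq_succ_of_ne_zero (by omega)
  have hv' : v = v ^ p.natDegree * t ^ k := by
    rw [hk, pow_succ', mul_assoc, ← mul_pow, mul_comm v t, htv, one_pow, mul_one]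
  rw [hv', hpv, neg_mul, Finset.sum_mul]
  refine W.neg_mem (W.sum_mem fun i hi => ?_)
  obtain ⟨j, hj⟩ := Nat.exists_eq_add_of_le (show i ≤ k by rw [Finset.mem_range, hk] at hi; omega)
  rw [map_mul, Polynomial.aeval_C, map_pow, Polynomial.aeval_X, hj, pow_add, mul_assoc, ← mul_assoc (v ^ i),
    ← mul_pow, mul_comm v t, htv, one_pow, one_mul]
  exact W.mul_mem (W.algebraMap_mem _) (W.pow_mem ht _)

/-- An element of an adjoined algebra only involves finitely many scalars. -/
theorem exists_finset_mem_adjoin {A D T : Type u} [CommRing A] [CommRing D] [CommRing T] [Algebra A D]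
    [Algebra A T] [Algebra D T] [IsScalarTower A D T] (s : Set T) {x : T} (hx : x ∈ Algebra.adjoin D s) :
    ∃ F : Finset D, x ∈ Algebra.adjoin A (algebraMap D T '' (F : Set D) ∪ s) := by
  classical
  induction hx using Algebra.adjoin_induction with
  | mem z hz => exact ⟨∅, Algebra.subset_adjoin (Or.inr hz)⟩
  | algebraMap d => exact ⟨{d}, Algebra.subset_adjoin (Or.inl ⟨d, by simp, rfl⟩)⟩
  | add u v _ _ hu hv =>
    obtain ⟨F, hF⟩ := hu
    obtain ⟨G, hG⟩ := hv
    exact ⟨F ∪ G, add_mem
      (Algebra.adjoin_mono (Set.union_subset_union_left _ (Set.image_mono (by simp))) hF)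
      (Algebra.adjoin_mono (Set.union_subset_union_left _ (Set.image_mono (by simp))) hG)⟩
  | mul u v _ _ hu hv =>
    obtain ⟨F, hF⟩ := hu
    obtain ⟨G, hG⟩ := hv
    exact ⟨F ∪ G, mul_mem
      (Algebra.adjoin_mono (Set.union_subset_union_left _ (Set.image_mono (by simp))) hF)
      (Algebra.adjoin_mono (Set.union_subset_union_left _ (Set.image_mono (by simp))) hG)⟩

/-- Let `D` be a local `A`-algebra inside a reduced finite algebra `T` over the total ring of
fractions of `A`, with `D' ⊆ E'`, where `D'` is the normalization of `D` inside `L`, and such that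
elements of `D'` become integral after multiplication by integral units of `E'`.  If `D'` is
semilocal and its maximal ideals come from `E'`, then `D` is essentially of finite type. -/
theorem essFiniteType_of_normalization (A D T : Type u) [CommRing A] [IsLocalRing A]
    [IsNoetherianRing A] [CommRing D] [IsLocalRing D] [CommRing T] [IsReduced T] [IsArtinianRing T]
    [Algebra A D] [IsLocalHom (algebraMap A D)] [Algebra A T] [Algebra D T] [IsScalarTower A D T]
    (hDT : Function.Injective (algebraMap D T)) [Module.Finite A (integralClosure A T)]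
    (L D' E' : Subalgebra A T) [IsArtinianRing L] (hle : D' ≤ E')
    (hD' : ∀ x : T, x ∈ D' ↔ IsIntegral D x ∧ x ∈ L) (hDL : ∀ d : D, algebraMap D T d ∈ L)
    (hunit : ∀ x ∈ D', ∃ u v : T, u ∈ E' ∧ v ∈ E' ∧ u * v = 1 ∧ IsIntegral A u ∧ IsIntegral A (u * x))
    (hfin : {N : Ideal D' | N.IsMaximal}.Finite)
    (hsurj : ∀ N : Ideal D', N.IsMaximal →
      ∃ M : Ideal E', M.IsMaximal ∧ M.comap (Subalgebra.inclusion hle) = N) :
    Algebra.EssFiniteType A D := by
  classical
  have hint : ∀ y ∈ L, IsIntegral A y → y ∈ D' := fun y hy hi => (hD' y).2 ⟨hi.tower_top, hy⟩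
  have hden : ∀ x ∈ D', ∀ N : Ideal D', N.IsMaximal → ∃ (t : T) (ht : t ∈ D'),
      IsIntegral A t ∧ (⟨t, ht⟩ : D') ∉ N ∧ IsIntegral A (t * x) := by
    intro x hx N hN
    obtain ⟨M, hM, hMN⟩ := hsurj N hN
    haveI := hM
    obtain ⟨u, v, hu, hv, huv, hui, hux⟩ := hunit x hx
    have huM : (⟨u, hu⟩ : E') ∉ M := fun h => hM.ne_top
      (Ideal.eq_top_of_isUnit_mem _ h ⟨⟨⟨u, hu⟩, ⟨v, hv⟩, Subtype.ext huv,
        Subtype.ext ((mul_comm v u).trans huv)⟩, rfl⟩)
    obtain ⟨t, ht, hti, htM, htx⟩ := exists_mul_isIntegral_notMem L D' E'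
      (fun y hy => ((hD' y).1 hy).2) hle hint M hx hu huM hui hux
    refine ⟨t, ht, hti, fun h => htM ?_, htx⟩
    rw [← hMN] at h
    exact h
  -- the integral elements of `L`
  let B : Subalgebra A T := integralClosure A T ⊓ L
  haveI hBfin : Module.Finite A B :=
    Module.Finite.of_injective (Subalgebra.inclusion (inf_le_left : B ≤ integralClosure A T)).toLinearMap
      (Subalgebra.inclusion_injective inf_le_left)
  haveI : Algebra.IsIntegral A B := Algebra.IsIntegral.of_finite A B
  have hBD : B ≤ D' := fun b hb => hint b hb.2 hb.1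
  obtain ⟨gB, hgB⟩ := hBfin.fg_top
  -- bad maximal ideals of `B` become invertible over finitely many elements of `D`
  have hoverm : ∀ n : Ideal B, n.IsMaximal → n ∈ (maximalIdeal A).primesOver B := fun n hn =>
    ⟨hn.isPrime, ⟨(IsLocalRing.eq_maximalIdeal (Ideal.isMaximal_comap_of_isIntegral_of_isMaximal n)).symm⟩⟩
  let good : Ideal B → Prop := fun n => ∃ N : Ideal D', N.IsMaximal ∧ N.comap (Subalgebra.inclusion hBD) = n
  have hbad : ∀ n : Ideal B, n.IsMaximal → ¬ good n → ∃ (t : B) (F : Finset D) (v : T), t ∈ n ∧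
      (t : T) * v = 1 ∧
      v ∈ Algebra.adjoin A (algebraMap D T '' (F : Set D) ∪ ((gB.image Subtype.val : Finset T) : Set T)) := by
    intro n hn hng
    obtain ⟨t, htn, htN⟩ : ∃ t ∈ n, ∀ N : Ideal D', N.IsMaximal → Subalgebra.inclusion hBD t ∉ N := by
      by_contra hall
      push Not at hall
      have hsub : (n : Set B) ⊆ ⋃ N ∈ {N : Ideal D' | N.IsMaximal},
          ((N.comap (Subalgebra.inclusion hBD) : Ideal B) : Set B) := fun t ht => by
        obtain ⟨N, hN, htN⟩ := hall t ht
        exact Set.mem_iUnion₂.2 ⟨N, hN, htN⟩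
      obtain ⟨N, hN, hle'⟩ := (Ideal.subset_union_prime_finite hfin
        (f := fun N : Ideal D' => N.comap (Subalgebra.inclusion hBD)) ⊥ ⊥
        (fun N hN _ _ => by
          haveI := Ideal.IsMaximal.isPrime hN
          exact Ideal.IsPrime.comap _)).1 hsub
      haveI := Ideal.IsMaximal.isPrime hN
      exact hng ⟨N, hN, (hn.eq_of_le (Ideal.IsPrime.ne_top (Ideal.IsPrime.comap _)) hle').symm⟩
    have hu : IsUnit (Subalgebra.inclusion hBD t) := by
      by_contra h
      obtain ⟨N, hN, hmem⟩ := exists_max_ideal_of_mem_nonunits (mem_nonunits_iff.2 h)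
      exact htN N hN hmem
    obtain ⟨v, hv⟩ := hu.exists_right_inv
    have hv' : (t : T) * (v : T) = 1 := congrArg Subtype.val hv
    have ht' : (t : T) ∈ Algebra.adjoin D ((gB.image Subtype.val : Finset T) : Set T) := by
      have : t ∈ Submodule.span A (gB : Set B) := by rw [hgB]; trivial
      have h2 := Submodule.mem_map_of_mem (f := B.val.toLinearMap) this
      rw [Submodule.map_span] at h2
      have h3 : Submodule.span A (B.val.toLinearMap '' (gB : Set B)) ≤
          Subalgebra.toSubmodule ((Algebra.adjoin D ((gB.image Subtype.val : Finset T) : Set T)).restrictScalars A) := by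
        rw [Submodule.span_le, Finset.coe_image]
        exact Algebra.subset_adjoin
      exact h3 h2
    obtain ⟨F, hF⟩ := exists_finset_mem_adjoin (A := A) _
      (mem_of_mul_eq_one _ ht' hv' ((hD' _).1 v.2).1)
    exact ⟨t, F, v, htn, hv', hF⟩
  choose! tb Fb vb htn htv hvb using hbad
  haveI : Algebra.QuasiFinite A B := inferInstance
  let ms := (Algebra.QuasiFinite.finite_primesOver (S := B) (maximalIdeal A)).toFinset
  let F : Finset D := ms.biUnion Fb
  let R₀ : Subalgebra A D := Algebra.adjoin A (F : Set D)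
  let p₀ : Ideal R₀ := (maximalIdeal D).comap (algebraMap R₀ D)
  haveI : p₀.IsPrime := Ideal.IsPrime.comap _
  let R := Localization.AtPrime p₀
  let ρ : R →+* D := IsLocalization.lift (M := p₀.primeCompl) (g := algebraMap R₀ D)
    fun y => IsLocalRing.notMem_maximalIdeal.1 y.2
  letI : Algebra R D := ρ.toAlgebra
  have hρ : ∀ r : R₀, algebraMap R D (algebraMap R₀ R r) = (r : D) := fun r =>
    IsLocalization.lift_eq (M := p₀.primeCompl) _ r
  haveI : IsScalarTower A R D := .of_algebraMap_eq fun a => by
    rw [IsScalarTower.algebraMap_apply A R₀ R, hρ]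
    rfl
  haveI : Algebra.FiniteType A R₀ :=
    (Subalgebra.fg_iff_finiteType R₀).1 (Subalgebra.fg_adjoin_finset F)
  haveI : Algebra.EssFiniteType R₀ R := Algebra.EssFiniteType.of_isLocalization R p₀.primeCompl
  haveI : Algebra.EssFiniteType A R := Algebra.EssFiniteType.comp A R₀ R
  haveI : IsNoetherianRing R := Algebra.EssFiniteType.isNoetherianRing A R
  letI : Algebra R T := ((algebraMap D T).comp (algebraMap R D)).toAlgebra
  haveI : IsScalarTower R D T := .of_algebraMap_eq fun _ => rfl
  haveI : IsScalarTower A R T := .of_algebraMap_eq fun a => by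
    rw [IsScalarTower.algebraMap_apply R D T, ← IsScalarTower.algebraMap_apply A R D,
      ← IsScalarTower.algebraMap_apply A D T]
  let R' : Subalgebra R T := Algebra.adjoin R ((gB.image Subtype.val : Finset T) : Set T)
  haveI hR'fin : Module.Finite R R' := Module.Finite.iff_fg.2
    (fg_adjoin_of_finite (Finset.finite_toSet _) fun z hz => by
      obtain ⟨b, -, rfl⟩ := Finset.mem_image.1 hz
      exact ((Algebra.IsIntegral.isIntegral (R := A) b).map B.val).tower_top)
  haveI : Algebra.IsIntegral R R' := Algebra.IsIntegral.of_finite R R'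
  have hBR : ∀ b : B, (b : T) ∈ R' := by
    intro b
    have : b ∈ Submodule.span A (gB : Set B) := by rw [hgB]; trivial
    have h2 := Submodule.mem_map_of_mem (f := B.val.toLinearMap) this
    rw [Submodule.map_span] at h2
    have h3 : Submodule.span A (B.val.toLinearMap '' (gB : Set B)) ≤
        Subalgebra.toSubmodule (R'.restrictScalars A) := by
      rw [Submodule.span_le]
      show _ ⊆ ((R' : Set T))
      exact fun z hz => Algebra.subset_adjoin (by rw [Finset.coe_image]; exact hz)
    exact h3 h2
  have hDR : ∀ x ∈ D', x ∈ R' := by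
    intro x hx
    let I : Ideal R' :=
      { carrier := {r | (r : T) * x ∈ R'}
        add_mem' := fun {a b} ha hb => by
          simp only [Set.mem_setOf_eq, Subalgebra.coe_add, add_mul] at ha hb ⊢
          exact add_mem ha hb
        zero_mem' := by simp
        smul_mem' := fun c r hr => by
          simp only [Set.mem_setOf_eq, smul_eq_mul, Subalgebra.coe_mul, mul_assoc] at hr ⊢
          exact mul_mem c.2 hr }
    suffices hI : I = ⊤ by
      have : (1 : R') ∈ I := hI ▸ Submodule.mem_top
      simpa [I] using this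
    by_contra hI
    obtain ⟨Q, hQ, hIQ⟩ := Ideal.exists_le_maximal I hI
    let j : B →ₐ[A] R'.restrictScalars A := (B.val).codRestrict _ hBR
    let jR : B →+* R' := j.toRingHom
    let n : Ideal B := Q.comap jR
    haveI hQR : (Q.comap (algebraMap R R')).IsMaximal :=
      Ideal.isMaximal_comap_of_isIntegral_of_isMaximal (R := R) (S := R') Q
    haveI : n.IsPrime := Ideal.IsPrime.comap _
    have hn : n.comap (algebraMap A B) = maximalIdeal A := by
      haveI : IsLocalHom (algebraMap A R) := ⟨fun a ha => by
        have := ha.map (algebraMap R D)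
        rw [← IsScalarTower.algebraMap_apply] at this
        exact IsLocalHom.map_nonunit (f := algebraMap A D) a this⟩
      rw [← IsLocalRing.maximalIdeal_comap (algebraMap A R), ← IsLocalRing.eq_maximalIdeal hQR]
      show (Q.comap jR).comap (algebraMap A B) = _
      rw [Ideal.comap_comap, Ideal.comap_comap]
      refine congrArg (fun f : A →+* R' => Q.comap f) (RingHom.ext fun a => Subtype.ext ?_)
      show ((j (algebraMap A B a) : R'.restrictScalars A) : T) = algebraMap R T (algebraMap A R a)
      rw [AlgHom.commutes, ← IsScalarTower.algebraMap_apply A R T]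
      rfl
    haveI hnmax : n.IsMaximal := Ideal.isMaximal_of_isIntegral_of_isMaximal_comap (R := A) n
      (hn ▸ inferInstance)
    by_cases hg : good n
    · obtain ⟨N, hN, hNn⟩ := hg
      obtain ⟨t, ht, hti, htN, htx⟩ := hden x hx N hN
      have htB : t ∈ B := ⟨hti, ((hD' t).1 ht).2⟩
      have htxB : t * x ∈ B := ⟨htx, L.mul_mem ((hD' t).1 ht).2 ((hD' x).1 hx).2⟩
      have h1 : (j ⟨t, htB⟩ : R') ∈ I := hBR ⟨_, htxB⟩
      have h2 : (⟨t, htB⟩ : B) ∈ n := hIQ h1
      rw [← hNn] at h2
      exact htN h2
    · have hnm : n ∈ ms := (Algebra.QuasiFinite.finite_primesOver (S := B) (maximalIdeal A)).mem_toFinset.2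
        (hoverm n hnmax)
      have hv : vb n ∈ R' := by
        refine (Algebra.adjoin_le ?_ : _ ≤ R'.restrictScalars A) (hvb n hnmax hg)
        rintro z (⟨d, hd, rfl⟩ | hz)
        · have hdF : d ∈ R₀ := Algebra.subset_adjoin (Finset.mem_coe.2 (Finset.mem_biUnion.2 ⟨n, hnm, hd⟩))
          show algebraMap D T d ∈ R'
          rw [show d = algebraMap R D (algebraMap R₀ R ⟨d, hdF⟩) from (hρ ⟨d, hdF⟩).symm,
            ← IsScalarTower.algebraMap_apply]
          exact R'.algebraMap_mem _
        · exact Algebra.subset_adjoin hz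
      refine hQ.ne_top (Ideal.eq_top_of_isUnit_mem _ (htn n hnmax hg : j (tb n) ∈ Q) ?_)
      refine IsUnit.of_mul_eq_one (⟨vb n, hv⟩ : R') (Subtype.ext ?_)
      exact htv n hnmax hg
  let k : D →ₗ[R] R' :=
    { toFun := fun d => ⟨algebraMap D T d,
        hDR _ ((hD' _).2 ⟨isIntegral_algebraMap, hDL d⟩)⟩
      map_add' := fun a b => Subtype.ext (map_add _ a b)
      map_smul' := fun r d => Subtype.ext (by
        show algebraMap D T (r • d) = r • algebraMap D T d
        rw [Algebra.smul_def, map_mul, ← IsScalarTower.algebraMap_apply, Algebra.smul_def]) }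
  haveI : IsNoetherian R R' := isNoetherian_of_isNoetherianRing_of_finite R R'
  haveI : Module.Finite R D :=
    Module.Finite.of_injective k fun a b h => hDT (congrArg Subtype.val h)
  exact Algebra.EssFiniteType.comp A R D

end Groth.L05.StrictGalois
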