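import Groth.Agent.L05.StrictGalois.NormDescend
import Groth.Agent.L20.WeaklyEtale

/-!
# Subrings of an essentially étale algebra with semilocal normalization
-/

set_option autoImplicit false

open IsLocalRing
open scoped nonZeroDivisors

namespace Groth.L05.StrictGalois

universe u

theorem isReduced_of_essEt {A E : Type u} [CommRing A] [IsLocalRing A] [IsReduced A] [CommRing E]
    [Algebra A E] (hE : EGA4loc.IsEssentiallyEtale A E) : IsReduced E := by
  obtain ⟨C, _, _, q, _, hCet, -, ⟨e⟩⟩ := hE
  haveI : IsReduced C := Groth.L20.isReduced_of_weaklyEtale A C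
  haveI : IsReduced (Localization.AtPrime q) := inferInstance
  exact isReduced_of_injective e e.injective

section

variable (A E : Type u) [CommRing A] [CommRing E] [Algebra A E] [Module.Flat A E]

/-- The action of the total ring of fractions of `A` on that of a flat algebra. -/
@[implicit_reducible]
noncomputable def fracAlgebra : Algebra (FractionRing A) (FractionRing E) :=
  (IsLocalization.map (M := A⁰) (T := E⁰) (FractionRing E) (algebraMap A E)
    (fun a ha => algebraMapSubmonoid_le A E ⟨a, ha, rfl⟩)).toAlgebra

theorem fracTower : letI := fracAlgebra A E; IsScalarTower A (FractionRing A) (FractionRing E) := by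
  letI := fracAlgebra A E
  refine .of_algebraMap_eq fun a => ?_
  rw [IsScalarTower.algebraMap_apply A E (FractionRing E)]
  exact (IsLocalization.map_eq (M := A⁰) (T := E⁰)
    (fun a ha => algebraMapSubmonoid_le A E ⟨a, ha, rfl⟩) a).symm

theorem isUnit_algebraMap_frac {a : A} (ha : a ∈ A⁰) :
    IsUnit (algebraMap A (FractionRing E) a) := by
  rw [IsScalarTower.algebraMap_apply A E (FractionRing E)]
  exact IsLocalization.map_units (M := E⁰) (FractionRing E) ⟨_, algebraMapSubmonoid_le A E ⟨a, ha, rfl⟩⟩

end

/-- The total ring of fractions of an essentially étale algebra is finite over that of the base. -/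
theorem finite_frac {A E : Type u} [CommRing A] [IsLocalRing A] [IsReduced A]
    (hmin : (minimalPrimes A).Finite) [CommRing E] [Algebra A E] [Module.Flat A E]
    (hE : EGA4loc.IsEssentiallyEtale A E) :
    letI := fracAlgebra A E
    Module.Finite (FractionRing A) (FractionRing E) := by
  classical
  letI := fracAlgebra A E
  haveI := fracTower A E
  obtain ⟨t, ht⟩ := exists_finset_smul_mem_span hmin hE
  refine ⟨⟨t.image (algebraMap E (FractionRing E)), eq_top_iff.2 fun z _ => ?_⟩⟩
  set W : Submodule (FractionRing A) (FractionRing E) :=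
    Submodule.span (FractionRing A) ((t.image (algebraMap E (FractionRing E)) : Finset _) : Set (FractionRing E))
  have hE' : ∀ c : E, algebraMap E (FractionRing E) c ∈ W := by
    intro c
    obtain ⟨a, ha, hc⟩ := ht c
    have h1 : (IsScalarTower.toAlgHom A E (FractionRing E)).toLinearMap (a • c) ∈ W.restrictScalars A := by
      have h2 := Submodule.mem_map_of_mem (f := (IsScalarTower.toAlgHom A E (FractionRing E)).toLinearMap) hc
      rw [Submodule.map_span] at h2
      refine (Submodule.span_le.2 ?_ : _ ≤ W.restrictScalars A) h2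
      rintro _ ⟨x, hx, rfl⟩
      exact Submodule.subset_span (Finset.mem_coe.2 (Finset.mem_image_of_mem _ hx))
    obtain ⟨u, hu⟩ := IsUnit.exists_left_inv (IsLocalization.map_units (M := A⁰) (FractionRing A) ⟨a, ha⟩)
    rw [map_smul] at h1
    have h3 := W.smul_mem u h1
    rw [← IsScalarTower.algebraMap_smul (FractionRing A) a, ← mul_smul, hu, one_smul] at h3
    exact h3
  obtain ⟨c, ⟨s, hs⟩, rfl⟩ := IsLocalization.exists_mk'_eq E⁰ z
  obtain ⟨y, a, ha, h⟩ := exists_mul_eq_algebraMap hmin hE ⊤ (d := ⟨s, trivial⟩)
    (mem_nonZeroDivisors_iff_right.2 fun w hw => Subtype.ext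
      (mem_nonZeroDivisors_iff_right.1 hs _ (congrArg Subtype.val hw : (w : E) * s = 0)))
  have hsy : s * (y : E) = algebraMap A E a := congrArg Subtype.val h
  obtain ⟨u, hu⟩ := IsUnit.exists_left_inv (IsLocalization.map_units (M := A⁰) (FractionRing A) ⟨a, ha⟩)
  have heq : IsLocalization.mk' (FractionRing E) c ⟨s, hs⟩ =
      u • algebraMap E (FractionRing E) (c * y) := by
    rw [IsLocalization.mk'_eq_iff_eq_mul, Algebra.smul_def, mul_assoc, ← map_mul (algebraMap E _),
      mul_assoc c, mul_comm (y : E), hsy, map_mul, ← IsScalarTower.algebraMap_apply A E (FractionRing E),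
      IsScalarTower.algebraMap_apply A (FractionRing A) (FractionRing E), mul_left_comm, ← map_mul,
      hu, map_one, mul_one]
  rw [heq]
  exact W.smul_mem u (hE' _)

open Groth.L05.StrictGalois in
theorem essFiniteType_of_semilocal_normalization
    (A E : Type u) [CommRing A] [IsLocalRing A] [IsReduced A] [IsNoetherianRing A] (hN : CAlg.IsNagata A)
    [CommRing E] [IsLocalRing E] [Algebra A E] [IsLocalHom (algebraMap A E)]
    (hE : EGA4loc.IsEssentiallyEtale A E)
    (D : Subalgebra A E) [IsLocalRing D] [IsLocalHom (algebraMap D E)]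
    (D' : Subalgebra A (FractionRing E))
    (hD' : ∀ x : (FractionRing E), x ∈ D' ↔ (IsIntegral D x ∧
      ∃ a ∈ nonZeroDivisors A, ∃ d ∈ D, algebraMap A (FractionRing E) a * x = algebraMap E (FractionRing E) d))
    (hle : D' ≤ ((integralClosure E (FractionRing E)).restrictScalars A))
    (hfin : {N : Ideal D' | N.IsMaximal}.Finite)
    (hsurj : ∀ N : Ideal D', N.IsMaximal →
      ∃ M : Ideal ((integralClosure E (FractionRing E)).restrictScalars A), M.IsMaximal ∧ M.comap (Subalgebra.inclusion hle) = N) :
    Algebra.EssFiniteType A D := by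
  haveI := flat_of_essEt hE
  haveI := isReduced_of_essEt hE
  have hmin : (minimalPrimes A).Finite := Ideal.finite_minimalPrimes_of_isNoetherianRing A ⊥
  letI := fracAlgebra A E
  haveI := fracTower A E
  haveI := finite_frac hmin hE
  haveI := isArtinianRing_fractionRing_of_finite A hmin
  haveI : IsArtinianRing (FractionRing E) := IsArtinianRing.of_finite (FractionRing A) _
  haveI := finite_integralClosure_of_finite A hN (FractionRing E)
  haveI : IsLocalHom (algebraMap A D) := ⟨fun a ha => by
    have := ha.map (algebraMap D E)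
    rw [← IsScalarTower.algebraMap_apply] at this
    exact IsLocalHom.map_nonunit (f := algebraMap A E) a this⟩
  let L : Subalgebra A (FractionRing E) :=
    { carrier := {x | ∃ a ∈ A⁰, ∃ d ∈ D, algebraMap A (FractionRing E) a * x = algebraMap E (FractionRing E) d}
      mul_mem' := by
        rintro x y ⟨a, ha, d, hd, h⟩ ⟨b, hb, d', hd', h'⟩
        refine ⟨a * b, mul_mem ha hb, d * d', mul_mem hd hd', ?_⟩
        rw [map_mul, map_mul, ← h, ← h']
        ring
      add_mem' := by
        rintro x y ⟨a, ha, d, hd, h⟩ ⟨b, hb, d', hd', h'⟩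
        refine ⟨a * b, mul_mem ha hb, algebraMap A E b * d + algebraMap A E a * d',
          add_mem (mul_mem (D.algebraMap_mem b) hd) (mul_mem (D.algebraMap_mem a) hd'), ?_⟩
        rw [map_mul, map_add, map_mul, map_mul, ← h, ← h', ← IsScalarTower.algebraMap_apply,
          ← IsScalarTower.algebraMap_apply]
        ring
      algebraMap_mem' := fun r => ⟨1, one_mem _, algebraMap A E r, D.algebraMap_mem r, by
        rw [map_one, one_mul, ← IsScalarTower.algebraMap_apply]⟩ }
  let LK : Subalgebra (FractionRing A) (FractionRing E) :=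
    { L.toSubsemiring with
      algebraMap_mem' := fun l => by
        obtain ⟨b, s, rfl⟩ := IsLocalization.exists_mk'_eq A⁰ l
        refine ⟨s, s.2, algebraMap A E b, D.algebraMap_mem b, ?_⟩
        rw [IsScalarTower.algebraMap_apply A (FractionRing A) (FractionRing E), ← map_mul, mul_comm,
          IsLocalization.mk'_spec, ← IsScalarTower.algebraMap_apply, ← IsScalarTower.algebraMap_apply] }
  haveI : Module.Finite (FractionRing A) LK :=
    haveI : IsNoetherian (FractionRing A) (FractionRing E) :=
      isNoetherian_of_isNoetherianRing_of_finite (FractionRing A) (FractionRing E)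
    Module.Finite.of_injective LK.val.toLinearMap Subtype.val_injective
  haveI : IsArtinianRing LK := IsArtinianRing.of_finite (FractionRing A) LK
  haveI : IsArtinianRing L :=
    RingEquiv.isArtinianRing (({ Equiv.refl _ with map_mul' := fun _ _ => rfl, map_add' := fun _ _ => rfl }) : LK ≃+* L)
  refine essFiniteType_of_normalization A D (FractionRing E)
    (fun x y h => Subtype.ext (IsFractionRing.injective E (FractionRing E) h)) L D'
    ((integralClosure E (FractionRing E)).restrictScalars A) hle hD'
    (fun d => ⟨1, one_mem _, d, d.2, by rw [map_one, one_mul]; rfl⟩) ?_ hfin hsurj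
  intro x hx
  have hxE : IsIntegral E x := hle hx
  obtain ⟨s, hs, hsi, hsx⟩ := exists_isUnit_isIntegral_mul hE hxE
  obtain ⟨v, hv⟩ := hs.exists_right_inv
  exact ⟨algebraMap E _ s, algebraMap E _ v, isIntegral_algebraMap, isIntegral_algebraMap,
    by rw [← map_mul, hv, map_one], hsi.map (IsScalarTower.toAlgHom A E (FractionRing E)), hsx⟩

end Groth.L05.StrictGalois
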