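import Groth.Agent.L05.StrictGalois.Frac
import Mathlib.RingTheory.Etale.StandardEtale
import Mathlib.RingTheory.Unramified.LocalStructure
import Mathlib.RingTheory.Filtration

/-!
# Standard étale presentations over Noetherian intermediate rings
-/

set_option autoImplicit false

open IsLocalRing

namespace Groth.L05.StrictGalois

universe u

/-- An unramified local algebra essentially of finite type is a local quotient of a standard étale
algebra. -/
theorem exists_stdEtale_surjection (D E : Type u) [CommRing D] [IsLocalRing D] [CommRing E]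
    [IsLocalRing E] [Algebra D E] [Algebra.EssFiniteType D E] [Algebra.FormallyUnramified D E] :
    ∃ (P : StandardEtalePair D) (ψ : P.Ring →ₐ[D] E),
      ∀ e : E, ∃ y s : P.Ring, IsUnit (ψ s) ∧ e * ψ s = ψ y := by
  classical
  let C := Algebra.EssFiniteType.subalgebra D E
  let q : Ideal C := (maximalIdeal E).comap (algebraMap C E)
  haveI : q.IsPrime := Ideal.IsPrime.comap _
  have hM : Algebra.EssFiniteType.submonoid D E = q.primeCompl := by
    refine Submonoid.ext fun x => ?_
    show IsUnit (algebraMap C E x) ↔ ¬ algebraMap C E x ∈ maximalIdeal E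
    exact IsLocalRing.notMem_maximalIdeal.symm
  haveI : IsLocalization.AtPrime E q := by
    have h : IsLocalization (Algebra.EssFiniteType.submonoid D E) E := inferInstance
    rw [hM] at h
    exact h
  let eE : Localization.AtPrime q ≃ₐ[C] E := IsLocalization.algEquiv q.primeCompl _ _
  haveI : Algebra.IsUnramifiedAt D q :=
    Algebra.FormallyUnramified.of_equiv (eE.restrictScalars D).symm
  obtain ⟨f, hfq, P, φ, hφ⟩ := Algebra.IsUnramifiedAt.exists_hasStandardEtaleSurjectionOn (R := D) q
  have hfu : IsUnit (algebraMap C E f) := IsLocalRing.notMem_maximalIdeal.1 hfq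
  let lf : Localization.Away f →ₐ[D] E :=
    IsLocalization.liftAlgHom (M := Submonoid.powers f) (f := IsScalarTower.toAlgHom D C E)
      (by rintro ⟨_, n, rfl⟩; simpa using hfu.pow n)
  have hlf : ∀ c : C, lf (algebraMap C _ c) = algebraMap C E c := fun c =>
    IsLocalization.lift_eq (M := Submonoid.powers f) _ c
  refine ⟨P, lf.comp φ, fun e => ?_⟩
  obtain ⟨c, s, rfl⟩ := IsLocalization.exists_mk'_eq q.primeCompl e
  obtain ⟨yc, hyc⟩ := hφ (algebraMap C _ c)
  obtain ⟨ys, hys⟩ := hφ (algebraMap C _ (s : C))
  have hc : lf (φ yc) = algebraMap C E c := (congrArg lf hyc).trans (hlf c)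
  have hs : lf (φ ys) = algebraMap C E s := (congrArg lf hys).trans (hlf _)
  refine ⟨yc, ys, ?_, ?_⟩
  · show IsUnit (lf (φ ys))
    rw [hs]
    exact IsLocalization.map_units E s
  · show IsLocalization.mk' E c s * lf (φ ys) = lf (φ yc)
    rw [hs, hc, IsLocalization.mk'_spec]

/-- If `A → D → E` are local maps with `E` essentially étale over `A`, `D` Noetherian and the
maximal ideal of `D` extended from `A`, then `E` is, near its closed point, standard étale over
`D`. -/
theorem exists_stdEtale_presentation (A D E : Type u) [CommRing A] [IsLocalRing A] [CommRing D]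
    [IsLocalRing D] [IsNoetherianRing D] [CommRing E] [IsLocalRing E] [Algebra A D] [Algebra A E]
    [Algebra D E] [IsScalarTower A D E] [IsLocalHom (algebraMap D E)]
    [Algebra.EssFiniteType A E] [Algebra.FormallyEtale A E]
    (hm : Ideal.map (algebraMap A D) (maximalIdeal A) = maximalIdeal D) :
    ∃ (P : StandardEtalePair D) (ψ : P.Ring →ₐ[D] E) (t : P.Ring), IsUnit (ψ t) ∧
      (∀ e : E, ∃ y s : P.Ring, IsUnit (ψ s) ∧ e * ψ s = ψ y) ∧
      ∀ z : P.Ring, ψ z = 0 → t * z = 0 := by
  classical
  haveI : Algebra.EssFiniteType D E := Algebra.EssFiniteType.of_comp A D E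
  haveI : Algebra.FormallyUnramified D E := Algebra.FormallyUnramified.of_restrictScalars A D E
  obtain ⟨P, ψ, hψ⟩ := exists_stdEtale_surjection D E
  letI : Algebra A P.Ring := ((algebraMap D P.Ring).comp (algebraMap A D)).toAlgebra
  haveI : IsScalarTower A D P.Ring := .of_algebraMap_eq fun _ => rfl
  let qP : Ideal P.Ring := (maximalIdeal E).comap ψ.toRingHom
  haveI : qP.IsPrime := Ideal.IsPrime.comap _
  let B := Localization.AtPrime qP
  let π : B →ₐ[D] E := IsLocalization.liftAlgHom (M := qP.primeCompl) (f := ψ)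
    (fun y => IsLocalRing.notMem_maximalIdeal.1 y.2)
  have hπ : ∀ y : P.Ring, π (algebraMap P.Ring B y) = ψ y := fun y =>
    IsLocalization.lift_eq (M := qP.primeCompl) _ y
  have hsurj : Function.Surjective π := by
    intro e
    obtain ⟨y, s, hs, h⟩ := hψ e
    refine ⟨IsLocalization.mk' B y (⟨s, IsLocalRing.notMem_maximalIdeal.2 hs⟩ : qP.primeCompl), ?_⟩
    refine hs.mul_left_inj.1 ?_
    rw [h, ← hπ s, ← map_mul, IsLocalization.mk'_spec, hπ]
  haveI : Algebra.Etale D P.Ring := inferInstance
  haveI : IsNoetherianRing P.Ring := Algebra.FiniteType.isNoetherianRing D P.Ring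
  haveI : IsNoetherianRing B := IsLocalization.isNoetherianRing qP.primeCompl _ inferInstance
  haveI : Algebra.FormallyUnramified P.Ring B :=
    Algebra.FormallyUnramified.of_isLocalization qP.primeCompl
  haveI : Algebra.FormallyUnramified D B := Algebra.FormallyUnramified.comp D P.Ring B
  haveI : Algebra.EssFiniteType P.Ring B := Algebra.EssFiniteType.of_isLocalization B qP.primeCompl
  haveI : Algebra.EssFiniteType D B := Algebra.EssFiniteType.comp D P.Ring B
  have hπm : (maximalIdeal E).comap π.toRingHom = maximalIdeal B := by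
    haveI := Ideal.IsPrime.comap (f := π.toRingHom) (K := maximalIdeal E)
    exact IsLocalRing.eq_maximalIdeal
      (Ideal.comap_isMaximal_of_surjective π.toRingHom hsurj (K := maximalIdeal E))
  haveI : IsLocalHom (algebraMap D B) := by
    refine ((IsLocalRing.local_hom_TFAE (algebraMap D B)).out 0 2 rfl rfl).mpr ?_
    rw [← hπm, Ideal.map_le_iff_le_comap, Ideal.comap_comap, AlgHom.toRingHom_eq_coe, π.comp_algebraMap]
    exact (IsLocalRing.maximalIdeal_comap (algebraMap D E)).ge
  have hmB : (maximalIdeal A).map (algebraMap A B) = maximalIdeal B := by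
    rw [IsScalarTower.algebraMap_eq A D B, ← Ideal.map_map, hm,
      Algebra.FormallyUnramified.map_maximalIdeal]
  let πA : B →ₐ[A] E := π.restrictScalars A
  have hinj : Function.Injective π := by
    refine (injective_iff_map_eq_zero π).2 fun z hz => ?_
    have hmem : ∀ n : ℕ, z ∈ maximalIdeal B ^ n := by
      intro n
      rcases Nat.eq_zero_or_pos n with rfl | hn
      · simp
      let Q := B ⧸ maximalIdeal B ^ n
      let g : Q →ₐ[A] E ⧸ maximalIdeal E := Ideal.Quotient.liftₐ _
        ((Ideal.Quotient.mkₐ A (maximalIdeal E)).comp πA) fun b hb => by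
          refine Ideal.Quotient.eq_zero_iff_mem.2 ?_
          show b ∈ (maximalIdeal E).comap π.toRingHom
          rw [hπm]
          exact Ideal.pow_le_self hn.ne' hb
      have hg : Function.Surjective g := by
        intro e
        obtain ⟨e, rfl⟩ := Ideal.Quotient.mk_surjective e
        obtain ⟨b, rfl⟩ := hsurj e
        exact ⟨Ideal.Quotient.mk _ b, rfl⟩
      have hgk : IsNilpotent (RingHom.ker (g : Q →+* E ⧸ maximalIdeal E)) := by
        refine ⟨n, le_bot_iff.1 ?_⟩
        have hle : RingHom.ker (g : Q →+* E ⧸ maximalIdeal E) ≤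
            (maximalIdeal B).map (Ideal.Quotient.mk (maximalIdeal B ^ n)) := by
          intro q hq
          obtain ⟨b, rfl⟩ := Ideal.Quotient.mk_surjective q
          refine Ideal.mem_map_of_mem _ ?_
          rw [← hπm]
          show π b ∈ maximalIdeal E
          exact (Ideal.Quotient.eq_zero_iff_mem (I := maximalIdeal E)).1 hq
        refine (Ideal.pow_right_mono hle n).trans ?_
        rw [← Ideal.map_pow, Ideal.map_quotient_self]
      let σ : E →ₐ[A] Q :=
        Algebra.FormallySmooth.liftOfSurjective (Ideal.Quotient.mkₐ A (maximalIdeal E)) g hg hgk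
      have hσ : ∀ e, g (σ e) = Ideal.Quotient.mk _ e := fun e =>
        Algebra.FormallySmooth.liftOfSurjective_apply _ g hg hgk e
      let πn : Q →ₐ[A] E ⧸ maximalIdeal E ^ n := Ideal.Quotient.liftₐ _
        ((Ideal.Quotient.mkₐ A (maximalIdeal E ^ n)).comp πA) fun b hb => by
          refine Ideal.Quotient.eq_zero_iff_mem.2 ?_
          have h1 : π b ∈ (maximalIdeal B ^ n).map π.toRingHom := Ideal.mem_map_of_mem π.toRingHom hb
          rw [Ideal.map_pow] at h1
          refine Ideal.pow_right_mono ?_ n h1
          exact Ideal.map_le_iff_le_comap.2 hπm.ge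
      have hσn : πn.comp σ = Ideal.Quotient.mkₐ A (maximalIdeal E ^ n) := by
        refine Algebra.FormallyUnramified.ext'
          (Ideal.Quotient.factor (Ideal.pow_le_self hn.ne') : E ⧸ maximalIdeal E ^ n →+* E ⧸ maximalIdeal E)
          ⟨n, le_bot_iff.1 ?_⟩ _ _ fun e => ?_
        · rw [Ideal.Quotient.factor_ker, ← Ideal.map_pow, Ideal.map_quotient_self]
        · obtain ⟨b, hb⟩ := Ideal.Quotient.mk_surjective (σ e)
          show Ideal.Quotient.factor _ (πn (σ e)) = Ideal.Quotient.factor _ (Ideal.Quotient.mk _ e)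
          rw [Ideal.Quotient.factor_mk, ← hσ e, ← hb]
          rfl
      -- `σ` is surjective
      have hQm : (maximalIdeal A • ⊤ : Submodule A Q) =
          ((maximalIdeal B).map (Ideal.Quotient.mk (maximalIdeal B ^ n))).restrictScalars A := by
        rw [Ideal.smul_top_eq_map,
          show algebraMap A Q = (Ideal.Quotient.mk (maximalIdeal B ^ n)).comp (algebraMap A B) from rfl,
          ← Ideal.map_map, hmB]
      let R : Submodule A Q := LinearMap.range σ.toLinearMap
      have hR : ∀ k : ℕ, ⊤ ≤ R ⊔ maximalIdeal A ^ k • (⊤ : Submodule A Q) := by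
        intro k
        induction k with
        | zero => rw [pow_zero, Ideal.one_eq_top, Submodule.top_smul]; exact le_sup_right
        | succ k ih =>
          have h1 : (⊤ : Submodule A Q) ≤ R ⊔ maximalIdeal A • ⊤ := by
            intro q _
            obtain ⟨b, rfl⟩ := Ideal.Quotient.mk_surjective q
            obtain ⟨b', hb'⟩ := Ideal.Quotient.mk_surjective (σ (π b))
            refine Submodule.mem_sup.2 ⟨σ (π b), ⟨π b, rfl⟩, Ideal.Quotient.mk _ b - σ (π b), ?_, by abel⟩
            rw [hQm, Submodule.restrictScalars_mem, ← hb', ← map_sub]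
            refine Ideal.mem_map_of_mem _ ?_
            rw [← hπm]
            show π (b - b') ∈ maximalIdeal E
            refine (Ideal.Quotient.eq_zero_iff_mem (I := maximalIdeal E)).1 ?_
            show g (Ideal.Quotient.mk _ (b - b')) = 0
            rw [map_sub, map_sub, hb', hσ, sub_eq_zero]
            rfl
          refine h1.trans (sup_le le_sup_left ?_)
          refine (Submodule.smul_mono le_rfl ih).trans ?_
          rw [Submodule.smul_sup, ← mul_smul, ← pow_succ']
          exact sup_le_sup_right Submodule.smul_le_right _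
      have hbot : maximalIdeal A ^ n • (⊤ : Submodule A Q) = ⊥ := by
        rw [Ideal.smul_top_eq_map, Submodule.restrictScalars_eq_bot_iff, Ideal.map_pow,
          show algebraMap A Q = (Ideal.Quotient.mk (maximalIdeal B ^ n)).comp (algebraMap A B) from rfl,
          ← Ideal.map_map, hmB, ← Ideal.map_pow, Ideal.map_quotient_self]
      obtain ⟨e, he⟩ : Ideal.Quotient.mk (maximalIdeal B ^ n) z ∈ R := by
        have := hR n (Submodule.mem_top (x := Ideal.Quotient.mk (maximalIdeal B ^ n) z))
        rwa [hbot, sup_bot_eq] at this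
      have he0 : e ∈ maximalIdeal E ^ n := by
        refine Ideal.Quotient.eq_zero_iff_mem.1 ?_
        rw [← Ideal.Quotient.mkₐ_eq_mk A, ← hσn]
        show πn (σ.toLinearMap e) = 0
        rw [he]
        show Ideal.Quotient.mk _ (π z) = 0
        rw [hz, map_zero]
      haveI : IsLocalHom (algebraMap A E) := by
        rw [IsScalarTower.algebraMap_eq A D E]
        haveI : IsLocalHom (algebraMap A D) :=
          ((IsLocalRing.local_hom_TFAE (algebraMap A D)).out 0 2 rfl rfl).mpr hm.le
        exact RingHom.isLocalHom_comp _ _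
      haveI : Algebra.FormallyUnramified A E := inferInstance
      rw [← Algebra.FormallyUnramified.map_maximalIdeal (R := A) (S := E), ← Ideal.map_pow] at he0
      have h2 : σ e ∈ (maximalIdeal A ^ n).map (algebraMap A Q) := by
        have := Ideal.mem_map_of_mem σ.toRingHom he0
        rwa [Ideal.map_map, AlgHom.toRingHom_eq_coe, σ.comp_algebraMap] at this
      refine Ideal.Quotient.eq_zero_iff_mem.1 ?_
      rw [← he]
      have h3 : σ e ∈ maximalIdeal A ^ n • (⊤ : Submodule A Q) := by
        rw [Ideal.smul_top_eq_map]; exact h2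
      rw [hbot] at h3
      exact h3
    have : z ∈ (⊥ : Ideal B) := by
      rw [← Ideal.iInf_pow_eq_bot_of_isLocalRing (maximalIdeal B) Ideal.IsPrime.ne_top']
      exact (Ideal.mem_iInf).2 hmem
    exact this
  obtain ⟨G, hG⟩ := IsNoetherian.noetherian (RingHom.ker ψ.toRingHom)
  have hkill : ∀ z ∈ G, ∃ s : qP.primeCompl, (s : P.Ring) * z = 0 := by
    intro z hz
    have hz0 : ψ z = 0 := (hG ▸ Submodule.subset_span hz : z ∈ RingHom.ker ψ.toRingHom)
    refine (IsLocalization.map_eq_zero_iff qP.primeCompl B z).1 (hinj ?_)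
    rw [hπ, hz0, map_zero]
  choose s hs using hkill
  refine ⟨P, ψ, ∏ z ∈ G.attach, (s z.1 z.2 : P.Ring), ?_, hψ, fun z hz => ?_⟩
  · rw [map_prod]
    exact IsUnit.prod_iff.2 fun z _ => IsLocalRing.notMem_maximalIdeal.1 (s z.1 z.2).2
  · have hle : Submodule.span P.Ring (G : Set P.Ring) ≤
        LinearMap.ker (LinearMap.lsmul P.Ring P.Ring (∏ z ∈ G.attach, (s z.1 z.2 : P.Ring))) :=
      Submodule.span_le.2 fun w hw => by
        show (∏ z ∈ G.attach, (s z.1 z.2 : P.Ring)) * w = 0
        rw [← Finset.prod_erase_mul _ _ (Finset.mem_attach G ⟨w, hw⟩), mul_assoc, hs w hw, mul_zero]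
    exact hle (by rw [hG]; exact hz)

end Groth.L05.StrictGalois
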