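import Groth.Agent.L05.StrictGalois.NormBaseChange
import Groth.Agent.L05.StrictGalois.Presentation
import Mathlib.RingTheory.Ideal.GoingUp
import Mathlib.RingTheory.Flat.FaithfullyFlat.Algebra

/-!
# Flatness from the behaviour of the normalization
-/

set_option autoImplicit false

open IsLocalRing Polynomial
open scoped nonZeroDivisors TensorProduct

namespace Groth.L05.StrictGalois

universe u

noncomputable section

variable (A E : Type u) [CommRing A] [CommRing E] [Algebra A E]

/-- `(nonZeroDivisors A)⁻¹ D` inside the total ring of fractions of `E`. -/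
def locSub (D : Subalgebra A E) : Subalgebra D (FractionRing E) where
  carrier := {x | ∃ a ∈ A⁰, ∃ d ∈ D, algebraMap A (FractionRing E) a * x = algebraMap E (FractionRing E) d}
  mul_mem' := by
    rintro x y ⟨a, ha, d, hd, h⟩ ⟨b, hb, d', hd', h'⟩
    refine ⟨a * b, mul_mem ha hb, d * d', mul_mem hd hd', ?_⟩
    rw [map_mul, map_mul, ← h, ← h']
    ring
  add_mem' := by
    rintro x y ⟨a, ha, d, hd, h⟩ ⟨b, hb, d', hd', h'⟩
    refine ⟨a * b, mul_mem ha hb, algebraMap A E b * d + algebraMap A E a * d',
      add_mem (mul_mem (D.algebraMap_mem b) hd) (mul_mem (D.algebraMap_mem a) hd'), ?_⟩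
    rw [map_mul, map_add, map_mul, map_mul, ← h, ← h', ← IsScalarTower.algebraMap_apply,
      ← IsScalarTower.algebraMap_apply]
    ring
  algebraMap_mem' := fun r => ⟨1, one_mem _, r, r.2, by
    rw [map_one, one_mul]
    rfl⟩

theorem mem_locSub {D : Subalgebra A E} {x : FractionRing E} :
    x ∈ locSub A E D ↔ ∃ a ∈ A⁰, ∃ d ∈ D, algebraMap A (FractionRing E) a * x = algebraMap E (FractionRing E) d :=
  Iff.rfl

variable {A E}

theorem isArtinianRing_locSub [IsLocalRing A] [IsReduced A] [Module.Flat A E]
    (hmin : (minimalPrimes A).Finite) (hE : EGA4loc.IsEssentiallyEtale A E) (D : Subalgebra A E) :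
    IsArtinianRing (locSub A E D) := by
  letI := fracAlgebra A E
  haveI := fracTower A E
  haveI := finite_frac hmin hE
  haveI := isArtinianRing_fractionRing_of_finite A hmin
  let LK : Subalgebra (FractionRing A) (FractionRing E) :=
    { (locSub A E D).toSubsemiring with
      algebraMap_mem' := fun l => by
        obtain ⟨b, s, rfl⟩ := IsLocalization.exists_mk'_eq A⁰ l
        refine ⟨s, s.2, algebraMap A E b, D.algebraMap_mem b, ?_⟩
        rw [IsScalarTower.algebraMap_apply A (FractionRing A) (FractionRing E), ← map_mul, mul_comm,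
          IsLocalization.mk'_spec, ← IsScalarTower.algebraMap_apply, ← IsScalarTower.algebraMap_apply] }
  haveI : IsNoetherian (FractionRing A) (FractionRing E) :=
    isNoetherian_of_isNoetherianRing_of_finite (FractionRing A) (FractionRing E)
  haveI : Module.Finite (FractionRing A) LK :=
    Module.Finite.of_injective LK.val.toLinearMap Subtype.val_injective
  haveI : IsArtinianRing LK := IsArtinianRing.of_finite (FractionRing A) LK
  exact RingEquiv.isArtinianRing (({ Equiv.refl _ with
    map_mul' := fun _ _ => rfl, map_add' := fun _ _ => rfl }) : LK ≃+* locSub A E D)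

/-- The normalization of a subalgebra inside the total ring of fractions. -/
abbrev normSub (D : Subalgebra A E) : Type u := integralClosure D (locSub A E D)

variable [IsLocalRing A] [IsLocalRing E] [IsLocalHom (algebraMap A E)]

/-- Compatible points of `D'` and `E` extend to the normalization of `E`. -/
theorem exists_extend [IsReduced A] [Module.Flat A E] (hmin : (minimalPrimes A).Finite)
    (hE : EGA4loc.IsEssentiallyEtale A E) (D : Subalgebra A E) [IsLocalRing D]
    [IsLocalHom (algebraMap D E)]
    (hJ : ∀ x : normSub D, ∃ y : normSub D,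
      ((y : locSub A E D) : FractionRing E) ∈ Algebra.adjoin A
        (Set.range (normIncl A E) ∪ algebraMap E (FractionRing E) '' (D : Set E)) ∧
      x - y ∈ Ideal.jacobson (⊥ : Ideal (normSub D)))
    (hA0 : ∀ a, normIncl A E a ∈ locSub A E D)
    {Ω : Type u} [Field Ω] [Algebra A Ω] (χ : normSub D →+* Ω) (e : E →ₐ[A] Ω)
    (hχ : (RingHom.ker χ).IsMaximal) (he : ∀ z ∈ maximalIdeal E, e z = 0)
    (hD : ∀ d : D, χ (algebraMap D (normSub D) d) = e (d : E)) :
    ∃ h : integralClosure E (FractionRing E) →+* Ω, (RingHom.ker h).IsMaximal ∧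
      (∀ z : E, h (algebraMap E _ z) = e z) ∧
      ∀ (x : normSub D) (hx : ((x : locSub A E D) : FractionRing E) ∈ integralClosure E (FractionRing E)),
        h ⟨_, hx⟩ = χ x := by
  classical
  have hint : ∀ a, IsIntegral D (⟨normIncl A E a, hA0 a⟩ : locSub A E D) := fun a => by
    refine (isIntegral_algHom_iff ((locSub A E D).val.restrictScalars D) Subtype.val_injective).1 ?_
    exact ((Algebra.IsIntegral.isIntegral (R := A) a).map (normIncl A E)).tower_top
  let ι₀ : integralClosure A (FractionRing A) →+* normSub D :=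
    { toFun := fun a => ⟨⟨normIncl A E a, hA0 a⟩, hint a⟩
      map_one' := Subtype.ext (Subtype.ext (map_one _))
      map_mul' := fun a b => Subtype.ext (Subtype.ext (map_mul _ a b))
      map_zero' := Subtype.ext (Subtype.ext (map_zero _))
      map_add' := fun a b => Subtype.ext (Subtype.ext (map_add _ a b)) }
  let χA : integralClosure A (FractionRing A) →ₐ[A] Ω :=
    { χ.comp ι₀ with
      commutes' := fun r => by
        show χ (ι₀ (algebraMap A _ r)) = _
        rw [show ι₀ (algebraMap A _ r) = algebraMap D (normSub D) (algebraMap A D r) from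
          Subtype.ext (Subtype.ext (((normIncl A E).commutes r).trans
            (IsScalarTower.algebraMap_apply A D (FractionRing E) r))), hD]
        exact e.commutes r }
  let nm : integralClosure A (FractionRing A) ⊗[A] E →+* integralClosure E (FractionRing E) :=
    (normMap A E).toRingHom.codRestrict _ (isIntegral_normMap A E)
  have hnm : Function.Bijective nm := ⟨fun a b h => normMap_injective A E (congrArg Subtype.val h),
    fun x => by
      obtain ⟨z, hz⟩ := exists_normMap_eq hmin hE x.2
      exact ⟨z, Subtype.ext hz⟩⟩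
  let eq := RingEquiv.ofBijective nm hnm
  let h : integralClosure E (FractionRing E) →+* Ω :=
    (Algebra.TensorProduct.productMap χA e).toRingHom.comp eq.symm.toRingHom
  have hh : ∀ z, h (nm z) = Algebra.TensorProduct.productMap χA e z := fun z => by
    show Algebra.TensorProduct.productMap χA e (eq.symm (eq z)) = _
    rw [eq.symm_apply_apply]
  have hhE : ∀ z : E, h (algebraMap E _ z) = e z := fun z => by
    have : nm ((1 : integralClosure A (FractionRing A)) ⊗ₜ z) = algebraMap E _ z := Subtype.ext (by
      show normMap A E _ = _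
      rw [normMap_tmul, map_one, one_mul]
      rfl)
    rw [← this, hh, Algebra.TensorProduct.productMap_apply_tmul, map_one, one_mul]
  haveI hhprime : (RingHom.ker h).IsPrime := RingHom.ker_isPrime h
  have hcomap : (RingHom.ker h).comap (algebraMap E (integralClosure E (FractionRing E))) = maximalIdeal E := by
    haveI hcp : ((RingHom.ker h).comap (algebraMap E (integralClosure E (FractionRing E)))).IsPrime :=
      Ideal.IsPrime.comap _
    refine le_antisymm (IsLocalRing.le_maximalIdeal hcp.ne_top) fun z hz => ?_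
    show h _ = 0
    rw [hhE, he z hz]
  haveI hhmax : (RingHom.ker h).IsMaximal :=
    Ideal.isMaximal_of_isIntegral_of_isMaximal_comap (R := E) _ (hcomap ▸ inferInstance)
  have hmem : ∀ x : normSub D, ((x : locSub A E D) : FractionRing E) ∈ integralClosure E (FractionRing E) :=
    fun x => (x.2.map ((locSub A E D).val.restrictScalars D)).tower_top
  let res : normSub D →+* integralClosure E (FractionRing E) :=
    { toFun := fun x => ⟨_, hmem x⟩
      map_one' := rfl
      map_mul' := fun _ _ => rfl
      map_zero' := rfl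
      map_add' := fun _ _ => rfl }
  haveI hresprime : (RingHom.ker (h.comp res)).IsPrime := RingHom.ker_isPrime _
  haveI hresmax : (RingHom.ker (h.comp res)).IsMaximal := by
    refine @Ideal.isMaximal_of_isIntegral_of_isMaximal_comap D _ (normSub D) _ _ inferInstance _ hresprime ?_
    rw [show (RingHom.ker (h.comp res)).comap (algebraMap D (normSub D)) = maximalIdeal D from Ideal.ext fun d => by
      show h (res (algebraMap D (normSub D) d)) = 0 ↔ _
      rw [show res (algebraMap D (normSub D) d) = algebraMap E _ (d : E) from rfl, hhE]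
      refine ⟨fun h0 => ?_, fun hd => he _ (map_nonunit (algebraMap D E) d hd)⟩
      by_contra hd
      exact ((IsLocalRing.notMem_maximalIdeal.1 hd).map ((e.toRingHom).comp (algebraMap D E))).ne_zero h0]
    infer_instance
  refine ⟨h, hhmax, hhE, fun x hx => ?_⟩
  obtain ⟨y, hy, hxy⟩ := hJ x
  have hzero : ∀ {g : normSub D →+* Ω}, (RingHom.ker g).IsMaximal → g x = g y := fun {g} hg => by
    rw [← sub_eq_zero, ← map_sub]
    exact (Ideal.mem_sInf.1 hxy (show RingHom.ker g ∈ {J | ⊥ ≤ J ∧ J.IsMaximal} from ⟨bot_le, hg⟩) :)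
  let V : Subalgebra A (FractionRing E) :=
    { carrier := {w | ∃ v : normSub D, ((v : locSub A E D) : FractionRing E) = w ∧ h (res v) = χ v}
      mul_mem' := by
        rintro a b ⟨v, hv, hv'⟩ ⟨w, hw, hw'⟩
        exact ⟨v * w, by rw [← hv, ← hw]; rfl, by rw [map_mul, map_mul, map_mul, hv', hw']⟩
      add_mem' := by
        rintro a b ⟨v, hv, hv'⟩ ⟨w, hw, hw'⟩
        exact ⟨v + w, by rw [← hv, ← hw]; rfl, by rw [map_add, map_add, map_add, hv', hw']⟩
      algebraMap_mem' := fun r => ⟨algebraMap D (normSub D) (algebraMap A D r),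
        (IsScalarTower.algebraMap_apply A D (FractionRing E) r).symm, by
          rw [hD]
          exact hhE _⟩ }
  have hV : Algebra.adjoin A (Set.range (normIncl A E) ∪ algebraMap E (FractionRing E) '' (D : Set E)) ≤ V := by
    refine Algebra.adjoin_le ?_
    rintro w (⟨a, rfl⟩ | ⟨d, hd, rfl⟩)
    · refine ⟨ι₀ a, rfl, ?_⟩
      have : res (ι₀ a) = nm (a ⊗ₜ 1) := Subtype.ext (by
        show normIncl A E a = normMap A E _
        rw [normMap_tmul, map_one, mul_one])
      rw [this, hh, Algebra.TensorProduct.productMap_apply_tmul, map_one, mul_one]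
      rfl
    · refine ⟨algebraMap D (normSub D) ⟨d, hd⟩, rfl, ?_⟩
      rw [hD]
      exact hhE d
  obtain ⟨v, hv, hv'⟩ := hV hy
  have hvy : v = y := Subtype.ext (Subtype.ext hv)
  subst hvy
  show h (res x) = χ x
  rw [hzero hχ, ← hv']
  exact hzero (g := h.comp res) hresmax

/-- If the normalization of `D` is generated, modulo its radical, by that of `A` and by `D`, then
`E` is flat over `D`. -/
theorem flat_of_normalization [IsReduced A] [Module.Flat A E] (hmin : (minimalPrimes A).Finite)
    (hE : EGA4loc.IsEssentiallyEtale A E) (D : Subalgebra A E) [IsLocalRing D]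
    [IsLocalHom (algebraMap D E)]
    (hJ : ∀ x : normSub D, ∃ y : normSub D,
      ((y : locSub A E D) : FractionRing E) ∈ Algebra.adjoin A
        (Set.range (normIncl A E) ∪ algebraMap E (FractionRing E) '' (D : Set E)) ∧
      x - y ∈ Ideal.jacobson (⊥ : Ideal (normSub D)))
    (hA0 : ∀ a, normIncl A E a ∈ locSub A E D) :
    Module.Flat D E := by
  classical
  haveI := formallyEtale_of_essEt hE
  haveI := essFiniteType_of_essEt hE
  haveI : Algebra.EssFiniteType D E := Algebra.EssFiniteType.of_comp A D E
  haveI : Algebra.FormallyUnramified D E := Algebra.FormallyUnramified.of_restrictScalars A D E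
  haveI := isReduced_of_essEt hE
  letI := fracAlgebra A E
  haveI := fracTower A E
  haveI := finite_frac hmin hE
  haveI := isArtinianRing_fractionRing_of_finite A hmin
  haveI : IsArtinianRing (FractionRing E) := IsArtinianRing.of_finite (FractionRing A) _
  haveI hLA := isArtinianRing_locSub hmin hE D
  haveI : IsReduced (locSub A E D) := isReduced_of_injective (locSub A E D).val Subtype.val_injective
  obtain ⟨P, ψ, hψ⟩ := exists_stdEtale_surjection D E
  let L := locSub A E D
  haveI : IsReduced (L ⊗[D] P.Ring) := Groth.L20.isReduced_of_weaklyEtale L (L ⊗[D] P.Ring)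
  haveI : Module.Finite L (L ⊗[D] P.Ring) :=
    Module.Finite.of_quasiFinite (R := L) (S := L ⊗[D] P.Ring)
  haveI : IsArtinianRing (L ⊗[D] P.Ring) := IsArtinianRing.of_finite (L : Subalgebra D (FractionRing E)) (L ⊗[D] P.Ring)
  haveI : IsArtinianRing (P.Ring ⊗[D] L) :=
    RingEquiv.isArtinianRing (Algebra.TensorProduct.comm D L P.Ring).toRingEquiv
  haveI : IsReduced (P.Ring ⊗[D] L) :=
    isReduced_of_injective (Algebra.TensorProduct.comm D P.Ring L) (AlgEquiv.injective _)
  let ΨL : P.Ring ⊗[D] L →ₐ[D] FractionRing E :=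
    Algebra.TensorProduct.productMap ((IsScalarTower.toAlgHom D E (FractionRing E)).comp ψ) L.val
  let mB : P.Ring ⊗[D] normSub D →ₐ[P.Ring] P.Ring ⊗[D] L :=
    Algebra.TensorProduct.map (AlgHom.id P.Ring P.Ring) (integralClosure D L).val
  let Ψ : P.Ring ⊗[D] normSub D →ₐ[D] FractionRing E := ΨL.comp (mB.restrictScalars D)
  have hΨ : ∀ z, Ψ z ∈ integralClosure E (FractionRing E) := fun z => by
    induction z with
    | zero => rw [map_zero]; exact zero_mem _
    | tmul p x =>
      show ΨL (mB (p ⊗ₜ x)) ∈ _
      rw [Algebra.TensorProduct.map_tmul, Algebra.TensorProduct.productMap_apply_tmul]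
      exact mul_mem ((integralClosure E (FractionRing E)).algebraMap_mem _) ((x.2.map L.val).tower_top)
    | add a b ha hb => rw [map_add]; exact add_mem ha hb
  haveI : Algebra.Smooth D P.Ring := inferInstance
  have hmB : Function.Bijective (TensorProduct.toIntegralClosure D P.Ring L) :=
    TensorProduct.toIntegralClosure_bijective_of_smooth
  haveI : Algebra.QuasiFinite D P.Ring := inferInstance
  let qP : Ideal P.Ring := (maximalIdeal E).comap ψ.toRingHom
  haveI hqP : qP.IsPrime := Ideal.IsPrime.comap _
  have hqPD : qP.comap (algebraMap D P.Ring) = maximalIdeal D := by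
    rw [Ideal.comap_comap, AlgHom.toRingHom_eq_coe, ψ.comp_algebraMap]
    exact IsLocalRing.maximalIdeal_comap (algebraMap D E)
  haveI hqPmax : qP.IsMaximal := by
    obtain ⟨M, hM, hle⟩ := Ideal.exists_le_maximal qP hqP.ne_top
    have h1 : qP = M := by
      haveI := hM.isPrime
      refine Algebra.QuasiFinite.eq_of_le_of_under_eq (R := D) _ _ hle ?_
      rw [Ideal.under_def, Ideal.under_def, hqPD]
      exact ((IsLocalRing.maximalIdeal.isMaximal D).eq_of_le (Ideal.IsPrime.ne_top (Ideal.IsPrime.comap _))
        (hqPD.symm.trans_le (Ideal.comap_mono hle)))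
    rwa [h1]
  have hkey : ∀ z : P.Ring, ψ z = 0 → ∃ t : P.Ring, IsUnit (ψ t) ∧ t * z = 0 := by
    intro z hz
    let b₀ : P.Ring ⊗[D] normSub D := z ⊗ₜ 1
    let ann : Ideal (P.Ring ⊗[D] normSub D) := LinearMap.ker (LinearMap.mulRight _ b₀ :
      (P.Ring ⊗[D] normSub D) →ₗ[P.Ring ⊗[D] normSub D] _)
    have hann : ∀ w, w ∈ ann ↔ w * b₀ = 0 := fun w => Iff.rfl
    by_contra hcon
    push Not at hcon
    have hle : ann.comap (algebraMap P.Ring (P.Ring ⊗[D] normSub D)) ≤ qP := by
      intro t ht
      by_contra htq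
      refine hcon t (IsLocalRing.notMem_maximalIdeal.1 htq) ?_
      have h2 : (t ⊗ₜ[D] (1 : normSub D)) * (z ⊗ₜ 1) = 0 := ht
      rw [Algebra.TensorProduct.tmul_mul_tmul, mul_one] at h2
      refine Algebra.TensorProduct.includeLeft_injective (S := D) (A := P.Ring) (B := normSub D)
        (fun a b h => ?_) (h2.trans (map_zero
          (Algebra.TensorProduct.includeLeft : P.Ring →ₐ[D] P.Ring ⊗[D] normSub D)).symm)
      exact Subtype.ext (IsFractionRing.injective E (FractionRing E)
        (congrArg (fun w : normSub D => ((w : L) : FractionRing E)) h))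
    haveI : Algebra.IsIntegral D (normSub D) := inferInstance
    haveI : Algebra.IsIntegral P.Ring (P.Ring ⊗[D] normSub D) :=
      Algebra.IsIntegral.tensorProduct (R := D) (A := P.Ring) (B := normSub D)
    obtain ⟨Q, hQann, hQ, hQP⟩ := Ideal.exists_ideal_over_prime_of_isIntegral qP ann hle
    haveI := hQ
    let B' := P.Ring ⊗[D] normSub D
    let Ω := FractionRing (B' ⧸ Q)
    letI : Field Ω := IsFractionRing.toField (B' ⧸ Q)
    let μ : B' →+* Ω := (algebraMap (B' ⧸ Q) Ω).comp (Ideal.Quotient.mk Q)
    have hμ : ∀ w, μ w = 0 ↔ w ∈ Q := fun w => by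
      show algebraMap (B' ⧸ Q) Ω (Ideal.Quotient.mk Q w) = 0 ↔ _
      rw [map_eq_zero_iff _ (IsFractionRing.injective (B' ⧸ Q) Ω), Ideal.Quotient.eq_zero_iff_mem]
    let π : P.Ring →+* Ω := μ.comp (algebraMap P.Ring B')
    have hπker : ∀ p, π p = 0 ↔ p ∈ qP := fun p => by
      show μ _ = 0 ↔ _
      rw [hμ, ← hQP]
      rfl
    letI : Field (P.Ring ⧸ qP) := Ideal.Quotient.field qP
    let res : P.Ring ⧸ qP →+* ResidueField E :=
      Ideal.Quotient.lift qP ((residue E).comp ψ.toRingHom) fun p hp => (residue_eq_zero_iff _).2 hp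
    have hres : Function.Bijective res := by
      refine ⟨res.injective, fun r => ?_⟩
      obtain ⟨w, rfl⟩ := residue_surjective r
      obtain ⟨y, s, hs, hys⟩ := hψ w
      have hs0 : residue E (ψ s) ≠ 0 := (residue_ne_zero_iff_isUnit _).2 hs
      refine ⟨Ideal.Quotient.mk qP y / Ideal.Quotient.mk qP s, ?_⟩
      rw [map_div₀]
      show residue E (ψ y) / residue E (ψ s) = _
      rw [← hys, map_mul, mul_div_cancel_right₀ _ hs0]
    let π' : P.Ring ⧸ qP →+* Ω := Ideal.Quotient.lift qP π fun p hp => (hπker p).2 hp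
    letI : Algebra A Ω := (π.comp ((algebraMap D P.Ring).comp (algebraMap A D))).toAlgebra
    let e₀ : E →+* Ω := (π'.comp (RingEquiv.ofBijective res hres).symm.toRingHom).comp (residue E)
    have he₀ : ∀ p, e₀ (ψ p) = π p := fun p => by
      show π' ((RingEquiv.ofBijective res hres).symm (residue E (ψ p))) = _
      rw [show residue E (ψ p) = RingEquiv.ofBijective res hres (Ideal.Quotient.mk qP p) from rfl,
        RingEquiv.symm_apply_apply]
      rfl
    let e : E →ₐ[A] Ω :=
      { e₀ with
        commutes' := fun r => by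
          show e₀ (algebraMap A E r) = π (algebraMap D P.Ring (algebraMap A D r))
          rw [← he₀, ψ.commutes, ← IsScalarTower.algebraMap_apply] }
    let χ : normSub D →+* Ω := μ.comp (Algebra.TensorProduct.includeRight : normSub D →ₐ[D] B').toRingHom
    have hχD : ∀ d : D, χ (algebraMap D (normSub D) d) = π (algebraMap D P.Ring d) := fun d => by
      show μ ((Algebra.TensorProduct.includeRight : normSub D →ₐ[D] B') (algebraMap D (normSub D) d)) =
        μ (algebraMap P.Ring B' (algebraMap D P.Ring d))
      rw [AlgHom.commutes, ← IsScalarTower.algebraMap_apply]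
    haveI hχprime : (RingHom.ker χ).IsPrime := RingHom.ker_isPrime _
    have hχmax : (RingHom.ker χ).IsMaximal := by
      refine @Ideal.isMaximal_of_isIntegral_of_isMaximal_comap D _ (normSub D) _ _ inferInstance _ hχprime ?_
      rw [show (RingHom.ker χ).comap (algebraMap D (normSub D)) = maximalIdeal D from Ideal.ext fun d => by
        show χ (algebraMap D (normSub D) d) = 0 ↔ _
        rw [hχD, hπker, ← hqPD]
        rfl]
      infer_instance
    have heD : ∀ d : D, χ (algebraMap D (normSub D) d) = e (d : E) := fun d => by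
      rw [hχD, ← he₀, ψ.commutes]
      rfl
    have hem : ∀ w ∈ maximalIdeal E, e w = 0 := fun w hw => by
      show π' ((RingEquiv.ofBijective res hres).symm (residue E w)) = 0
      rw [(residue_eq_zero_iff w).2 hw, map_zero, map_zero]
    obtain ⟨h, hhmax, hhE, hhχ⟩ := exists_extend hmin hE D hJ hA0 χ e hχmax hem heD
    have hhΨ : ∀ w : B', h ⟨Ψ w, hΨ w⟩ = μ w := by
      intro w
      induction w using TensorProduct.induction_on with
      | zero =>
        rw [map_zero μ, show (⟨Ψ 0, hΨ 0⟩ : integralClosure E (FractionRing E)) = 0 from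
          Subtype.ext (map_zero Ψ), map_zero]
      | tmul p x =>
        have hx' : ((x : L) : FractionRing E) ∈ integralClosure E (FractionRing E) := (x.2.map L.val).tower_top
        rw [show (⟨Ψ (p ⊗ₜ x), hΨ _⟩ : integralClosure E (FractionRing E)) =
          algebraMap E _ (ψ p) * ⟨_, hx'⟩ from Subtype.ext (by
            show ΨL (mB (p ⊗ₜ x)) = _
            rw [Algebra.TensorProduct.map_tmul, Algebra.TensorProduct.productMap_apply_tmul]
            rfl), map_mul, hhE, hhχ x hx', show e (ψ p) = π p from he₀ p]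
        show μ (p ⊗ₜ 1) * μ (1 ⊗ₜ x) = _
        rw [← map_mul, Algebra.TensorProduct.tmul_mul_tmul, mul_one, one_mul]
      | add a b ha hb =>
        rw [map_add μ, show (⟨Ψ (a + b), hΨ _⟩ : integralClosure E (FractionRing E)) =
          ⟨Ψ a, hΨ a⟩ + ⟨Ψ b, hΨ b⟩ from Subtype.ext (map_add Ψ a b), map_add, ha, hb]
    -- a point of the total ring of fractions inside the maximal ideal
    haveI : Fintype (MaximalSpectrum (FractionRing E)) := Fintype.ofFinite _
    obtain ⟨Mt, hMt⟩ : ∃ Mt : MaximalSpectrum (FractionRing E),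
        Mt.asIdeal.comap (integralClosure E (FractionRing E)).val.toRingHom ≤ RingHom.ker h := by
      have hle : (Finset.univ : Finset (MaximalSpectrum (FractionRing E))).inf
          (fun Mt => Mt.asIdeal.comap (integralClosure E (FractionRing E)).val.toRingHom) ≤ RingHom.ker h :=
        fun w hw => by
          have : w = 0 := Subtype.ext ((IsArtinianRing.equivPi (FractionRing E)).injective (funext fun Mt => by
            rw [show ((0 : integralClosure E (FractionRing E)) : FractionRing E) = 0 from rfl, map_zero]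
            exact Ideal.Quotient.eq_zero_iff_mem.2 ((Finset.inf_le
              (f := fun Mt : MaximalSpectrum (FractionRing E) =>
                Mt.asIdeal.comap (integralClosure E (FractionRing E)).val.toRingHom)
              (Finset.mem_univ Mt)) hw)))
          rw [this]
          exact Submodule.zero_mem _
      obtain ⟨Mt, -, hMt⟩ := (Ideal.IsPrime.inf_le' hhmax.isPrime).1 hle
      exact ⟨Mt, hMt⟩
    let R₁ : Ideal (P.Ring ⊗[D] L) := Mt.asIdeal.comap ΨL.toRingHom
    haveI := Mt.isMaximal
    haveI : R₁.IsPrime := Ideal.IsPrime.comap _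
    haveI : R₁.IsMaximal := IsArtinianRing.isMaximal_of_isPrime R₁
    let P₁ : MaximalSpectrum (P.Ring ⊗[D] L) := ⟨R₁, inferInstance⟩
    let ε : P.Ring ⊗[D] L := (IsArtinianRing.equivPi _).symm (Pi.single P₁ 1)
    have hε : ∀ R : MaximalSpectrum (P.Ring ⊗[D] L), Ideal.Quotient.mk R.asIdeal ε =
        Pi.single (M := fun R : MaximalSpectrum (P.Ring ⊗[D] L) => (P.Ring ⊗[D] L) ⧸ R.asIdeal) P₁ 1 R :=
      fun R => congrFun ((IsArtinianRing.equivPi _).apply_symm_apply _) R
    have hεid : ε * ε = ε := (IsArtinianRing.equivPi _).injective (by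
      rw [map_mul, AlgEquiv.apply_symm_apply, ← Pi.single_mul, one_mul])
    have hεint : IsIntegral P.Ring ε := ⟨X * (X - Polynomial.C 1), monic_X.mul (monic_X_sub_C 1), by
      rw [eval₂_mul, eval₂_sub, eval₂_X, eval₂_C, map_one, mul_sub, mul_one, hεid, sub_self]⟩
    obtain ⟨ε', hε'⟩ := hmB.2 ⟨ε, hεint⟩
    have hε'm : mB ε' = ε := congrArg Subtype.val hε'
    have hprod : ε' * b₀ = 0 := by
      refine hmB.1 (Subtype.ext ?_)
      show mB (ε' * b₀) = mB 0
      rw [map_mul, map_zero, hε'm]
      refine (IsArtinianRing.equivPi _).injective (funext fun R => ?_)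
      rw [map_zero]
      show Ideal.Quotient.mk R.asIdeal (ε * mB b₀) = 0
      rw [map_mul, hε R]
      by_cases hR : R = P₁
      · subst hR
        refine mul_eq_zero_of_right _ (Ideal.Quotient.eq_zero_iff_mem.2 ?_)
        show ΨL (mB b₀) ∈ Mt.asIdeal
        rw [Algebra.TensorProduct.map_tmul, Algebra.TensorProduct.productMap_apply_tmul]
        show algebraMap E (FractionRing E) (ψ z) * _ ∈ Mt.asIdeal
        rw [hz, map_zero, zero_mul]
        exact Submodule.zero_mem _
      · rw [Pi.single_eq_of_ne hR, zero_mul]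
    have hεQ : μ ε' = 0 := (hμ ε').2 (hQann ((hann ε').2 hprod))
    have hε1 : Ψ ε' - 1 ∈ Mt.asIdeal := by
      have h1 : Ideal.Quotient.mk P₁.asIdeal ε = 1 := by rw [hε P₁, Pi.single_eq_same]
      have h2 : ε - 1 ∈ R₁ := Ideal.Quotient.eq.1 (h1.trans (map_one _).symm)
      show ΨL (mB ε') - 1 ∈ _
      rw [hε'm, ← map_one ΨL, ← map_sub]
      exact h2
    have h1mem : (⟨Ψ ε', hΨ ε'⟩ - 1 : integralClosure E (FractionRing E)) ∈ RingHom.ker h :=
      hMt (show Ψ ε' - 1 ∈ Mt.asIdeal from hε1)
    rw [RingHom.mem_ker, map_sub, hhΨ, hεQ, map_one, zero_sub, neg_eq_zero] at h1mem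
    exact one_ne_zero h1mem
  let M : Submonoid P.Ring := (IsUnit.submonoid E).comap ψ.toRingHom.toMonoidHom
  letI : Algebra P.Ring E := ψ.toRingHom.toAlgebra
  haveI : IsScalarTower D P.Ring E := .of_algebraMap_eq fun r => (ψ.commutes r).symm
  haveI : IsLocalization M E := by
    refine ⟨⟨fun y => y.2, fun e => ?_, fun {a b} hab => ?_⟩⟩
    · obtain ⟨y, s, hs, h⟩ := hψ e
      exact ⟨⟨y, ⟨s, hs⟩⟩, h⟩
    · obtain ⟨t, ht, htz⟩ := hkey (a - b) (by rw [map_sub, sub_eq_zero]; exact hab)
      refine ⟨⟨t, ht⟩, ?_⟩
      show t * a = t * b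
      rw [← sub_eq_zero, ← mul_sub, htz]
  haveI : Module.Flat P.Ring E := IsLocalization.flat _ M
  exact Module.Flat.trans D P.Ring E

end

end Groth.L05.StrictGalois
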