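import Groth.Agent.L05.StrictGalois.NormFlat
import Groth.Agent.L05.StrictGalois.LocalStage
import Groth.Agent.L19.FlatComp

/-!
# Normalizations of intermediate rings of a strict henselization
-/

set_option autoImplicit false

open IsLocalRing Polynomial
open scoped nonZeroDivisors TensorProduct

namespace Groth.L05.StrictGalois

universe u

section Frac

variable {A S : Type u} [CommRing A] [IsLocalRing A] [IsReduced A] [CommRing S] [IsLocalRing S]
  [Algebra A S] [IsLocalHom (algebraMap A S)] [hS : Hensel.IsStrictHenselization A S]

include hS in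
/-- The total ring of fractions of a subalgebra maps injectively to that of the strict
henselization. -/
theorem exists_fracEmb (hmin : (minimalPrimes A).Finite) (D : Subalgebra A S) :
    ∃ j : FractionRing D →ₐ[A] FractionRing S, Function.Injective j ∧
      ∀ d : D, j (algebraMap D (FractionRing D) d) = algebraMap S (FractionRing S) (d : S) := by
  let j : FractionRing D →ₐ[A] FractionRing S :=
    IsLocalization.liftAlgHom (M := D⁰) (f := (IsScalarTower.toAlgHom A S (FractionRing S)).comp D.val)
      fun d => IsLocalization.map_units (M := S⁰) (FractionRing S)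
        ⟨_, coe_mem_nonZeroDivisors_strict (hS := hS) hmin D d.2⟩
  have hj : ∀ d : D, j (algebraMap D (FractionRing D) d) = algebraMap S (FractionRing S) (d : S) := fun d =>
    IsLocalization.lift_eq (M := D⁰) _ d
  refine ⟨j, (injective_iff_map_eq_zero j).2 fun z hz => ?_, hj⟩
  obtain ⟨c, s, rfl⟩ := IsLocalization.exists_mk'_eq D⁰ z
  have h := congrArg j (IsLocalization.mk'_spec (FractionRing D) c s)
  rw [map_mul, hz, zero_mul, hj] at h
  have hc : (c : S) = 0 := IsFractionRing.injective S (FractionRing S) (h.symm.trans (map_zero _).symm)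
  rw [show c = 0 from Subtype.ext hc, IsLocalization.mk'_zero]

end Frac

/-- Transport of integrality along an injective map over a surjection of the base rings. -/
theorem isIntegral_iff_of_semilinear {R R' T T' : Type u} [CommRing R] [CommRing R'] [CommRing T]
    [CommRing T'] [Algebra R T] [Algebra R' T'] (u : R →+* R') (hu : Function.Surjective u)
    (j : T →+* T') (hj : Function.Injective j)
    (hcomm : (algebraMap R' T').comp u = j.comp (algebraMap R T)) (x : T) :
    IsIntegral R x ↔ IsIntegral R' (j x) := by
  constructor
  · rintro ⟨p, hp, hpx⟩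
    refine ⟨p.map u, hp.map u, ?_⟩
    rw [eval₂_map, hcomm, ← hom_eval₂, hpx, map_zero]
  · rintro ⟨p, hp, hpx⟩
    obtain ⟨q, hq, -, hqm⟩ := lifts_and_natDegree_eq_and_monic (mem_lifts_of_surjective hu p) hp
    refine ⟨q, hqm, hj ?_⟩
    rw [map_zero, hom_eval₂, ← hcomm, ← eval₂_map, hq, hpx]

/-- Integrality of elements of `locSub` can be checked in the total ring of fractions. -/
theorem isIntegral_locSub_iff {A E : Type u} [CommRing A] [CommRing E] [Algebra A E]
    {D : Subalgebra A E} (y : locSub A E D) :
    IsIntegral D y ↔ IsIntegral D (y : FractionRing E) :=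
  (isIntegral_algHom_iff ((locSub A E D).val.restrictScalars D) Subtype.val_injective).symm

/-- A bijective ring map preserves the Jacobson radical. -/
theorem mem_jacobson_iff_of_bijective {R T : Type u} [CommRing R] [CommRing T] (f : R →+* T)
    (hf : Function.Bijective f) (z : R) :
    f z ∈ Ideal.jacobson (⊥ : Ideal T) ↔ z ∈ Ideal.jacobson (⊥ : Ideal R) := by
  rw [Ideal.mem_jacobson_bot, Ideal.mem_jacobson_bot]
  refine ⟨fun h y => ?_, fun h y => ?_⟩
  · have h' := h (f y)
    rw [← map_mul, ← map_one f, ← map_add] at h'
    exact (isUnit_map_iff (RingEquiv.ofBijective f hf) _).1 h'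
  · obtain ⟨y, rfl⟩ := hf.2 y
    rw [← map_mul, ← map_one f, ← map_add]
    exact (h y).map f

/-- Transport of the Jacobson radical of the normalization along a bijection. -/
theorem sub_mem_jacobson_normSub {A E : Type u} [CommRing A] [CommRing E] [Algebra A E]
    {D : Subalgebra A E} {Y : Type u} [CommRing Y] (f : normSub D →+* Y) (hf : Function.Bijective f)
    (x y : normSub D) (h : f x - f y ∈ Ideal.jacobson (⊥ : Ideal Y)) :
    x - y ∈ Ideal.jacobson (⊥ : Ideal (normSub D)) := by
  refine (mem_jacobson_iff_of_bijective f hf (x - y)).1 ?_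
  have e : f (x - y) = f x - f y := RingHom.map_sub f x y
  exact e.symm ▸ h

/-- Finiteness of the maximal spectrum along a bijection from a finite algebra. -/
theorem finite_maximal_of_bijective {D X Y : Type u} [CommRing D] [IsLocalRing D] [CommRing X]
    [Algebra D X] [Module.Finite D X] [CommRing Y] (f : X →+* Y) (hf : Function.Bijective f) :
    {N : Ideal Y | N.IsMaximal}.Finite := by
  haveI : Algebra.IsIntegral D X := Algebra.IsIntegral.of_finite D X
  haveI : Algebra.QuasiFinite D X := inferInstance
  refine Set.Finite.of_finite_image ((Algebra.QuasiFinite.finite_primesOver (S := X) (maximalIdeal D)).subset ?_)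
    (fun N _ N' _ h => ?_ : Set.InjOn (fun N : Ideal Y => N.comap f) _)
  · rintro _ ⟨N, hN, rfl⟩
    haveI : N.IsMaximal := hN
    haveI : (N.comap f).IsMaximal := Ideal.comap_isMaximal_of_surjective f hf.2
    exact ⟨Ideal.IsMaximal.isPrime inferInstance,
      ⟨(IsLocalRing.eq_maximalIdeal (Ideal.isMaximal_comap_of_isIntegral_of_isMaximal (N.comap f))).symm⟩⟩
  · exact Ideal.comap_injective_of_surjective f hf.2 h

end Groth.L05.StrictGalois
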