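import Groth.Agent.L05.Henselization.StrictUniq
import Groth.Agent.L05.Henselization.EssEt
import Groth.Agent.L05.Hensel.FiniteEtaleLift
import Groth.Agent.L05.Hensel.IntegralDomain
import Mathlib.FieldTheory.Normal.Closure
import Mathlib.FieldTheory.Galois.Basic
import Mathlib.RingTheory.Invariant.Basic
import Mathlib.RingTheory.Unramified.LocalRing

/-!
# Galois finite étale stages of a strict henselization of a henselian local ring
-/

set_option autoImplicit false

open IsLocalRing

namespace Groth.L05.StrictGalois

universe u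

open Groth.L05.Henselization

noncomputable section

/-- Over a henselian local ring, any finite subset of the strict henselization comes from a local
finite étale algebra with Galois residue extension. -/
theorem exists_galois_stage (A S : Type u) [CommRing A] [HenselianLocalRing A] [CommRing S]
    [IsLocalRing S] [Algebra A S] [IsLocalHom (algebraMap A S)]
    [hS : Hensel.IsStrictHenselization A S] (fs : Finset S) :
    ∃ (E : Type u) (_ : CommRing E) (_ : IsLocalRing E) (_ : Algebra A E)
      (_ : IsLocalHom (algebraMap A E)) (g : E →ₐ[A] S),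
      Module.Finite A E ∧ Algebra.Etale A E ∧ IsGalois (ResidueField A) (ResidueField E) ∧
      IsLocalHom g.toRingHom ∧ g.toRingHom.Flat ∧ Function.Injective g ∧
      ∀ x ∈ fs, x ∈ g.range := by
  classical
  haveI := hS.henselian
  haveI : Algebra.IsSeparable (ResidueField A) (ResidueField S) := hS.isSepClosure.separable
  haveI : IsSepClosure (ResidueField A) (ResidueField S) := hS.isSepClosure
  haveI : IsGalois (ResidueField A) (ResidueField S) := IsSepClosure.isGalois
  obtain ⟨e⟩ := strictHenselization_algEquiv A S
  obtain ⟨X, hX⟩ := exists_lift_finset (fs.image e.symm)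
  let ψ : X.R →ₐ[A] S := e.toAlgHom.comp (ι X)
  obtain ⟨s, hs⟩ := (Algebra.FiniteType.out : (⊤ : Subalgebra A X.R).FG)
  let r : X.R → ResidueField S := fun y => residue S (ψ y)
  let F₀ : IntermediateField (ResidueField A) (ResidueField S) :=
    IntermediateField.adjoin (ResidueField A) (r '' (s : Set X.R))
  haveI : FiniteDimensional (ResidueField A) F₀ :=
    IntermediateField.finiteDimensional_adjoin fun x _ => Algebra.IsIntegral.isIntegral x
  let F : IntermediateField (ResidueField A) (ResidueField S) :=
    IntermediateField.normalClosure (ResidueField A) F₀ (ResidueField S)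
  haveI : FiniteDimensional (ResidueField A) F := inferInstance
  haveI : IsGalois (ResidueField A) F := inferInstance
  have hle : F₀ ≤ F := IntermediateField.le_normalClosure F₀
  haveI : Algebra.FormallyEtale (ResidueField A) F := Algebra.FormallyEtale.of_isSeparable _ _
  haveI : Algebra.Etale (ResidueField A) F :=
    { finitePresentation := Algebra.FinitePresentation.of_finiteType.mp inferInstance }
  letI : Algebra (A ⧸ maximalIdeal A) F := inferInstanceAs (Algebra (ResidueField A) F)
  haveI : IsScalarTower A (A ⧸ maximalIdeal A) F := inferInstanceAs (IsScalarTower A (ResidueField A) F)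
  haveI : Module.Finite (A ⧸ maximalIdeal A) F := inferInstanceAs (Module.Finite (ResidueField A) F)
  haveI : Algebra.Etale (A ⧸ maximalIdeal A) F := inferInstanceAs (Algebra.Etale (ResidueField A) F)
  obtain ⟨E, _, _, θ, hfin, het, hθ, hker⟩ :=
    Groth.L05.exists_finite_etale_lift (maximalIdeal A) (C := F)
  haveI : Algebra.IsIntegral A E := Algebra.IsIntegral.of_finite A E
  have hmaxker : (RingHom.ker θ).IsMaximal := RingHom.ker_isMaximal_of_surjective θ hθ
  haveI : IsLocalRing E := by
    refine IsLocalRing.of_unique_max_ideal ⟨_, hmaxker, fun M hM => ?_⟩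
    haveI := hM
    refine (hmaxker.eq_of_le hM.ne_top ?_).symm
    rw [hker]
    refine Ideal.map_le_iff_le_comap.2 (le_of_eq ?_)
    haveI : (M.comap (algebraMap A E)).IsMaximal := Ideal.isMaximal_comap_of_isIntegral_of_isMaximal M
    exact (IsLocalRing.eq_maximalIdeal inferInstance).symm
  have hmE : RingHom.ker θ = maximalIdeal E := IsLocalRing.eq_maximalIdeal hmaxker
  haveI : IsLocalHom (algebraMap A E) :=
    ((IsLocalRing.local_hom_TFAE (algebraMap A E)).out 0 2 rfl rfl).mpr (by rw [← hker, hmE])
  haveI : HenselianLocalRing E := henselianLocalRing_of_integral (A := A) E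
  let κ : (ResidueField E) ≃ₐ[A] F :=
    (Ideal.quotientEquivAlgOfEq A hmE.symm).trans
      (Ideal.quotientKerAlgEquivOfSurjective (f := θ) hθ)
  have hκ : ∀ x : E, κ (residue E x) = θ x := fun x => rfl
  haveI : IsGalois (ResidueField A) (ResidueField E) :=
    IsGalois.of_algEquiv (AlgEquiv.extendScalarsOfSurjective (R := A) (S := ResidueField A)
      residue_surjective κ).symm
  let σ₀ : E →ₐ[A] S ⧸ maximalIdeal S := (F.val.restrictScalars A).comp θ
  obtain ⟨g, hg, -⟩ := existsUnique_algHom_lift_etale (maximalIdeal S) σ₀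
  have hgr : ∀ x : E, residue S (g x) = (θ x : ResidueField S) := fun x => DFunLike.congr_fun hg x
  haveI hgloc : IsLocalHom g.toRingHom := by
    refine ⟨fun x hx => ?_⟩
    rw [← residue_ne_zero_iff_isUnit] at hx ⊢
    intro h0
    apply hx
    show residue S (g x) = 0
    rw [hgr, ← hκ, h0, map_zero]
    rfl
  have hmem : ∀ y : X.R, r y ∈ F := by
    have hle' : (⊤ : Subalgebra A X.R) ≤
        Subalgebra.comap ((IsScalarTower.toAlgHom A S (ResidueField S)).comp ψ)
          (F.toSubalgebra.restrictScalars A) := by
      rw [← hs, Algebra.adjoin_le_iff]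
      intro y hy
      exact hle (IntermediateField.subset_adjoin _ _ ⟨y, hy, rfl⟩)
    exact fun y => hle' (Algebra.mem_top (x := y))
  let τ : X.R →ₐ[A] E ⧸ maximalIdeal E :=
    κ.symm.toAlgHom.comp
      (((IsScalarTower.toAlgHom A S (ResidueField S)).comp ψ).codRestrict
        (F.toSubalgebra.restrictScalars A) hmem)
  obtain ⟨j, hj, -⟩ := existsUnique_algHom_lift_etale (maximalIdeal E) τ
  have hgj : g.comp j = ψ := by
    refine algHom_eq_of_residue_eq _ _ fun y => ?_
    show residue S (g (j y)) = residue S (ψ y)
    rw [hgr, ← hκ, show residue E (j y) = τ y from DFunLike.congr_fun hj y]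
    exact congrArg Subtype.val (κ.apply_symm_apply _)
  haveI : Module.Flat A S := flat_of_isStrictHenselization A S
  have hflat : g.toRingHom.Flat := by
    letI : Algebra E S := g.toRingHom.toAlgebra
    haveI : IsScalarTower A E S := .of_algebraMap_eq fun a => (g.commutes a).symm
    exact Algebra.FormallyUnramified.flat_of_restrictScalars A E S
  have hinj : Function.Injective g := by
    letI : Algebra E S := g.toRingHom.toAlgebra
    haveI : IsLocalHom (algebraMap E S) := hgloc
    haveI : Module.Flat E S := hflat
    haveI : Module.FaithfullyFlat E S := Module.FaithfullyFlat.of_flat_of_isLocalHom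
    exact FaithfulSMul.algebraMap_injective E S
  refine ⟨E, inferInstance, inferInstance, inferInstance, inferInstance, g, hfin, het, inferInstance,
    hgloc, hflat, hinj, fun x hx => ?_⟩
  obtain ⟨y, hy⟩ := hX (e.symm x) (Finset.mem_image_of_mem _ hx)
  refine ⟨j y, ?_⟩
  show g (j y) = x
  rw [← AlgHom.comp_apply, hgj]
  show e (ι X y) = x
  exact (congrArg e hy).trans (e.apply_symm_apply x)

section Galois

variable (A E : Type u) [CommRing A] [HenselianLocalRing A] [CommRing E] [IsLocalRing E]
  [Algebra A E] [IsLocalHom (algebraMap A E)] [Module.Finite A E] [Algebra.Etale A E]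

theorem aut_eq_of_residue_eq (σ σ' : E ≃ₐ[A] E) (h : ∀ x, residue E (σ x) = residue E (σ' x)) :
    σ = σ' :=
  AlgEquiv.ext fun x => DFunLike.congr_fun (algHom_eq_of_residue_eq σ.toAlgHom σ'.toAlgHom h) x

theorem exists_lift_aut (f : ResidueField E ≃ₐ[ResidueField A] ResidueField E) :
    ∃ σ : E ≃ₐ[A] E, ∀ x, residue E (σ x) = f (residue E x) := by
  haveI : Algebra.IsIntegral A E := Algebra.IsIntegral.of_finite A E
  haveI : HenselianLocalRing E := henselianLocalRing_of_integral (A := A) E
  have hex : ∀ f : ResidueField E ≃ₐ[ResidueField A] ResidueField E,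
      ∃ g : E →ₐ[A] E, ∀ x, residue E (g x) = f (residue E x) := by
    intro f
    let σ₀ : E →ₐ[A] E ⧸ maximalIdeal E :=
      (f.toAlgHom.restrictScalars A).comp (IsScalarTower.toAlgHom A E (ResidueField E))
    obtain ⟨g, hg, -⟩ := existsUnique_algHom_lift_etale (maximalIdeal E) σ₀
    exact ⟨g, fun x => DFunLike.congr_fun hg x⟩
  obtain ⟨g, hg⟩ := hex f
  obtain ⟨g', hg'⟩ := hex f.symm
  refine ⟨AlgEquiv.ofAlgHom g g' (algHom_eq_of_residue_eq _ _ fun x => ?_)
    (algHom_eq_of_residue_eq _ _ fun x => ?_), hg⟩
  · show residue E (g (g' x)) = residue E x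
    rw [hg, hg', AlgEquiv.apply_symm_apply]
  · show residue E (g' (g x)) = residue E x
    rw [hg', hg, AlgEquiv.symm_apply_apply]

theorem residue_smul_algebraMap (σ : E ≃ₐ[A] E) (x : E) :
    residue E (σ x) = ResidueField.mapEquiv σ.toRingEquiv (residue E x) := rfl

/-- The residual action of an automorphism. -/
noncomputable def residueAut (σ : E ≃ₐ[A] E) :
    ResidueField E ≃ₐ[ResidueField A] ResidueField E :=
  AlgEquiv.ofRingEquiv (f := ResidueField.mapEquiv σ.toRingEquiv) fun a => by
    obtain ⟨a, rfl⟩ := residue_surjective a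
    show ResidueField.mapEquiv σ.toRingEquiv (residue E (algebraMap A E a)) = _
    rw [← residue_smul_algebraMap, σ.commutes]
    rfl

theorem residueAut_injective : Function.Injective (residueAut A E) := fun σ σ' h =>
  aut_eq_of_residue_eq A E σ σ' fun x => DFunLike.congr_fun h (residue E x)

theorem finite_aut [IsGalois (ResidueField A) (ResidueField E)] : Finite (E ≃ₐ[A] E) :=
  Finite.of_injective _ (residueAut_injective A E)

/-- A finite subgroup of automorphisms has an element of trace one. -/
theorem exists_sum_eq_one (H : Subgroup (E ≃ₐ[A] E)) [Fintype H] :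
    ∃ c : E, ∑ h : H, (h : E ≃ₐ[A] E) c = 1 := by
  let v : H → (ResidueField E →ₐ[ResidueField A] ResidueField E) := fun h =>
    (residueAut A E h).toAlgHom
  have hv : Function.Injective v := fun h h' hh => Subtype.ext (residueAut_injective A E
    (AlgEquiv.ext fun x => DFunLike.congr_fun hh x))
  have hli := (linearIndependent_toLinearMap (ResidueField A) (ResidueField E) (ResidueField E)).comp v hv
  have hne : ∑ h : H, AlgHom.toLinearMap (v h) ≠ 0 := by
    intro h0
    have := Fintype.linearIndependent_iff.1 hli (fun _ => 1) (by simpa using h0) 1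
    exact one_ne_zero this
  obtain ⟨z, hz⟩ : ∃ z, (∑ h : H, AlgHom.toLinearMap (v h)) z ≠ 0 := by
    by_contra hall
    push Not at hall
    exact hne (LinearMap.ext hall)
  obtain ⟨c, rfl⟩ := residue_surjective z
  have hu : IsUnit (∑ h : H, (h : E ≃ₐ[A] E) c) := by
    rw [← residue_ne_zero_iff_isUnit, map_sum]
    rw [LinearMap.sum_apply] at hz
    exact hz
  obtain ⟨u, hu⟩ := hu
  refine ⟨c * (↑u⁻¹ : E), ?_⟩
  have hfix : ∀ h : H, (h : E ≃ₐ[A] E) (u : E) = u := by
    intro h
    rw [hu, map_sum]
    exact Fintype.sum_equiv (Equiv.mulLeft h) _ _ fun h' => rfl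
  have hfix' : ∀ h : H, (h : E ≃ₐ[A] E) (↑u⁻¹ : E) = (↑u⁻¹ : E) := fun h => by
    refine Units.eq_inv_of_mul_eq_one_left ?_ 
    rw [← hfix h, ← map_mul, Units.mul_inv, map_one]
  calc ∑ h : H, (h : E ≃ₐ[A] E) (c * (↑u⁻¹ : E))
      = ∑ h : H, (h : E ≃ₐ[A] E) c * (↑u⁻¹ : E) :=
        Finset.sum_congr rfl fun h _ => by rw [map_mul, hfix']
    _ = (u : E) * (↑u⁻¹ : E) := by rw [← Finset.sum_mul, hu]
    _ = 1 := Units.mul_inv u

theorem isInvariant [IsNoetherianRing A] [IsGalois (ResidueField A) (ResidueField E)] :
    Algebra.IsInvariant A E (E ≃ₐ[A] E) := by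
  classical
  haveI := finite_aut A E
  letI : Fintype (E ≃ₐ[A] E) := Fintype.ofFinite _
  obtain ⟨c, hc⟩ := exists_sum_eq_one A E ⊤
  replace hc : ∑ σ : E ≃ₐ[A] E, σ c = 1 := by
    rw [← hc]
    exact (Fintype.sum_equiv Subgroup.topEquiv.toEquiv _ _ fun h => rfl).symm
  let N : Submodule A E :=
    { carrier := {x | ∀ σ : E ≃ₐ[A] E, σ x = x}
      add_mem' := fun hx hy σ => by rw [map_add, hx σ, hy σ]
      zero_mem' := fun σ => map_zero σ
      smul_mem' := fun a x hx σ => by rw [map_smul, hx σ] }
  let tr : E → E := fun y => ∑ σ : E ≃ₐ[A] E, σ y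
  have htr : ∀ y, tr y ∈ N := fun y σ => by
    rw [map_sum]
    exact Fintype.sum_equiv (Equiv.mulLeft σ) _ _ fun h' => rfl
  have hnak : N ≤ Submodule.span A {(1 : E)} ⊔ maximalIdeal A • N := by
    intro x hx
    haveI : FiniteDimensional (ResidueField A) (ResidueField E) :=
      Module.Finite.of_restrictScalars_finite A _ _
    have : residue E x ∈ (algebraMap (ResidueField A) (ResidueField E)).range := by
      rw [RingHom.mem_range]
      refine (IsGalois.mem_range_algebraMap_iff_fixed (residue E x)).2 fun f => ?_
      obtain ⟨σ, hσ⟩ := exists_lift_aut A E f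
      rw [← hσ, hx σ]
    obtain ⟨a, ha⟩ := RingHom.mem_range.1 this
    obtain ⟨a, rfl⟩ := residue_surjective a
    have hmem : x - algebraMap A E a ∈ (maximalIdeal A).map (algebraMap A E) := by
      rw [Algebra.FormallyUnramified.map_maximalIdeal, ← residue_eq_zero_iff, map_sub,
        sub_eq_zero, ← ha]
      rfl
    have key : ∀ z ∈ (maximalIdeal A).map (algebraMap A E), ∀ d : E,
        tr (d * z) ∈ maximalIdeal A • N := by
      intro z hz
      induction hz using Submodule.span_induction with
      | mem z h =>
        intro d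
        obtain ⟨b, hb, rfl⟩ := h
        have : tr (d * algebraMap A E b) = b • tr d := by
          simp only [tr, map_mul, AlgEquiv.commutes, Algebra.smul_def, Finset.mul_sum]
          exact Finset.sum_congr rfl fun σ _ => mul_comm (σ d) (algebraMap A E b)
        rw [this]
        exact Submodule.smul_mem_smul hb (htr d)
      | zero => intro d; simp [tr]
      | add z w _ _ hz hw =>
        intro d
        have : tr (d * (z + w)) = tr (d * z) + tr (d * w) := by
          simp only [tr, mul_add, map_add, Finset.sum_add_distrib]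
        rw [this]
        exact add_mem (hz d) (hw d)
      | smul a z _ hz =>
        intro d
        rw [smul_eq_mul, ← mul_assoc]
        exact hz _
    have h2 : tr (c * (x - algebraMap A E a)) = x - algebraMap A E a := by
      simp only [tr, map_mul, map_sub, AlgEquiv.commutes, hx _]
      rw [← Finset.sum_mul, hc, one_mul]
    have h3 := key _ hmem c
    rw [h2] at h3
    rw [show x = a • (1 : E) + (x - algebraMap A E a) by rw [← Algebra.algebraMap_eq_smul_one]; ring]
    exact Submodule.add_mem_sup (Submodule.smul_mem _ _ (Submodule.mem_span_singleton_self _)) h3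
  have hle : N ≤ Submodule.span A {(1 : E)} :=
    Submodule.le_of_le_smul_of_le_jacobson_bot (IsNoetherian.noetherian N)
      (IsLocalRing.maximalIdeal_le_jacobson _) hnak
  refine ⟨fun x hx => ?_⟩
  obtain ⟨a, ha⟩ := Submodule.mem_span_singleton.1 (hle hx)
  exact ⟨a, by rw [← ha, Algebra.algebraMap_eq_smul_one]⟩

end Galois

end

end Groth.L05.StrictGalois
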