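import Groth.Agent.L05.StrictGalois.Stage
import Mathlib.RingTheory.Invariant.Galois
import Mathlib.LinearAlgebra.TensorProduct.Finiteness

/-!
# Trace arguments for finite étale Galois local algebras over henselian local rings
-/

set_option autoImplicit false

open IsLocalRing
open scoped Pointwise TensorProduct

namespace Groth.L05.StrictGalois

universe u

noncomputable section

variable (A E : Type u) [CommRing A] [HenselianLocalRing A] [CommRing E] [IsLocalRing E]
  [Algebra A E] [IsLocalHom (algebraMap A E)] [Module.Finite A E] [Algebra.Etale A E]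

/-- The fixed submodule of a group of automorphisms. -/
def fixedSub (H : Subgroup (E ≃ₐ[A] E)) : Submodule A E where
  carrier := {x | ∀ σ ∈ H, σ x = x}
  add_mem' hx hy σ hσ := by rw [map_add, hx σ hσ, hy σ hσ]
  zero_mem' σ _ := map_zero σ
  smul_mem' a x hx σ hσ := by rw [map_smul, hx σ hσ]

variable {A E}

theorem mem_fixedSub {H : Subgroup (E ≃ₐ[A] E)} {x : E} :
    x ∈ fixedSub A E H ↔ ∀ σ ∈ H, σ x = x := Iff.rfl

theorem sum_mem_fixedSub (H : Subgroup (E ≃ₐ[A] E)) [Fintype H] (y : E) :
    ∑ h : H, (h : E ≃ₐ[A] E) y ∈ fixedSub A E H := fun k hk => by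
  rw [map_sum]
  exact Fintype.sum_equiv (Equiv.mulLeft (⟨k, hk⟩ : H)) _ _ fun h' => rfl

theorem eq_sum_mul (H : Subgroup (E ≃ₐ[A] E)) [Fintype H] {c x : E}
    (hc : ∑ h : H, (h : E ≃ₐ[A] E) c = 1) (hx : x ∈ fixedSub A E H) :
    ∑ h : H, (h : E ≃ₐ[A] E) (c * x) = x := by
  calc ∑ h : H, (h : E ≃ₐ[A] E) (c * x) = ∑ h : H, (h : E ≃ₐ[A] E) c * x :=
        Finset.sum_congr rfl fun h _ => by rw [map_mul, hx _ h.2]
    _ = x := by rw [← Finset.sum_mul, hc, one_mul]

/-- A fixed element of `mE` lies in `m • E^H`. -/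
theorem mem_smul_fixedSub (H : Subgroup (E ≃ₐ[A] E)) [Fintype H] {x : E}
    (hx : x ∈ fixedSub A E H) (hm : x ∈ (maximalIdeal A).map (algebraMap A E)) :
    x ∈ maximalIdeal A • fixedSub A E H := by
  obtain ⟨c, hc⟩ := exists_sum_eq_one A E H
  have key : ∀ z ∈ (maximalIdeal A).map (algebraMap A E), ∀ d : E,
      ∑ h : H, (h : E ≃ₐ[A] E) (d * z) ∈ maximalIdeal A • fixedSub A E H := by
    intro z hz
    induction hz using Submodule.span_induction with
    | mem z h =>
      intro d
      obtain ⟨b, hb, rfl⟩ := h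
      have : ∑ h : H, (h : E ≃ₐ[A] E) (d * algebraMap A E b) = b • ∑ h : H, (h : E ≃ₐ[A] E) d := by
        rw [Finset.smul_sum]
        exact Finset.sum_congr rfl fun σ _ => by
          rw [map_mul, AlgEquiv.commutes, Algebra.smul_def, mul_comm]
      rw [this]
      exact Submodule.smul_mem_smul hb (sum_mem_fixedSub H d)
    | zero => intro d; simp
    | add z w _ _ hz hw =>
      intro d
      simp only [mul_add, map_add, Finset.sum_add_distrib]
      exact add_mem (hz d) (hw d)
    | smul a z _ hz =>
      intro d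
      rw [smul_eq_mul, ← mul_assoc]
      exact hz _
  rw [← eq_sum_mul H hc hx]
  exact key x hm c

/-- A submodule of `E^H` with full residues is all of `E^H`. -/
theorem fixedSub_le [IsNoetherianRing A] (H : Subgroup (E ≃ₐ[A] E)) [Fintype H] {W : Submodule A E}
    (hW : W ≤ fixedSub A E H)
    (hres : ∀ x ∈ fixedSub A E H, ∃ w ∈ W, residue E x = residue E w) : fixedSub A E H ≤ W := by
  refine Submodule.le_of_le_smul_of_le_jacobson_bot (IsNoetherian.noetherian _)
    (IsLocalRing.maximalIdeal_le_jacobson _) fun x hx => ?_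
  obtain ⟨w, hw, hr⟩ := hres x hx
  rw [show x = w + (x - w) by ring]
  refine Submodule.add_mem_sup hw (mem_smul_fixedSub H (sub_mem hx (hW hw)) ?_)
  rw [Algebra.FormallyUnramified.map_maximalIdeal, ← residue_eq_zero_iff, map_sub, hr, sub_self]

/-- Galois splitting. -/
theorem exists_delta : ∃ s : Finset (E × E), ∀ σ : E ≃ₐ[A] E,
    (σ = 1 → ∑ i ∈ s, i.1 * σ i.2 = 1) ∧ (σ ≠ 1 → ∑ i ∈ s, i.1 * σ i.2 = 0) := by
  set el := Algebra.FormallyUnramified.elem A E with hel
  obtain ⟨s, hs⟩ := TensorProduct.exists_finset (R := A) el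
  refine ⟨s, fun σ => ?_⟩
  let l : E ⊗[A] E →ₐ[A] E :=
    Algebra.TensorProduct.lift (AlgHom.id A E) σ.toAlgHom fun _ _ => Commute.all _ _
  have hl : l el = ∑ i ∈ s, i.1 * σ i.2 := by
    rw [hs, map_sum]
    exact Finset.sum_congr rfl fun i _ => by simp [l]
  rw [← hl]
  constructor
  · rintro rfl
    have : l = Algebra.TensorProduct.lmul' A (S := E) := Algebra.TensorProduct.ext' fun a b => by simp [l]
    rw [this]
    exact Algebra.FormallyUnramified.lmul_elem
  · intro hσ
    have hmul : ∀ z : E ⊗[A] E, z * el = (Algebra.TensorProduct.lmul' A (S := E) z ⊗ₜ[A] (1 : E)) * el := by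
      intro z
      induction z using TensorProduct.induction_on with
      | zero => simp
      | tmul x y =>
        rw [show (x ⊗ₜ[A] y : E ⊗[A] E) = (x ⊗ₜ[A] 1) * (1 ⊗ₜ[A] y) by simp, mul_assoc,
          Algebra.FormallyUnramified.one_tmul_mul_elem, ← mul_assoc]
        simp [hel]
      | add x y hx hy => rw [add_mul, hx, hy, map_add, TensorProduct.add_tmul, add_mul]
    have hidem : IsIdempotentElem (l el) := by
      rw [IsIdempotentElem, ← map_mul, hmul el, Algebra.FormallyUnramified.lmul_elem,
        ← Algebra.TensorProduct.one_def, one_mul]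
    refine (IsLocalRing.isUnit_or_isUnit_one_sub_self (l el)).elim (fun h => absurd ?_ hσ) fun h => ?_
    · refine AlgEquiv.ext fun x => h.mul_left_injective ?_
      have h1 := congrArg l (Algebra.FormallyUnramified.one_tmul_mul_elem (R := A) (S := E) x)
      simpa [l] using h1
    · have := hidem.mul_one_sub_self
      exact h.mul_left_eq_zero.1 this

variable (A E) in
/-- The residual action as a homomorphism. -/
def residueAutHom : (E ≃ₐ[A] E) →* (ResidueField E ≃ₐ[ResidueField A] ResidueField E) where
  toFun := residueAut A E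
  map_one' := AlgEquiv.ext fun x => by
    obtain ⟨x, rfl⟩ := residue_surjective x
    rfl
  map_mul' σ τ := AlgEquiv.ext fun x => by
    obtain ⟨x, rfl⟩ := residue_surjective x
    rfl

theorem residueAutHom_residue (σ : E ≃ₐ[A] E) (x : E) :
    residueAutHom A E σ (residue E x) = residue E (σ x) := rfl

/-- Galois theory modulo a prime: an element fixed by every stabilizing automorphism fixing `Dset`
modulo `q` lies in the field generated by `Dset`. -/
theorem mem_closure_of_fixed [IsNoetherianRing A] [IsGalois (ResidueField A) (ResidueField E)]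
    (q : Ideal E) [q.IsPrime] (Dset : Set E) (y : E)
    (hy : ∀ σ : E ≃ₐ[A] E, σ • q = q → (∀ d ∈ Dset, σ d - d ∈ q) → σ y - y ∈ q) :
    algebraMap E q.ResidueField y ∈ Subfield.closure
      (Set.range (algebraMap A q.ResidueField) ∪ algebraMap E q.ResidueField '' Dset) := by
  set L : Subfield q.ResidueField :=
    Subfield.closure (Set.range (algebraMap A q.ResidueField) ∪ algebraMap E q.ResidueField '' Dset)
  let p : Ideal A := q.comap (algebraMap A E)
  haveI : q.LiesOver p := ⟨rfl⟩
  haveI : p.IsPrime := Ideal.IsPrime.comap _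
  haveI := isInvariant A E
  haveI := finite_aut A E
  letI : Algebra (Localization.AtPrime p) (Localization.AtPrime q) :=
    Localization.AtPrime.algebraOfLiesOver p q
  letI : Algebra (A ⧸ p) q.ResidueField :=
    ((algebraMap (E ⧸ q) q.ResidueField).comp (algebraMap (A ⧸ p) (E ⧸ q))).toAlgebra
  haveI : IsScalarTower (A ⧸ p) (E ⧸ q) q.ResidueField := .of_algebraMap_eq' rfl
  haveI : IsScalarTower (A ⧸ p) p.ResidueField q.ResidueField := .of_algebraMap_eq' (by
    ext
    simp [← IsScalarTower.algebraMap_apply, RingHom.algebraMap_toAlgebra])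
  haveI : IsGalois p.ResidueField q.ResidueField :=
    { __ := Ideal.IsFractionRing.normal (E ≃ₐ[A] E) p q p.ResidueField q.ResidueField }
  haveI : FiniteDimensional p.ResidueField q.ResidueField :=
    Ideal.IsFractionRing.finite_of_isInvariant (E ≃ₐ[A] E) p q p.ResidueField q.ResidueField
  have hκL : ∀ r : p.ResidueField, algebraMap p.ResidueField q.ResidueField r ∈ L := by
    intro r
    obtain ⟨a, b, -, rfl⟩ := IsFractionRing.div_surjective (A ⧸ p) r
    obtain ⟨a, rfl⟩ := Ideal.Quotient.mk_surjective a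
    obtain ⟨b, rfl⟩ := Ideal.Quotient.mk_surjective b
    have h : ∀ a : A, algebraMap p.ResidueField q.ResidueField
        (algebraMap (A ⧸ p) p.ResidueField (Ideal.Quotient.mk p a)) ∈ L := fun a => by
      rw [show algebraMap (A ⧸ p) p.ResidueField (Ideal.Quotient.mk p a) =
        algebraMap A p.ResidueField a from (IsScalarTower.algebraMap_apply A (A ⧸ p) p.ResidueField a).symm,
        ← IsScalarTower.algebraMap_apply]
      exact Subfield.subset_closure (Or.inl ⟨a, rfl⟩)
    rw [map_div₀]
    exact Subfield.div_mem _ (h a) (h b)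
  let LM : IntermediateField p.ResidueField q.ResidueField := L.toIntermediateField hκL
  show algebraMap E q.ResidueField y ∈ LM
  rw [← IsGalois.fixedField_fixingSubgroup LM]
  intro f
  obtain ⟨σ, hσ⟩ := IsFractionRing.stabilizerHom_surjective (E ≃ₐ[A] E) p q p.ResidueField
    q.ResidueField f.1
  have hψ : ∀ e : E, f.1 (algebraMap E q.ResidueField e) =
      algebraMap E q.ResidueField ((σ : E ≃ₐ[A] E) e) := by
    intro e
    rw [← hσ, IsScalarTower.algebraMap_apply E (E ⧸ q) q.ResidueField,
      IsScalarTower.algebraMap_apply E (E ⧸ q) q.ResidueField, Ideal.Quotient.algebraMap_eq]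
    exact IsFractionRing.stabilizerHom_apply_apply_mk _ p q p.ResidueField q.ResidueField σ e
  have hiff : ∀ a b : E, algebraMap E q.ResidueField a = algebraMap E q.ResidueField b ↔ a - b ∈ q :=
    fun a b => by rw [← sub_eq_zero, ← map_sub, Ideal.algebraMap_residueField_eq_zero]
  show f.1 (algebraMap E q.ResidueField y) = _
  rw [hψ, hiff]
  refine hy _ σ.2 fun d hd => ?_
  rw [← hiff, ← hψ]
  exact (IntermediateField.mem_fixingSubgroup_iff _ _).1 f.2 _
    (Subfield.subset_closure (Or.inr ⟨d, hd, rfl⟩) : algebraMap E q.ResidueField d ∈ L)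

end

end Groth.L05.StrictGalois
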